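import Cfsg.Agent.Base
import Cfsg.Agent.H5.FrobAction
import Cfsg.Agent.H5.ThompsonFpf
import Cfsg.Agent.H46.Coprime
import Cfsg.Agent.H46.Nil
import Cfsg.Agent.H46.Misc
import Cfsg.Agent.H10.ThompsonRed

/-! Kegel's theorem: a finite group with a splitting automorphism of prime order is nilpotent. -/

set_option autoImplicit false

open Cfsg hiding pRank
open H46 Subgroup

universe u

namespace H5

theorem prod_conj_mul_pow {G : Type*} [Group G] (x g : G) (n : ℕ) :
    ((List.range n).map fun i => g ^ i * x * (g ^ i)⁻¹).prod * g ^ n = (x * g) ^ n := by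
  induction n with
  | zero => simp
  | succ n ih =>
    rw [List.range_succ, List.map_append, List.prod_append, pow_succ (x * g), ← ih]
    simp [pow_succ, mul_assoc]

theorem mul_pow_mul_inv_mem {G : Type*} [Group G] {Y : Subgroup G} {x y : G} (hx : x ∈ Nrm Y)
    (hy : y ∈ Y) (n : ℕ) : (y * x) ^ n * (x ^ n)⁻¹ ∈ Y := by
  rw [← prod_conj_mul_pow, mul_inv_cancel_right]
  refine list_prod_mem fun w hw => ?_
  obtain ⟨i, -, rfl⟩ := List.mem_map.1 hw
  exact conj_mem_of_mem_nrm (pow_mem hx i) hy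

/-- The norm of `x` on an abelian subgroup. -/
theorem norm_eq_one {G : Type*} [Group G] {V : Subgroup G} (hV : IsMulCommutative V) {x : G} {n : ℕ}
    (hx : x ^ n = 1) (v : V) (h : ((v : G) * x) ^ n = 1) (c : ℕ → V)
    (hc : ∀ i, (c i : G) = x ^ i * v * (x ^ i)⁻¹) :
    letI : CommGroup V := { (inferInstance : Group V) with mul_comm := hV.is_comm.comm }
    ∏ i ∈ Finset.range n, c i = 1 := by
  let _ : CommGroup V := { (inferInstance : Group V) with mul_comm := hV.is_comm.comm }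
  rw [← prod_conj_mul_pow, hx, mul_one] at h
  rw [Finset.prod_eq_multiset_prod, Finset.range_val, Multiset.range, Multiset.map_coe,
    Multiset.prod_coe]
  apply Subtype.ext
  rw [SubmonoidClass.coe_list_prod, List.map_map]
  exact (congrArg List.prod (List.map_congr_left fun i _ => hc i)).trans h

/-- If the norms of all elements of the coset `Y x` vanish, then `Y` fixes all `|Y|`-th powers. -/
theorem apply_pow_card_of_norm {A V : Type*} [Group A] [CommGroup V] (φ : A →* MulAut V)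
    (Y : Subgroup A) [Finite Y] {x : A} (hx : x ∈ Nrm Y) {p : ℕ} (hp : p.Prime)
    (h1 : ∀ y ∈ Y, (y * x) ^ p = 1) (v : V)
    (h0 : ∀ y ∈ Y, ∏ i ∈ Finset.range p, φ ((y * x) ^ i) v = 1) {z : A} (hz : z ∈ Y) :
    φ z (v ^ Nat.card Y) = v ^ Nat.card Y := by
  classical
  have := Fintype.ofFinite Y
  have h2 : ∏ y : Y, ∏ i ∈ Finset.range p, φ (((y : A) * x) ^ i) v = 1 :=
    Finset.prod_eq_one fun y _ => h0 y y.2
  rw [Finset.prod_comm, ← Finset.mul_prod_erase _ _ (Finset.mem_range.2 hp.pos),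
    mul_eq_one_iff_eq_inv] at h2
  simp only [pow_zero, map_one, MulAut.one_apply, Finset.prod_const, Finset.card_univ] at h2
  rw [Nat.card_eq_fintype_card, h2, map_inv, map_prod]
  refine congrArg _ (Finset.prod_congr rfl fun i hi => ?_)
  rw [Finset.mem_erase, Finset.mem_range] at hi
  have hinj : Function.Injective fun y : Y =>
      (⟨_, mul_pow_mul_inv_mem hx y.2 i⟩ : Y) := fun a b hab => by
    have h3 : ((a : A) * x) ^ i = ((b : A) * x) ^ i := mul_right_cancel (congrArg Subtype.val hab)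
    obtain ⟨m, hm⟩ := Nat.exists_mul_mod_eq_one_of_coprime
      (Nat.coprime_of_lt_prime hi.1 hi.2 hp).symm hp.one_lt
    have h4 : ∀ w : A, w ^ p = 1 → (w ^ i) ^ m = w := fun w hw => by
      rw [← pow_mul, pow_eq_pow_mod _ hw, hm.2, pow_one]
    exact Subtype.ext (mul_right_cancel (b := x) (by rw [← h4 _ (h1 a a.2), h3, h4 _ (h1 b b.2)]))
  have h5 : ∏ y : Y, φ (((y : A) * x) ^ i) v = ∏ y : Y, (φ.comp Y.subtype) y (φ (x ^ i) v) :=
    Fintype.prod_bijective _ (Finite.injective_iff_bijective.1 hinj) _ _ fun y => by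
      change _ = φ (((y : A) * x) ^ i * (x ^ i)⁻¹) _
      rw [← MulAut.mul_apply, ← map_mul, inv_mul_cancel_right]
  rw [h5]
  exact apply_prod_apply (φ.comp Y.subtype) _ ⟨z, hz⟩

theorem le_cent_of_norm {G : Type*} [Group G] [Finite G] {V Y : Subgroup G}
    (hV : IsMulCommutative V) (hY : Y ≤ Nrm V) (hc : (Nat.card Y).Coprime (Nat.card V)) {x : G}
    (hxV : x ∈ Nrm V) (hxY : x ∈ Nrm Y) {p : ℕ} (hp : p.Prime)
    (h : ∀ v ∈ V, ∀ y ∈ Y, (v * (y * x)) ^ p = 1) : Y ≤ Cent V := by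
  let _ : CommGroup V := { (inferInstance : Group V) with mul_comm := hV.is_comm.comm }
  have h1 : ∀ y ∈ Y, (y * x) ^ p = 1 := fun y hy => by simpa using h 1 (one_mem _) y hy
  refine fun y hy => mem_cent.2 fun v hv => ?_
  obtain ⟨w, hw⟩ := (hc.symm.pow_left_bijective (G := V)).2 ⟨v, hv⟩
  have h2 := apply_pow_card_of_norm V.normalizerMonoidHom (Y.subgroupOf (Nrm V)) (x := ⟨x, hxV⟩)
    (mem_normalizer_iff.2 fun z => mem_normalizer_iff.1 hxY z) hp
    (fun y hy => Subtype.ext (h1 y hy)) w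
    (fun y hy => norm_eq_one hV (h1 y hy) w (h w w.2 y hy) _ fun _ => rfl) (z := ⟨y, hY hy⟩) hy
  rw [card_subgroupOf hY, show w ^ Nat.card Y = ⟨v, hv⟩ from hw] at h2
  exact (mul_inv_eq_iff_eq_mul.1 (show y * v * y⁻¹ = v from congrArg Subtype.val h2)).symm

theorem kegel_aux {p : ℕ} (hp : p.Prime) (n : ℕ) : ∀ (G : Type u) [Group G] [Finite G]
    (H : Subgroup G) (a : G), Nat.card H = n → a ∈ Nrm H → (∀ h ∈ H, (h * a) ^ p = 1) →
    Group.IsNilpotent H := by
  induction n using Nat.strong_induction_on with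
  | _ n ih =>
  intro G _ _ H a hn ha h
  subst hn
  have frat : ∀ r R, r.Prime → IsSylowOf r R H → ∃ k ∈ H, k * a ∈ Nrm R := fun r R hr hR =>
    let ⟨k, hk, e⟩ := sylow_trans hr (hR.cj_of_mem_nrm ha) hR
    ⟨k, hk, mem_nrm_iff_cj.2 (by rw [cj_mul, ← e])⟩
  have sub : ∀ K k, K < H → k ∈ H → k * a ∈ Nrm K → Group.IsNilpotent K := fun K k hK hk hn =>
    ih _ (card_lt_of_lt hK) G K _ rfl hn fun y hy => by
      rw [← mul_assoc]; exact h _ (mul_mem (hK.le hy) hk)
  have key : ∀ N k, N ≠ ⊥ → N ⊴ H → k ∈ H → k * a ∈ Nrm N → Group.IsNilpotent N →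
      Group.IsNilpotent H := by
    intro N k h1 hN hk hn hN'
    have hX : H ⊔ zpowers a ≤ Nrm N := sup_le hN.2 (zpowers_le.2 ((mul_mem_cancel_left (hN.2 hk)).1 hn))
    obtain ⟨V, hV, hVN⟩ := exists_minNormal_le h1 hX
    obtain ⟨q, hq, -, hV'⟩ := hV.exists_elem (sol_of_le (sol_of_nil hN') hVN)
    have hVH := hVN.trans hN.1
    have hHV := le_sup_left.trans hV.nrm
    have haV := hV.nrm (mem_sup_right (mem_zpowers a))
    have hVq := isPi_of_elem hq hV'
    obtain ⟨Q, hQ⟩ := exists_sylow hq H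
    obtain ⟨v, hv, hv1⟩ := exists_ne_one_of_ne_bot (nil_meet_cent hQ.isPi.nil (hQ.le.trans hHV)
      (by rw [inf_of_le_left (hQ.normal_le hVq ⟨hVH, hHV⟩)]; exact hV.ne_bot))
    have h2 : H ≤ Cent1 v := le_of_forall_sylow_le fun r hr _ => by
      by_cases e : r = q
      · exact ⟨Q, e ▸ hQ, le_cent1_iff.2 hv.2⟩
      obtain ⟨R, hR⟩ := exists_sylow hr H
      obtain ⟨l, hl, hl'⟩ := frat r R hr hR
      exact ⟨R, hR, (le_cent_of_norm hV'.1 (hR.le.trans hHV)
        (hR.isPi.coprime (hVq.compl_singleton e)) (mul_mem (hHV hl) haV) hl' hp fun v hv y hy => by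
          rw [← mul_assoc, ← mul_assoc]
          exact h _ (mul_mem (mul_mem (hVH hv) (hR.le hy)) hl)).trans (cent_le_cent1 hv.1.1)⟩
    have h3 := normalIn_zc H
    have h4 : a ∈ Nrm (Zc H) := nrm_zc le_rfl ha
    refine nil_of_quo_of_central (N := Zc H) inf_le_right (ih _ (card_quo_lt h3
      (ne_bot_of_mem ⟨hVH hv.1.1, le_cent1_iff.1 h2⟩ hv1)) _ _ (qel _ a) rfl (mel_mem_nrm _ ha) ?_)
    intro z hz
    obtain ⟨y, hy, hy', rfl⟩ := mem_quo.1 hz
    rw [qel, qel, ← mel_mul _ hy' h4, ← mel_pow _ (mul_mem hy' h4), h y hy, mel_one]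
  by_cases h2 : IsPi {2} H
  · exact h2.nil
  obtain ⟨q, hq, hd, hq2⟩ : ∃ q : ℕ, q.Prime ∧ q ∣ Nat.card H ∧ q ≠ 2 := by
    by_contra h3
    push Not at h3
    exact h2 h3
  by_contra hH
  have := Fact.mk hq
  obtain ⟨Q⟩ : Nonempty (Sylow q H) := inferInstance
  have h3 : NPC q H := (npc_iff hq).2 (weakThompsonNPC H q hq2 Q fun X hX hX1 => by
    obtain ⟨k, hk, hk'⟩ := frat q _ hq (isSylowOf_map_subtype Q)
    have h4 := H10.normalizer_map_le_normalizer_map_map _ H.subtype_injective _ X hk'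
    have h7 : IsPGroup q ((X.map (Q : Subgroup H).subtype).map H.subtype) :=
      ((Q.isPGroup'.to_subgroup X).map _).map _
    have h8 : (X.map (Q : Subgroup H).subtype).map H.subtype ≠ ⊥ := by
      rwa [Ne, map_eq_bot_iff_of_injective _ H.subtype_injective,
        map_eq_bot_iff_of_injective _ (subtype_injective _)]
    rw [← subgroupOf_map_subtype_self (X.map _), ← subgroupOf_normalizer_eq (map_subtype_le _),
      ← inf_subgroupOf_left]
    have h9 := map_subtype_le (X.map (Q : Subgroup H).subtype)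
    generalize (X.map (Q : Subgroup H).subtype).map H.subtype = C at h4 h7 h8 h9
    have h5 : H ⊓ Nrm C < H := lt_of_le_of_ne inf_le_left fun e =>
      hH (key C k h8 ⟨h9, inf_eq_left.1 e⟩ hk h4 h7.isNilpotent)
    have h6 := sub _ k h5 hk (nrm_inf (A := zpowers (k * a))
      (zpowers_le.2 (mul_mem (le_nrm_self hk) ha)) (nrm_nrm (zpowers_le.2 h4)) (mem_zpowers _))
    exact H7.hasNPC_of_equiv (hasNPC_of_isNilpotent q) (subgroupOfEquivOfLe inf_le_left).symm)
  have h4 : Op' q H < H := lt_of_le_of_ne (piCoreOf_le _ _) fun e =>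
    (isPi_piCoreOf {q}ᶜ H).not_dvd hq rfl (by rwa [show piCoreOf {q}ᶜ H = H from e])
  have h5 : 1 * a ∈ Nrm (Op' q H) := by rw [one_mul]; exact nrm_le_nrm_piCoreOf _ _ ha
  refine hH (key _ 1 (fun e => hH (IsPi.nil (p := q) ?_)) (piCoreOf_normalIn _ _) (one_mem _) h5
    (sub _ 1 h4 (one_mem _) h5))
  simpa using h3.isPi_compl_of_eq_bot e

/-- Kegel's theorem, for an element `a` normalising `H`. -/
theorem kegel {G : Type u} [Group G] [Finite G] {H : Subgroup G} {a : G} {p : ℕ} (hp : p.Prime)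
    (ha : a ∈ Nrm H) (h : ∀ k ∈ H, (k * a) ^ p = 1) : Group.IsNilpotent H :=
  kegel_aux hp _ G H a rfl ha h

end H5
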