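import Cfsg.Agent.Base
import Cfsg.Agent.H5.Kegel

/-! Groups with a partition: normal partitions, commuting elements, nilpotence of the components,
the norm argument. -/

set_option autoImplicit false

open Cfsg hiding pRank
open H46 Subgroup

universe u

namespace H5

/-- A non-trivial partition invariant under conjugation; `K x` is the component of `x`. -/
structure Part (G : Type*) [Group G] where
  K : G → Subgroup G
  mem : ∀ x, x ∈ K x
  eq : ∀ {x y}, y ≠ 1 → y ∈ K x → K y = K x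
  conj : ∀ g x, K (g * x * g⁻¹) = cj g (K x)
  ne_top : ∀ x, K x ≠ ⊤

variable {G : Type u} [Group G]

theorem nonempty_part (S : Set (Subgroup G)) (hS2 : ∃ H ∈ S, ∃ K ∈ S, H ≠ K)
    (hS1 : ∀ H ∈ S, H ≠ ⊥) (hpart : ∀ g : G, g ≠ 1 → ∃! H : Subgroup G, H ∈ S ∧ g ∈ H) :
    Nonempty (Part G) := by
  classical
  obtain ⟨A, hA, B, hB, hAB⟩ := hS2
  have htop : ⊤ ∉ S := fun h => by
    have key : ∀ A ∈ S, A = ⊤ := fun A hA =>
      let ⟨a, ha, ha1⟩ := exists_ne_one_of_ne_bot (hS1 A hA)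
      (hpart a ha1).unique ⟨hA, ha⟩ ⟨h, trivial⟩
    exact hAB ((key A hA).trans (key B hB).symm)
  choose! c hc hu using hpart
  let d : G → Subgroup G := fun x => if x = 1 then ⊥ else c x
  have h1 : ∀ x, x ∈ d x := fun x => by
    by_cases hx : x = 1
    · rw [hx]; exact one_mem _
    · simp only [d, if_neg hx]; exact (hc x hx).2
  have h2 : ∀ {x y}, y ≠ 1 → y ∈ d x → d y = d x := fun {x y} hy h => by
    by_cases hx : x = 1
    · simp only [d, if_pos hx] at h; exact absurd h hy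
    · simp only [d, if_neg hx, if_neg hy] at h ⊢
      exact (hu y hy _ ⟨(hc x hx).1, h⟩).symm
  have h3 : ∀ x, d x ≠ ⊤ := fun x e => by
    by_cases hx : x = 1
    · simp only [d, if_pos hx] at e
      exact hS1 A hA (eq_bot_of_le le_top e.symm)
    · simp only [d, if_neg hx] at e
      exact htop (e ▸ (hc x hx).1)
  have hm : ∀ x y, y ∈ ⨅ g, cj g⁻¹ (d (g * x * g⁻¹)) ↔ ∀ g, g * y * g⁻¹ ∈ d (g * x * g⁻¹) :=
    fun x y => by simp only [mem_iInf, mem_cj, inv_inv]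
  refine ⟨⟨fun x => ⨅ g, cj g⁻¹ (d (g * x * g⁻¹)), fun x => (hm x x).2 fun g => h1 _,
    fun {x y} hy h => iInf_congr fun g => by rw [h2 (by simpa using hy) ((hm x y).1 h g)],
    fun g x => ?_, fun x e => h3 x (eq_top_iff.2 fun y _ => ?_)⟩⟩
  · ext y
    rw [mem_cj, hm, hm]
    refine ⟨fun h k => ?_, fun h k => ?_⟩
    · simpa [mul_assoc] using h (k * g⁻¹)
    · simpa [mul_assoc] using h (k * g)
  · simpa using (hm x y).1 (e ▸ mem_top y) 1

namespace Part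
variable (P : Part G) {x y z g : G}

theorem eq_one (hy : y ∉ P.K x) (h1 : z ∈ P.K x) (h2 : z ∈ P.K y) : z = 1 := by
  by_contra h
  exact hy (((P.eq h h1).symm.trans (P.eq h h2)) ▸ P.mem y)

theorem pow_eq_one (hy : y ∉ P.K x) {n : ℕ} (h : y ^ n ∈ P.K x) : y ^ n = 1 :=
  P.eq_one hy h (pow_mem (P.mem y) n)

theorem not_mem_symm (hy : y ∉ P.K x) (hx : x ≠ 1) : x ∉ P.K y := fun h =>
  hy (P.eq hx h ▸ P.mem y)

theorem pow_eq_one_of_commute (hy : y ∉ P.K x) (hx : x ≠ 1) (hc : Commute x y) {n : ℕ}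
    (h : x ^ n = 1) : y ^ n = 1 := by
  have h1 : x * y ∉ P.K y := fun e => P.not_mem_symm hy hx ((mul_mem_cancel_right (P.mem y)).1 e)
  have h2 := P.pow_eq_one h1 (n := n) (by rw [hc.mul_pow, h, one_mul]; exact pow_mem (P.mem y) n)
  rwa [hc.mul_pow, h, one_mul] at h2

theorem orderOf_eq (hy : y ∉ P.K x) (hx : x ≠ 1) (hc : Commute x y) : orderOf y = orderOf x :=
  orderOf_eq_orderOf_iff.2 fun _ => ⟨P.pow_eq_one_of_commute (P.not_mem_symm hy hx)
    (fun e => hy (e ▸ one_mem _)) hc.symm, P.pow_eq_one_of_commute hy hx hc⟩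

theorem prime_orderOf [Finite G] (hy : y ∉ P.K x) (hx : x ≠ 1) (hc : Commute x y) :
    (orderOf x).Prime := by
  obtain ⟨w, hw, hp⟩ := exists_prime_order_mem_zpowers hx
  have hw1 : w ≠ 1 := fun e => hp.ne_one (by rw [e, orderOf_one])
  obtain ⟨k, rfl⟩ := mem_zpowers_iff.1 hw
  rwa [← P.orderOf_eq hy hx hc,
    P.orderOf_eq (by rwa [P.eq hw1 (zpow_mem (P.mem x) k)]) hw1 (hc.zpow_left k)]

theorem mem_nrm (hy : y ≠ 1) (h1 : y ∈ P.K x) (h2 : g * y * g⁻¹ ∈ P.K x) : g ∈ Nrm (P.K x) := by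
  rw [mem_nrm_iff_cj, ← P.eq hy h1, ← P.conj, P.eq (by simpa using hy) h2, P.eq hy h1]

theorem mem_nrm_of_commute (hy : y ≠ 1) (h1 : y ∈ P.K x) (h2 : Commute g y) : g ∈ Nrm (P.K x) :=
  P.mem_nrm hy h1 (by rwa [h2.eq, mul_inv_cancel_right])

theorem nrm_le {A : Subgroup G} (h1 : A ≠ ⊥) (h : A ≤ P.K x) : Nrm A ≤ Nrm (P.K x) := fun _ hg =>
  let ⟨_, ha, ha1⟩ := exists_ne_one_of_ne_bot h1
  P.mem_nrm ha1 (h ha) (h (conj_mem_of_mem_nrm hg ha))

theorem mul_pow_eq_one (hy : y ∉ P.K x) (hn : y ∈ Nrm (P.K x)) {n : ℕ} (h : y ^ n = 1) {k : G}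
    (hk : k ∈ P.K x) : (k * y) ^ n = 1 := by
  refine P.pow_eq_one (x := x) (fun e => hy ((mul_mem_cancel_left hk).1 e)) ?_
  simpa [h] using mul_pow_mul_inv_mem hn hk n

theorem frob (hx : x ≠ 1) (h : Nrm (P.K x) ≤ P.K x) : IsFrobeniusComplement (P.K x) :=
  (isFrobeniusComplement_iff _).2 ⟨ne_bot_of_mem (P.mem x) hx, P.ne_top x,
    fun _ _ h1 h2 h3 => h (P.mem_nrm h2 h1 h3)⟩

theorem exists_prime_not_mem [Finite G] (hy : y ∉ P.K x) :
    ∃ w ∈ zpowers y, w ∉ P.K x ∧ (orderOf w).Prime := by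
  obtain ⟨w, hw, hp⟩ := exists_prime_order_mem_zpowers (x := y) (fun e => hy (e ▸ one_mem _))
  exact ⟨w, hw, fun e => hp.ne_one (by
    rw [P.eq_one hy e (zpowers_le.2 (P.mem y) hw), orderOf_one]), hp⟩

theorem nil [Finite G] (h : ¬ Nrm (P.K x) ≤ P.K x) : Group.IsNilpotent (P.K x) := by
  obtain ⟨y, hy, hy'⟩ := SetLike.not_le_iff_exists.1 h
  obtain ⟨w, hw, hw', hp⟩ := P.exists_prime_not_mem hy'
  have hn := zpowers_le.2 hy hw
  exact kegel hp hn fun k hk => P.mul_pow_eq_one hw' hn (pow_orderOf_eq_one w) hk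

end Part

/-- The norm argument: `x` acts without fixed points on `Y`, which has no fixed points on `V`, and
the norm of `x` vanishes on `V`. -/
theorem pow_card_eq_one_of_norm {A V : Type*} [Group A] [CommGroup V] (φ : A →* MulAut V)
    (Y : Subgroup A) [Finite Y] {x : A} (hx : x ∈ Nrm Y) {n : ℕ} (hn : 0 < n)
    (hf : ∀ i, 0 < i → i < n → ∀ y ∈ Y, y * x ^ i = x ^ i * y → y = 1)
    (hY : ∀ v, (∀ y ∈ Y, φ y v = v) → v = 1)
    (h0 : ∀ v, ∏ i ∈ Finset.range n, φ (x ^ i) v = 1) (v : V) : v ^ Nat.card Y = 1 := by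
  classical
  have := Fintype.ofFinite Y
  have h1 : ∏ k : Y, φ (k : A)⁻¹ (∏ i ∈ Finset.range n, φ (x ^ i) (φ k v)) = 1 :=
    Finset.prod_eq_one fun k _ => by rw [h0, map_one]
  simp only [map_prod] at h1
  rw [Finset.prod_comm, ← Finset.mul_prod_erase _ _ (Finset.mem_range.2 hn)] at h1
  have h2 : ∏ i ∈ (Finset.range n).erase 0, ∏ k : Y, φ (k : A)⁻¹ (φ (x ^ i) (φ k v)) = 1 := by
    refine Finset.prod_eq_one fun i hi => ?_
    rw [Finset.mem_erase, Finset.mem_range] at hi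
    have hinj : Function.Injective (fun k : Y => k⁻¹ * ⟨x ^ i * k * (x ^ i)⁻¹,
        conj_mem_of_mem_nrm (pow_mem hx i) k.2⟩) := by
      intro a b hab
      have hab' : (a : A)⁻¹ * (x ^ i * a * (x ^ i)⁻¹) = (b : A)⁻¹ * (x ^ i * b * (x ^ i)⁻¹) :=
        congrArg Subtype.val hab
      refine mul_inv_eq_one.1 (Subtype.ext (hf i (Nat.pos_of_ne_zero hi.1) hi.2 _ (a * b⁻¹).2 ?_))
      calc (a : A) * (b : A)⁻¹ * x ^ i
          = a * ((b : A)⁻¹ * (x ^ i * b * (x ^ i)⁻¹)) * x ^ i * (b : A)⁻¹ := by group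
        _ = x ^ i * (a * (b : A)⁻¹) := by rw [← hab']; group
    rw [← hY _ fun y hy => apply_prod_apply (φ.comp Y.subtype) (φ (x ^ i) v) ⟨y, hy⟩]
    refine Fintype.prod_bijective _ (Finite.injective_iff_bijective.1 hinj) _ _ fun k => ?_
    change _ = φ ((k : A)⁻¹ * (x ^ i * k * (x ^ i)⁻¹)) _
    simp only [← MulAut.mul_apply, ← map_mul]
    congr 2
    group
  rw [h2, mul_one] at h1
  simpa [Nat.card_eq_fintype_card] using h1

end H5
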