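import Cfsg.Agent.Base
import Cfsg.Agent.H5.Part1
import Cfsg.Agent.S0205

/-! Groups with a partition: the case of a normal component equal to the Fitting subgroup. -/

set_option autoImplicit false

open Cfsg hiding pRank
open H46 Subgroup

universe u

namespace H5

/-- every element of order divisible by `p` is a `p`-element -/
def NoMix (p : ℕ) (A : Type*) [Group A] : Prop :=
  ∀ z : A, p ∣ orderOf z → ∀ r : ℕ, r.Prime → r ∣ orderOf z → r = p

section
variable {A : Type*} [Group A] {p : ℕ}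

theorem NoMix.eq_one (h : NoMix p A) {x u : A} (hc : Commute u x) (hx : p ∣ orderOf x)
    (hu : ¬ p ∣ orderOf u) : u = 1 := by
  have h1 := hc.orderOf_mul_eq_mul_orderOf_of_coprime
    (Nat.coprime_of_dvd fun k hk h1 h2 => hu (h x hx k hk h2 ▸ h1))
  by_contra h2
  obtain ⟨r, hr, hd⟩ := Nat.exists_prime_and_dvd (orderOf_eq_one_iff.not.2 h2)
  exact hu (h _ (h1 ▸ hx.mul_left _) r hr (h1 ▸ hd.mul_right _) ▸ hd)

theorem NoMix.of_surjective (h : NoMix p A) {B : Type*} [Group B] (f : A →* B)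
    (hf : Function.Surjective f) : NoMix p B := fun z hz r hr hd => by
  obtain ⟨y, rfl⟩ := hf z
  exact h y (hz.trans (orderOf_map_dvd f y)) r hr (hd.trans (orderOf_map_dvd f y))

theorem isPGroup_of_forall_prime [Finite A] {M : Subgroup A}
    (h : ∀ y ∈ M, (orderOf y).Prime → orderOf y = p) : IsPGroup p M :=
  IsPGroup.of_card (Nat.eq_prime_pow_of_unique_prime_dvd (card_pos' M).ne' fun hr hd =>
    let ⟨y, hy, e⟩ := cauchy hr hd
    e ▸ h y hy (e ▸ hr))

theorem eq_bot_of_norm [Finite A] {V : Type*} [CommGroup V] [Nontrivial V] {t : ℕ} (ht : t.Prime)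
    (hV : ∀ v : V, v ^ t = 1) (φ : A →* MulAut V) {Y : Subgroup A} (hY : ¬ t ∣ Nat.card Y) {x : A}
    (hx : x ∈ Nrm Y) (hp : (orderOf x).Prime)
    (hf : ∀ y ∈ Y, ∀ w, orderOf w = orderOf x → Commute y w → y = 1)
    (hY' : ∀ y ∈ Y, y ≠ 1 → ∀ v, φ y v = v → v = 1)
    (h0 : ∀ v, ∏ i ∈ Finset.range (orderOf x), φ (x ^ i) v = 1) : Y = ⊥ := by
  by_contra h
  obtain ⟨y, hy, hy1⟩ := exists_ne_one_of_ne_bot h
  obtain ⟨v, hv⟩ := exists_ne (1 : V)
  have := Fact.mk ht
  refine hY (orderOf_eq_prime (hV v) hv ▸ orderOf_dvd_of_pow_eq_one (pow_card_eq_one_of_norm φ Y hx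
    hp.pos (fun i h1 h2 z hz e => hf z hz _ (Nat.Coprime.orderOf_pow ?_) e)
    (fun w hw => hY' y hy hy1 w (hw y hy)) h0 v))
  exact (Nat.coprime_of_lt_prime h1.ne' h2 hp)

/-- The core lemma. -/
theorem exists_normal_isPGroup [Finite A] {V : Type*} [CommGroup V] [Finite V] [Nontrivial V]
    (hp : p.Prime) (hV : ∀ v : V, v ^ p = 1) (φ : A →* MulAut V) (hm : NoMix p A)
    (hf : ∀ y, y ≠ 1 → ¬ p ∣ orderOf y → ∀ v, φ y v = v → v = 1) {x : A} (hx : orderOf x = p)
    (h0 : ∀ v, ∏ i ∈ Finset.range p, φ (x ^ i) v = 1) :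
    ∃ M : Subgroup A, M.Normal ∧ M ≠ ⊥ ∧ IsPGroup p M := by
  obtain ⟨v, hv⟩ := exists_ne (1 : V)
  have hx1 : x ≠ 1 := fun e => hp.ne_one (by rw [← hx, e, orderOf_one])
  by_cases hk : φ.ker = ⊥
  swap
  · refine ⟨_, inferInstance, hk, isPGroup_of_forall_prime fun y hy hr => by_contra fun e => ?_⟩
    exact hv (hf y (fun e => hr.ne_one (by rw [e, orderOf_one]))
      (fun h => e ((Nat.prime_dvd_prime_iff_eq hp hr).1 h).symm) v (by rw [hy]; rfl))
  have hinj := (MonoidHom.ker_eq_bot_iff φ).1 hk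
  by_cases h2 : p = 2
  · subst h2
    refine absurd (hinj (MulEquiv.ext fun w => ?_)) hx1
    have h1 := h0 w
    rw [Finset.prod_range_succ, Finset.prod_range_one, pow_zero, pow_one, map_one,
      MulAut.one_apply, ← hV w, pow_two, mul_right_inj] at h1
    rw [h1, map_one, MulAut.one_apply]
  rcases Nat.even_or_odd (Nat.card A) with he | ho
  · have := Fact.mk Nat.prime_two
    obtain ⟨z, hz⟩ := exists_prime_orderOf_dvd_card' (G := A) 2 he.two_dvd
    have hz1 : z ≠ 1 := fun e => by simp [e] at hz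
    have hzp : ¬ p ∣ orderOf z := fun h => h2 ((Nat.prime_dvd_prime_iff_eq hp Nat.prime_two).1 (hz ▸ h))
    have h1 : ∀ w, φ z w = w⁻¹ := congrFun (MonoidHom.FixedPointFree.coe_eq_inv_of_involutive
      (φ := φ z) (hf z hz1 hzp) fun w => by
        rw [← MulAut.mul_apply, ← map_mul, ← pow_two, ← hz, pow_orderOf_eq_one, map_one,
          MulAut.one_apply])
    exact absurd (hm.eq_one (x := x) (u := z) (hinj (MulEquiv.ext fun w => by
      rw [map_mul, map_mul, MulAut.mul_apply, MulAut.mul_apply, h1, h1, map_inv]))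
      (hx ▸ dvd_rfl) hzp) hz1
  have := Cfsg.Agent.S0205.result ho
  obtain ⟨r, M, hr, hn, -, h1, -, hM, -⟩ := H2.exists_elementaryAbelian_normal_le (⊤ : Subgroup A)
    (ne_bot_of_mem (mem_top x) hx1)
  by_cases e : r = p
  · exact ⟨M, hn, h1, e ▸ hM⟩
  have := Fact.mk hr
  obtain ⟨k, hk⟩ := IsPGroup.iff_card.1 hM
  have h3 : ¬ p ∣ Nat.card M := fun h =>
    e ((Nat.prime_dvd_prime_iff_eq hp hr).1 (hp.dvd_of_dvd_pow (hk ▸ h))).symm
  have h4 : ∀ y ∈ M, ¬ p ∣ orderOf y := fun y hy h => h3 (h.trans (H46.orderOf_dvd_card hy))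
  exact absurd (eq_bot_of_norm hp hV φ h3 (le_normalizer_of_normal (mem_top x)) (hx ▸ hp)
    (fun y hy w hw e => hm.eq_one e (hw.trans hx).symm.dvd (h4 y hy))
    (fun y hy hy1 => hf y hy1 (h4 y hy)) (hx ▸ h0)) h1

end

variable {G : Type u} [Group G] [Finite G]

/-- The action of `G / C` on a normal subgroup centralised by `C`. -/
def quotAct (V C : Subgroup G) [V.Normal] [C.Normal] (h : C ≤ Cent V) : G ⧸ C →* MulAut V :=
  QuotientGroup.lift C MulAut.conjNormal fun c hc => MulEquiv.ext fun v => Subtype.ext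
    (mul_inv_eq_iff_eq_mul.2 (mem_cent.1 (h hc) v v.2).symm)

theorem exists_frob_of_fpf (K : Subgroup G) [K.Normal] (h1 : K ≠ ⊥) (h2 : K ≠ ⊤)
    (h : ∀ y, y ∉ K → ∀ k ∈ K, Commute k y → k = 1) : ∃ H : Subgroup G, IsFrobeniusComplement H := by
  obtain ⟨H, hH⟩ := exists_right_complement'_of_coprime (N := K) (Nat.coprime_of_dvd fun r hr h3 h4 => by
    have := Fact.mk hr
    let S : Sylow r G := default
    have h5 : ¬ (S : Subgroup G) ≤ K := fun e => S.not_dvd_index (h4.trans (index_dvd_of_le e))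
    obtain ⟨y, hy, hy'⟩ := SetLike.not_le_iff_exists.1 h5
    have h6 : K ⊓ S ≠ ⊥ := fun e => by
      have h7 := card_sup_of_disjoint (le_normalizer_of_normal : (S : Subgroup G) ≤ Nrm K) e
      have h8 := card_dvd_card_top (K ⊔ S)
      rw [h7, ← (S : Subgroup G).index_mul_card] at h8
      exact S.not_dvd_index (h3.trans (Nat.dvd_of_mul_dvd_mul_right (card_pos' _) h8))
    obtain ⟨k, hk, hk1⟩ := exists_ne_one_of_ne_bot
      (nil_meet_cent S.isPGroup'.isNilpotent le_normalizer_of_normal h6)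
    exact hk1 (h y hy' k hk.1.1 (mem_cent.1 hk.2 y hy).symm))
  refine ⟨H, isFrobeniusComplement_of_fpf hH h1 (fun e => h2 ?_) fun y hy hy1 =>
    inf_centralizer_eq_bot_iff.2 fun k hk => h y (fun e => hy1 ?_) k hk⟩
  · rw [← hH.sup_eq_top, e, sup_bot_eq]
  · exact hH.disjoint.le_bot ⟨e, hy⟩

theorem exists_elemAb_le_fitting {t : ℕ} (ht : t.Prime) (hd : t ∣ Nat.card (fittingSubgroup G)) :
    ∃ V : Subgroup G, V.Normal ∧ V ≠ ⊥ ∧ V ≤ fittingSubgroup G ∧ IsElementaryAbelian t V ∧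
      fittingSubgroup G ≤ Cent V := by
  have := Fact.mk ht
  obtain ⟨y, hy, e⟩ := cauchy ht hd
  have h1 : zpowers y ≤ pCore t G := H2.le_pCore_of_le_fitting
    (IsPGroup.of_card ((card_zpowers' y).trans (e.trans (pow_one t).symm))) (zpowers_le.2 hy)
  obtain ⟨V, hV, h2, h3, h4⟩ := H2.exists_minimal_normal_le (pCore t G) (ne_bot_of_le h1
    (zpowers_eq_bot.not.2 fun e' => ht.ne_one (by rw [← e, e', orderOf_one])))
  exact ⟨V, hV, h3, h2.trans (H2.pCore_le_fitting t G), H2.isElementaryAbelian_of_minimal_normal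
    ((H2.pCore_isPGroup t G).to_le h2) h4, H2.fitting_le_centralizer_of_minimal_normal h4⟩

namespace Part
variable (P : Part G) {x y z g : G}

/-- The components are nilpotent, `G` is not a Frobenius group and is generated by the elements of
order different from `p`, for every prime `p`. -/
structure Good : Prop where
  nil : ∀ x, Group.IsNilpotent (P.K x)
  nf : ∀ H : Subgroup G, ¬ IsFrobeniusComplement H
  nh : ∀ p : ℕ, p.Prime → ∀ x, ∃ g, g ∉ P.K x ∧ g ^ p ≠ 1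

omit [Finite G] in
theorem orderOf_mk {K : Subgroup G} [K.Normal] (hK : P.K x = K) (hy : y ∉ K) :
    orderOf (y : G ⧸ K) = orderOf y :=
  orderOf_eq_orderOf_iff.2 fun n => by
    rw [← QuotientGroup.mk_pow, QuotientGroup.eq_one_iff]
    exact ⟨fun h => P.pow_eq_one (hK ▸ hy) (hK ▸ h), fun h => h ▸ one_mem _⟩

theorem false_of_fitting_eq {P : Part G} (h : P.Good) (hK : P.K x = fittingSubgroup G)
    (h1 : fittingSubgroup G ≠ ⊥) : False := by
  set F := fittingSubgroup G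
  have hF : ∀ k ∈ F, k ≠ 1 → P.K k = F := fun k hk hk1 => (P.eq hk1 (hK ▸ hk)).trans hK
  obtain ⟨y, hy, k, hk, hc, hk1⟩ : ∃ y, y ∉ F ∧ ∃ k ∈ F, Commute k y ∧ k ≠ 1 := by
    by_contra h2
    push Not at h2
    obtain ⟨H, hH⟩ := exists_frob_of_fpf F h1 (hK ▸ P.ne_top x) h2
    exact h.nf H hH
  have hp := P.prime_orderOf (hF k hk hk1 ▸ hy) hk1 hc
  have hyp := P.orderOf_eq (hF k hk hk1 ▸ hy) hk1 hc
  have hpF := H46.orderOf_dvd_card hk
  generalize orderOf k = p at hp hyp hpF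
  have hsurj := QuotientGroup.mk'_surjective F
  -- the action on a normal elementary abelian subgroup
  have key : ∀ t : ℕ, t.Prime → t ∣ Nat.card F → ∃ (V : Type u) (_ : CommGroup V) (_ : Finite V)
      (_ : Nontrivial V) (φ : G ⧸ F →* MulAut V), (∀ v : V, v ^ t = 1) ∧
      (∀ y, y ≠ 1 → ¬ t ∣ orderOf y → ∀ v, φ y v = v → v = 1) ∧
      ∀ y, y ≠ 1 → ∀ v, ∏ i ∈ Finset.range (orderOf y), φ (y ^ i) v = 1 := by
    intro t ht hd
    obtain ⟨V, hV, h2, h3, h4, h5⟩ := exists_elemAb_le_fitting ht hd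
    have := Fact.mk ht
    refine ⟨V, { (inferInstance : Group V) with mul_comm := h4.1.is_comm.comm }, inferInstance,
      (nontrivial_iff_ne_bot V).2 h2, quotAct V F h5, fun v => Subtype.ext (h4.2 v v.2),
      fun y hy hd v hv => by_contra fun hv1 => ?_, fun y hy v => ?_⟩
    all_goals
      obtain ⟨y, rfl⟩ := QuotientGroup.mk_surjective y
      have hy' : y ∉ F := fun e => hy ((QuotientGroup.eq_one_iff y).2 e)
      rw [P.orderOf_mk hK hy'] at *
    · have hv1' : (v : G) ≠ 1 := fun e => hv1 (Subtype.ext e)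
      have hc : Commute (v : G) y :=
        (mul_inv_eq_iff_eq_mul.1 (show y * v * y⁻¹ = v from congrArg Subtype.val hv)).symm
      refine hd (Dvd.intro_left 1 ?_)
      rw [one_mul, P.orderOf_eq (hF _ (h3 v.2) hv1' ▸ hy') hv1' hc,
        orderOf_eq_prime (h4.2 v v.2) hv1']
    · exact norm_eq_one h4.1 (pow_orderOf_eq_one y) v (P.mul_pow_eq_one (hK ▸ hy')
        (hK ▸ le_normalizer_of_normal (mem_top y)) (pow_orderOf_eq_one y) (hK ▸ h3 v.2)) _
        fun i => by rw [← QuotientGroup.mk_pow]; rfl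
  have ha : ∀ z, z ∉ F → p ∣ orderOf z → orderOf z = p := by
    intro z hz' hz
    obtain ⟨w, hw, hwp⟩ := cauchy hp (card_zpowers' z ▸ hz)
    have hw1 : w ≠ 1 := fun e => hp.ne_one (by rw [← hwp, e, orderOf_one])
    have hwz := zpowers_le.2 (P.mem z) hw
    obtain ⟨V, hV, h2, h3, h4, -⟩ := exists_elemAb_le_fitting hp hpF
    have := Fact.mk hp
    have h5 : IsPGroup p ↥(V ⊔ zpowers w) := IsPGroup.to_sup_of_normal_left
      (H2.isPGroup_of_isElementaryAbelian h4)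
      (IsPGroup.of_card ((card_zpowers' w).trans (hwp.trans (pow_one p).symm)))
    obtain ⟨c, hc, hc1⟩ := exists_ne_one_of_ne_bot (nil_meet_cent h5.isNilpotent
      (le_normalizer_of_normal (H := V)) (by rwa [inf_of_le_left le_sup_left]))
    have h6 := P.mem_nrm_of_commute hw1 hwz (mem_cent.1 hc.2 w (mem_sup_right (mem_zpowers w))).symm
    have h7 : c * z * c⁻¹ * z⁻¹ = 1 := P.eq_one (x := x) (hK ▸ hz') (by
      rw [hK, mul_assoc, mul_assoc, ← mul_assoc z]
      exact mul_mem (h3 hc.1.1) (Normal.conj_mem inferInstance _ (inv_mem (h3 hc.1.1)) z))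
      (mul_mem (conj_mem_of_mem_nrm h6 (P.mem z)) (inv_mem (P.mem z)))
    rw [P.orderOf_eq (hF c (h3 hc.1.1) hc1 ▸ hz') hc1 (by
      rwa [mul_inv_eq_one, mul_inv_eq_iff_eq_mul] at h7), orderOf_eq_prime (h4.2 c hc.1.1) hc1]
  have hm : NoMix p (G ⧸ F) := by
    intro z hz r hr hd
    obtain ⟨z, rfl⟩ := QuotientGroup.mk_surjective z
    have hz' : z ∉ F := fun e => by
      rw [(QuotientGroup.eq_one_iff z).2 e, orderOf_one] at hz
      exact hp.not_dvd_one hz
    rw [P.orderOf_mk hK hz'] at hz hd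
    exact (Nat.prime_dvd_prime_iff_eq hr hp).1 (ha z hz' hz ▸ hd)
  have hy1 : (y : G ⧸ F) ≠ 1 := fun e => hy ((QuotientGroup.eq_one_iff y).1 e)
  have hy2 := (P.orderOf_mk hK hy).trans hyp
  obtain ⟨V, _, _, _, φ, h2, h3, h4⟩ := key p hp hpF
  obtain ⟨M, hM, hM1, hMp⟩ := exists_normal_isPGroup hp h2 φ hm h3 hy2 (hy2 ▸ h4 _ hy1)
  have := Fact.mk hp
  by_cases hFp : IsPGroup p F
  · refine hM1 ?_
    rw [← map_comap_eq_self_of_surjective hsurj M, Subgroup.map_eq_bot_iff, QuotientGroup.ker_mk']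
    exact H2.le_fitting_of_isPGroup (hMp.comap_of_ker_isPGroup _ (by rwa [QuotientGroup.ker_mk']))
  obtain ⟨t, ht, htF, htp⟩ : ∃ t : ℕ, t.Prime ∧ t ∣ Nat.card F ∧ t ≠ p := by
    by_contra h5
    push Not at h5
    exact hFp (isPGroup_of_forall_prime fun y hy hr => h5 _ hr (H46.orderOf_dvd_card hy))
  obtain ⟨g, hg, hgp⟩ := h.nh p hp x
  obtain ⟨w, hw, hw', hr⟩ := P.exists_prime_not_mem hg
  rw [hK] at hw' hg
  have hw2 := P.orderOf_mk hK hw'
  have hwp : ¬ p ∣ orderOf w := fun e =>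
    hgp (ha g hg (e.trans (orderOf_dvd_of_mem_zpowers hw)) ▸ pow_orderOf_eq_one g)
  obtain ⟨W, _, _, _, ψ, h5, h6, h7⟩ := key t ht htF
  obtain ⟨j, hj⟩ := IsPGroup.iff_card.1 hMp
  have h8 : ¬ t ∣ Nat.card M := fun e =>
    htp ((Nat.prime_dvd_prime_iff_eq ht hp).1 (ht.dvd_of_dvd_pow (hj ▸ e)))
  refine hM1 (eq_bot_of_norm ht h5 ψ h8 (le_normalizer_of_normal (mem_top (w : G ⧸ F))) (hw2 ▸ hr)
    (fun a ha b hb e => by_contra fun ha1 => ?_)
    (fun a ha ha1 => h6 a ha1 fun e => h8 (e.trans (H46.orderOf_dvd_card ha)))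
    (h7 _ fun e => hw' ((QuotientGroup.eq_one_iff w).1 e)))
  rw [hw2] at hb
  obtain ⟨i, -, hi⟩ := (Nat.dvd_prime_pow hp).1 (hj ▸ H46.orderOf_dvd_card ha)
  have h9 : p ∣ orderOf a :=
    hi ▸ dvd_pow_self p fun e' => ha1 (orderOf_eq_one_iff.1 (by rw [hi, e', pow_zero]))
  exact hr.ne_one (by rw [← hb, hm.eq_one e.symm h9 (hb ▸ hwp), orderOf_one])

end Part

end H5
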