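import Cfsg.Agent.H11.QTC2
import Cfsg.Agent.H97.QTPU
import Cfsg.Agent.H14.Local2
import Cfsg.Agent.H42.OddOrder

/-! Quasithin tower, job U: members of `ℒ(G, T)`, the uniqueness theorem (S1821) and S1851. -/

set_option autoImplicit false
set_option linter.unusedSectionVars false

namespace H5.QT

open Cfsg Subgroup H98 H11.QT H97.QT

universe u

variable {G : Type*} [Group G] [Finite G] {L K H B S T : Subgroup G}

/-- The intrinsic part of being a `𝒞`-component. -/
def Intr (L : Subgroup G) : Prop :=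
  L ≠ ⊥ ∧ ⁅L, L⁆ = L ∧ ∀ N < L, L ≤ normalizer (N : Set G) → Group.IsSolvable N

theorem intr_of_calC (h : L ∈ calC G) : Intr L :=
  ⟨C.ne_bot h, C.perf h, fun _ a b => C.solv h a b⟩

theorem Intr.map {G' : Type*} [Group G'] {f : G →* G'} (hf : Function.Injective f) (h : Intr L) :
    Intr (L.map f) := by
  refine ⟨fun e => h.1 ((map_eq_bot_iff_of_injective _ hf).1 e), perf_map f h.2.1, fun N hN hn => ?_⟩
  have e : (N.comap f).map f = N := by
    rw [map_comap_eq, inf_eq_right]
    exact hN.le.trans (map_le_range f L)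
  have h1 : N.comap f < L := by
    refine lt_of_le_of_ne ((comap_mono hN.le).trans (comap_map_eq_self_of_injective hf L).le) ?_
    intro e'
    rw [e'] at e
    exact hN.ne e.symm
  have h2 := h.2.2 _ h1 ((le_comap_map f L).trans (comap_le_normalizer_comap f hn))
  rw [← e]
  exact solv_map f h2

theorem Intr.of_map {G' : Type*} [Group G'] {f : G →* G'} (hf : Function.Injective f)
    (h : Intr (L.map f)) : Intr L := by
  refine ⟨fun e => h.1 (by rw [e, Subgroup.map_bot]),
    map_injective hf (by rw [map_commutator, h.2.1]), fun N hN hn => ?_⟩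
  have h1 : N.map f < L.map f :=
    lt_of_le_of_ne (map_mono hN.le) fun e => hN.ne (map_injective hf e)
  have h2 := h.2.2 _ h1 (map_le_normalizer_map f hn)
  exact Group.isSolvable_of_isSolvable_injective (f := f.subgroupMap N)
    (fun a b e => Subtype.ext (hf (congrArg Subtype.val e)))

theorem cc_iff (h : L ≤ H) : L.subgroupOf H ∈ calC H ↔ Intr L ∧ SubN L H := by
  have e : (L.subgroupOf H).map H.subtype = L := map_subgroupOf_eq_of_le h
  constructor
  · intro k
    refine ⟨?_, subN_of_isSubnormal_subgroupOf h (C.subnormal k)⟩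
    have := (intr_of_calC k).map H.subtype_injective
    rwa [e] at this
  · rintro ⟨k1, k2⟩
    rw [← e] at k1
    have k3 := k1.of_map H.subtype_injective
    exact calC_iff.2 ⟨k3.1, k3.2.1, k2.isSubnormal_subgroupOf, k3.2.2⟩

theorem mem_calL_iff (hT : IsSyl 2 T ⊤) :
    L ∈ calL T ↔ Intr L ∧ SubN L (L ⊔ T) ∧ pCore 2 ↥(L ⊔ T) ≠ ⊥ := by
  constructor
  · rintro ⟨h1, -, h3⟩
    exact ⟨((cc_iff le_sup_left).1 h1).1, ((cc_iff le_sup_left).1 h1).2, h3⟩
  · rintro ⟨h1, h2, h3⟩
    exact ⟨(cc_iff le_sup_left).2 ⟨h1, h2⟩, (hT.of_le le_sup_right le_top).exists_sylow, h3⟩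

/-- A perfect subgroup has no proper normal subgroup containing a Sylow 2-subgroup. -/
theorem perf_le_of_syl {M : Subgroup G} (hP : ⁅L, L⁆ = L) (hS : IsSyl 2 S L) (hSM : S ≤ M)
    (hn : L ≤ normalizer (M : Set G)) : L ≤ M := by
  have : Fact (Nat.Prime 2) := ⟨Nat.prime_two⟩
  have : (M.subgroupOf L).Normal := normal_subgroupOf_of_le_normalizer hn
  have h1 : Odd (Nat.card (L ⧸ M.subgroupOf L)) := by
    rw [← Nat.not_even_iff_odd, even_iff_two_dvd]
    exact fun h => hS.not_dvd_relIndex (h.trans (relIndex_dvd_of_le_left L hSM))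
  have h2 := H42.odd_order h1
  let f := QuotientGroup.mk' (M.subgroupOf L)
  have h3 : ⁅(⊤ : Subgroup L), (⊤ : Subgroup L)⁆ = ⊤ :=
    map_injective L.subtype_injective (by rw [map_commutator, map_subtype_top, hP])
  have h4 := H14.eq_bot_of_perfect_of_le_solvable (perf_map f h3) le_top
    (inferInstance : Group.IsSolvable (⊤ : Subgroup (L ⧸ M.subgroupOf L)))
  rw [Subgroup.map_eq_bot_iff, QuotientGroup.ker_mk'] at h4
  intro x hx
  exact h4 (mem_top (⟨x, hx⟩ : L))

theorem le_or_amb (h1 : Intr L) (h2 : SubN L B) (h3 : SubN K B) :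
    L ≤ K ∨ (K ≤ normalizer (L : Set G) ∧
      ⁅L, K⁆ ≤ L ⊓ (solvableRadical B).map B.subtype) := by
  rcases C.le_or ((cc_iff h2.le).2 ⟨h1, h2⟩) h3.isSubnormal_subgroupOf with e | ⟨e1, e2⟩
  · left
    have := map_mono (f := B.subtype) e
    rwa [map_subgroupOf_eq_of_le h2.le, map_subgroupOf_eq_of_le h3.le] at this
  · right
    have a := map_le_normalizer_map B.subtype e1
    have b := map_mono (f := B.subtype) e2
    rw [map_subgroupOf_eq_of_le h2.le, map_subgroupOf_eq_of_le h3.le] at a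
    rw [map_commutator, map_inf _ _ _ B.subtype_injective, map_subgroupOf_eq_of_le h2.le,
      map_subgroupOf_eq_of_le h3.le] at b
    exact ⟨a, b⟩

/-- A `𝒞`-component of an overgroup of a Sylow 2-subgroup lies in a `𝒞`-component. -/
theorem exists_calC_ge (hc : sSup (calC G) = perfectCore G) (hS : IsSyl 2 S ⊤) (hSB : S ≤ B)
    (h1 : Intr L) (h2 : SubN L B) : ∃ K ∈ calC G, L ≤ K := by
  have : Fact (Nat.Prime 2) := ⟨Nat.prime_two⟩
  by_contra hne
  push Not at hne
  set R := (solvableRadical B).map B.subtype with hR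
  have hRn : B ≤ normalizer (R : Set G) := le_normalizer_map_subtype _
  have hD : SubN (sSup (calC G)) ⊤ := by
    rw [hc, perfectCore_eq]
    exact SubN.of_normal le_top (normalizer_eq_top (pc (⊤ : Subgroup G))).ge
  have one : ∀ K ∈ calC G, K ⊓ S ≤ stab L (L ⊓ R) := fun K hK => by
    have a : SubN (K ⊓ B) B := (subN_top_iff.2 (C.subnormal hK)).inf_of_le le_top
    obtain ⟨b1, b2⟩ := (le_or_amb h1 h2 a).resolve_left fun e => hne K hK (e.trans inf_le_left)
    have c : K ⊓ S ≤ K ⊓ B := inf_le_inf_left K hSB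
    exact le_stab_iff.2 ⟨le_normalizer_inf (c.trans b1) ((c.trans inf_le_right).trans hRn),
      (commutator_mono le_rfl c).trans b2⟩
  have all : ∀ A : Set (Subgroup G), A.Finite → A ⊆ calC G →
      sSup A ⊓ S ≤ stab L (L ⊓ R) := by
    intro A hA
    induction A, hA using Set.Finite.induction_on with
    | empty => intro _; rw [sSup_empty]; exact inf_le_left.trans bot_le
    | @insert K A _ _ ih =>
      intro hs
      have hK : K ∈ calC G := hs (Set.mem_insert _ _)
      have hA : A ⊆ calC G := (Set.subset_insert _ _).trans hs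
      have a : SubN (sSup A) ⊤ := by
        refine (SubN.of_normal (sSup_le_sSup hA) ?_).trans hD
        rw [sSup_eq_iSup' A]
        exact le_normalizer_iSup fun i => C.sSup_le_nor (hA i.2)
      rw [sSup_insert, hS.sup_inf_eq (subN_top_iff.2 (C.subnormal hK)) a]
      exact sup_le (one K hK) (ih hA)
  have h3 : L ≤ sSup (calC G) := by
    rw [hc, perfectCore_eq]
    exact le_pc le_top h1.2.1
  obtain ⟨h4, h5⟩ := le_stab_iff.1 ((inf_le_inf_right S h3).trans (all _ (Set.toFinite _) le_rfl))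
  have hLN : L ≤ normalizer ((L ⊓ R : Subgroup G) : Set G) :=
    le_normalizer_inf le_normalizer (h2.le.trans hRn)
  have h6 : ⁅(L ⊓ R) ⊔ (L ⊓ S), L⁆ ≤ L ⊓ R :=
    commutator_sup_left_le le_normalizer h4 (commutator_le_left' hLN) (by rwa [commutator_comm])
  have h7 : IsSyl 2 (S ⊓ L) L := (hS.of_le hSB le_top).inf_subN h2
  have h8 : L ≤ (L ⊓ R) ⊔ (L ⊓ S) := perf_le_of_syl h1.2.1 h7 ((inf_comm S L).le.trans le_sup_right)
    (le_normalizer_of_commutator_le (h6.trans le_sup_left) le_rfl)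
  have h9 : L ≤ R := h1.2.1.ge.trans (((commutator_mono h8 le_rfl).trans h6).trans inf_le_right)
  exact h1.1 (H14.eq_bot_of_perfect_of_le_solvable h1.2.1 h9 (solv_map _ inferInstance))

theorem pCore_ne_bot_of_le (hT : IsSyl 2 T ⊤) (hH : pCore 2 H ≠ ⊥) (hTB : T ≤ B) (hB : B ≤ H) :
    pCore 2 B ≠ ⊥ := fun e => by
  have := pCoreOf_le_pCoreOf (p := 2) hB ((hT.of_le (hTB.trans hB) le_top).pCoreOf_le.trans hTB)
  rw [pCoreOf_eq_bot_iff.2 e, le_bot_iff, pCoreOf_eq_bot_iff] at this
  exact hH this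

/-- Lemma 1.2.4 in the ambient group. -/
theorem exists_calL_ge (hT : IsSyl 2 T ⊤) (hc : sSup (calC H) = perfectCore H) (hH : pCore 2 H ≠ ⊥)
    (hL : L ∈ calL T) (hle : L ⊔ T ≤ H) : ∃ K ∈ calL T, L ≤ K ∧ SubN K H := by
  obtain ⟨h1, h2, -⟩ := (mem_calL_iff hT).1 hL
  have hTH : T ≤ H := le_sup_right.trans hle
  have hLH : L ≤ H := le_sup_left.trans hle
  have a1 : Intr (L.subgroupOf H) :=
    Intr.of_map H.subtype_injective (by rwa [map_subgroupOf_eq_of_le hLH])
  obtain ⟨K, hK, hLK⟩ := exists_calC_ge (B := (L ⊔ T).subgroupOf H) hc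
    (hT.of_le hTH le_top).subgroupOf_top (comap_mono le_sup_right) a1 (h2.comap H.subtype)
  have a2 : SubN (K.map H.subtype) H := subN_map_subtype (C.subnormal hK)
  have a3 : K.map H.subtype ⊔ T ≤ H := sup_le a2.le hTH
  refine ⟨K.map H.subtype, (mem_calL_iff hT).2 ⟨(intr_of_calC hK).map H.subtype_injective,
    a2.of_le le_sup_left a3, pCore_ne_bot_of_le hT hH le_sup_right a3⟩, ?_, a2⟩
  have := map_mono (f := H.subtype) hLK
  rwa [map_subgroupOf_eq_of_le hLH] at this

theorem calL_charP (hQ : IsOfEvenCharacteristic G) (T : Sylow 2 G) (hL : L ∈ calL (T : Subgroup G)) :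
    CharP 2 L := by
  have : Fact (Nat.Prime 2) := ⟨Nat.prime_two⟩
  obtain ⟨-, h2, h3⟩ := (mem_calL_iff (isSyl_sylow T)).1 hL
  exact (calH_charP hQ T (H := L ⊔ T) ⟨h3, le_sup_right⟩).subN h2

theorem le_conjClosure (L T : Subgroup G) : L ≤ conjClosure L T :=
  (cj_one L).ge.trans (le_iSup (fun t : T => cj (t : G) L) 1)

theorem le_normalizer_conjClosure (L T : Subgroup G) :
    T ≤ normalizer (conjClosure L T : Set G) := fun t ht => by
  apply mem_normalizer_of_cj_le
  rw [cj_le_iff]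
  refine iSup_le fun s => ?_
  rw [← cj_le_iff]
  change cj t (cj (s : G) L) ≤ _
  rw [cj_cj]
  exact le_iSup (fun t : T => cj (t : G) L) ⟨t * s, T.mul_mem ht s.2⟩

theorem conjClosure_le (hL : L ≤ H) (hT : T ≤ H) : conjClosure L T ≤ H :=
  iSup_le fun t => cj_le_of_le_of_mem hL (hT t.2)

/-- If `N_H(L)` has index at most two then `H` normalizes `⟨L ^ T⟩`. -/
theorem le_normalizer_conjClosure_of (hT : IsSyl 2 T H) (hL : L ≤ H)
    (h : (L.subgroupOf H).Normal ∨ (normalizer (L.subgroupOf H : Set H)).index = 2) :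
    H ≤ normalizer (conjClosure L T : Set G) := by
  have : Fact (Nat.Prime 2) := ⟨Nat.prime_two⟩
  set N := (normalizer (L.subgroupOf H : Set H)).map H.subtype with hN
  have hNL : N ≤ normalizer (L : Set G) := by
    have := map_le_normalizer_map H.subtype (le_refl (normalizer (L.subgroupOf H : Set H)))
    rwa [map_subgroupOf_eq_of_le hL] at this
  have key : (normalizer (L.subgroupOf H : Set H)).Normal ∧
      ∀ x : H, x ^ 2 ∈ normalizer (L.subgroupOf H : Set H) := by
    rcases h with h | h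
    · rw [normalizer_eq_top]
      exact ⟨inferInstance, fun x => mem_top _⟩
    · exact ⟨normal_of_index_eq_two h, fun x => sq_mem_of_index_two h x⟩
  have := key.1
  have hHN : H ≤ normalizer (N : Set G) := le_normalizer_map_subtype _
  have h1 : res 2 H ≤ N := res_le_of_forall_pow fun x hx =>
    ⟨1, ⟨(⟨x, hx⟩ : H) ^ 2, key.2 _, by simp⟩⟩
  have h2 : N ≤ normalizer (conjClosure L T : Set G) := le_normalizer_iSup fun t => by
    have := cj_mono (t : G) hNL
    rwa [cj_eq_self (hHN (hT.le t.2)), cj_normalizer] at this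
  rw [← hT.sup_res]
  exact sup_le (le_normalizer_conjClosure L T) (h1.trans h2)

theorem jobU : JobU.{u} := by
  intro cs G _ _ _ hG hQ T L hL
  have : Fact (Nat.Prime 2) := ⟨Nat.prime_two⟩
  have hT := isSyl_sylow T
  obtain ⟨h1, h2, h3⟩ := (mem_calL_iff hT).1 hL.1
  have p1 : ∀ H ∈ calHOver (L ⊔ (T : Subgroup G)), L.subgroupOf H ∈ calC H := fun H hH => by
    obtain ⟨K, k1, k2, k3⟩ := exists_calL_ge hT (cs H (sqtk_of_calH hG hQ hH.1)).1 hH.1 hL.1 hH.2
    rw [hL.2 K k1 k2] at k3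
    exact (cc_iff k3.le).2 ⟨h1, k3⟩
  have hc := calL_charP hQ.2.2 T hL.1
  refine ⟨p1, H14.charP_iff_fstar.1 hc, ?_⟩
  set X := conjClosure L (T : Subgroup G) with hX
  have nor : ∀ H ∈ calHOver (L ⊔ (T : Subgroup G)), H ≤ normalizer (X : Set G) := fun H hH =>
    le_normalizer_conjClosure_of (hT.of_le (le_sup_right.trans hH.2) le_top) (le_sup_left.trans hH.2)
      (((cs H (sqtk_of_calH hG hQ hH.1)).2.2 _ (p1 H hH)).imp id fun k => k.1)
  have hn : L ⊔ (T : Subgroup G) ≤ normalizer (X : Set G) := nor _ ⟨h3, le_rfl⟩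
  have hO : pCoreOf 2 X ≠ ⊥ :=
    ((calH_charP hQ.2.2 T (H := L ⊔ T) ⟨h3, le_sup_right⟩).normal
      (conjClosure_le le_sup_left le_sup_right) hn).pCoreOf_ne_bot
      fun e => h1.1 (le_bot_iff.1 ((le_conjClosure L T).trans e.le))
  have key : ∀ N : Subgroup G, IsTwoLocal N → L ⊔ (T : Subgroup G) ≤ N → N ≤ normalizer (X : Set G) := by
    rintro _ ⟨Q, q1, q2, rfl⟩ hle
    refine nor _ ⟨fun e => q2 ?_, hle⟩
    have := le_pCoreOf q1 le_normalizer le_rfl
    rwa [pCoreOf_eq_bot_iff.2 e, le_bot_iff] at this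
  have hloc : IsTwoLocal (normalizer (pCoreOf 2 X : Set G)) := ⟨_, isPGroup_pCoreOf X, hO, rfl⟩
  have hle := normalizer_le_normalizer_pCoreOf (p := 2) X
  have e := le_antisymm hle (key _ hloc (hn.trans hle))
  rw [← e] at hloc
  ext M
  constructor
  · rintro ⟨m1, m2⟩
    exact (m1.2 _ hloc (key M m1.1 m2)).symm
  · rintro rfl
    exact ⟨⟨hloc, fun N hN k => le_antisymm (key N hN (hn.trans k)) k⟩, hn⟩

/-- A perfect subnormal subgroup acting on `Ω₁(Z(O_p(L)))` acts on `Ω₁(Z(O_p(B)))`. -/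
theorem not_cent_up {p : ℕ} [Fact p.Prime] (hP : ⁅L, L⁆ = L) (hs : SubN L B)
    (h : ⁅oz p (pCoreOf p L), L⁆ ≠ ⊥) : ⁅oz p (pCoreOf p B), L⁆ ≠ ⊥ := by
  set U := oz p (pCoreOf p L) with hU
  set R := pCoreOf p B with hR
  have hRL : R ≤ normalizer (L : Set G) := by
    have := hs.pCoreOf_le_normalizer_res (p := p)
    rwa [res_eq_self_of_perfect hP] at this
  have hLR : L ≤ normalizer (R : Set G) := le_normalizer_pCoreOf_of_le hs.le
  have hLU : L ≤ normalizer (U : Set G) := le_normalizer_oz (self_le_normalizer_pCoreOf L)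
  have hRU : R ≤ normalizer (U : Set G) := le_normalizer_oz (le_normalizer_pCoreOf hRL)
  have hUU : U ≤ centralizer (U : Set G) :=
    (oz_le_centralizer _).trans (centralizer_anti (oz_le _))
  have hUL : U ≤ L := (oz_le _).trans (pCoreOf_le L)
  have nb : ∀ V N : Subgroup G, V ≤ U → N ≤ U → V ≤ normalizer (N : Set G) := fun V N a b =>
    le_normalizer_of_le_centralizer ((a.trans hUU).trans (centralizer_anti b))
  have hRLc : ⁅R, L⁆ ≤ centralizer (U : Set G) := by
    refine le_trans ?_ (le_centralizer_oz _)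
    rw [hs.pCoreOf_eq_inf]
    exact le_inf (commutator_le_left' hLR) (commutator_le_right' hRL)
  obtain ⟨V, ⟨v0, v1, v2, v3, v4⟩, hm⟩ := WellFounded.has_min (wellFounded_lt (α := Subgroup G))
    {V | V ≠ ⊥ ∧ V ≤ U ∧ L ≤ normalizer (V : Set G) ∧ R ≤ normalizer (V : Set G) ∧ V ≤ ⁅V, L⁆}
    ⟨⁅U, L⁆, h, commutator_le_left' hLU, le_normalizer_commutator hLU le_normalizer,
      le_normalizer_commutator hRU hRL, by
        have a : ⁅U, L⁆ ≤ U := commutator_le_left' hLU
        have b : L ≤ normalizer ((⁅U, L⁆ : Subgroup G) : Set G) :=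
          le_normalizer_commutator hLU le_normalizer
        rw [commutator_comm U L]
        refine commutator_le_of_perfect hP ?_ ?_ le_rfl
        · rw [commutator_comm L U]
          exact le_normalizer_commutator b le_normalizer
        · rw [commutator_comm L U]
          exact nb _ _ le_rfl ((commutator_le_left' b).trans a)⟩
  have hVR : ⁅V, R⁆ = ⊥ := by
    by_contra e
    have a : ⁅V, R⁆ ≤ V := commutator_le_left' v3
    have b : L ≤ normalizer ((⁅V, R⁆ : Subgroup G) : Set G) := le_normalizer_commutator v2 hLR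
    have c : R ≤ normalizer ((⁅V, R⁆ : Subgroup G) : Set G) := le_normalizer_commutator v3 le_normalizer
    refine hm _ ⟨e, a.trans v1, b, c, ?_⟩
      (commutator_lt_of_isPGroup ((isPGroup_oz _).to_le v1) (isPGroup_pCoreOf B) v3 v0)
    refine (commutator_mono (v4.trans (commutator_comm V L).le) le_rfl).trans ?_
    refine three_subgroups (le_normalizer_commutator b le_normalizer)
      (nb _ _ v1 (((commutator_le_left' b).trans a).trans v1)) (le_normalizer_commutator c hRL) le_rfl ?_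
    rw [commutator_eq_bot_iff_le_centralizer.2 (hRLc.trans (centralizer_anti v1))]
    exact bot_le
  have hV : V ≤ oz p R := le_oz (H12.ea_mono (ea_oz _) v1) ((v1.trans (oz_le _)).trans hs.pCoreOf_le)
    (commutator_eq_bot_iff_le_centralizer.1 hVR)
  intro e
  exact v0 (le_bot_iff.1 (v4.trans ((commutator_mono hV le_rfl).trans e.le)))

/-- A perfect subnormal subgroup acting on `Ω₁(Z(O_p(H)))` acts on `Ω₁(Z(O_p(K)))`. -/
theorem not_cent_down {p : ℕ} [Fact p.Prime] (hP : ⁅K, K⁆ = K) (hs : SubN K H)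
    (h : ⁅oz p (pCoreOf p H), K⁆ ≠ ⊥) : ⁅oz p (pCoreOf p K), K⁆ ≠ ⊥ := by
  intro e
  apply h
  have hQK : pCoreOf p H ≤ normalizer (K : Set G) := by
    have := hs.pCoreOf_le_normalizer_res (p := p)
    rwa [res_eq_self_of_perfect hP] at this
  have a : ⁅K, oz p (pCoreOf p H)⁆ ≤ oz p (pCoreOf p K) := by
    have b : ⁅K, oz p (pCoreOf p H)⁆ ≤ oz p (pCoreOf p H) :=
      commutator_le_right' (le_normalizer_oz (le_normalizer_pCoreOf_of_le hs.le))
    refine le_trans (le_inf b ?_) (oz_inf_le hs.pCoreOf_le)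
    rw [hs.pCoreOf_eq_inf]
    exact le_inf (b.trans (oz_le _)) (commutator_le_left' ((oz_le _).trans hQK))
  rw [commutator_comm]
  exact commutator_eq_bot_of_perfect hP (le_bot_iff.1 ((commutator_mono a le_rfl).trans e.le))

theorem calLf_up (hQ : IsOfEvenCharacteristic G) (T : Sylow 2 G) (hL : L ∈ calLf (T : Subgroup G))
    (hK : K ∈ calL (T : Subgroup G)) (hle : L ≤ K) : K ∈ calLf (T : Subgroup G) := by
  have : Fact (Nat.Prime 2) := ⟨Nat.prime_two⟩
  have hT := isSyl_sylow T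
  obtain ⟨l1, l2, -⟩ := (mem_calL_iff hT).1 hL.1
  obtain ⟨k1, k2, k3⟩ := (mem_calL_iff hT).1 hK
  refine ⟨hK, ⟨k1.1, ?_, H14.charP_iff_fstar.1 (calL_charP hQ T hK)⟩, ?_⟩
  · rw [oddGenerated_eq, res_eq_self_of_perfect k1.2.1]
  · have a := not_cent_up (p := 2) l1.2.1 l2 hL.2.2
    have c := calH_charP hQ T (H := K ⊔ T) ⟨k3, le_sup_right⟩
    have d : L ⊔ (T : Subgroup G) ≤ K ⊔ T := sup_le_sup_right hle _
    have b := c.oz_le_oz_pCoreOf (pCoreOf_le_pCoreOf d
      ((hT.of_le le_sup_right le_top).pCoreOf_le.trans le_sup_right)) ((pCoreOf_le _).trans d)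
    exact not_cent_down (p := 2) k1.2.1 k2 fun e =>
      a (le_bot_iff.1 ((commutator_mono b hle).trans e.le))

end H5.QT
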