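/- DPC tower (S3275), slot DPC-O3: proper `3'`-subgroups are solvable and 2-closed. -/
import Cfsg.Agent.H57.DPCSpec
import Cfsg.Agent.H2.MinNormal

set_option autoImplicit false

namespace H5.DPCO3

open Subgroup Cfsg H98 H48.DP H57.DPC

universe u

theorem simple_quot (G : Type*) [Group G] [Finite G] [Nontrivial G] :
    ∃ (N : Subgroup G) (_ : N.Normal), N ≠ ⊤ ∧ IsSimpleGroup (G ⧸ N) := by
  obtain ⟨N, ⟨hN, h1⟩, h2⟩ := (Set.toFinite {N : Subgroup G | N.Normal ∧ N ≠ ⊤}).exists_maximal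
    ⟨⊥, inferInstance, bot_ne_top⟩
  have : Nontrivial (G ⧸ N) := QuotientGroup.nontrivial_iff.2 h1
  refine ⟨N, hN, h1, ⟨fun K hK => ?_⟩⟩
  have e := map_comap_eq_self_of_surjective (QuotientGroup.mk'_surjective N) K
  by_cases h3 : K.comap (QuotientGroup.mk' N) = ⊤
  · exact Or.inr (by rw [← e, h3, map_top_of_surjective _ (QuotientGroup.mk'_surjective N)])
  · refine Or.inl ?_
    rw [← e, Subgroup.map_eq_bot_iff, QuotientGroup.ker_mk']
    exact h2 ⟨hK.comap _, h3⟩ fun x hx => by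
      rw [mem_comap, QuotientGroup.mk'_apply, (QuotientGroup.eq_one_iff x).2 hx]; exact one_mem _

/-- A non-solvable subgroup has a non-abelian simple section. -/
theorem simple_section {G : Type*} [Group G] [Finite G] {Y : Subgroup G}
    (h : ¬ Group.IsSolvable Y) : ∃ H ≤ Y, ∃ (N : Subgroup H) (_ : N.Normal),
      IsSimpleGroup (H ⧸ N) ∧ ¬ IsMulCommutative (H ⧸ N) := by
  obtain ⟨H, ⟨hH, h1⟩, h2⟩ := (Set.toFinite {H : Subgroup G | H ≤ Y ∧ ¬ Group.IsSolvable H}).exists_minimal
    ⟨Y, le_rfl, h⟩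
  have : Nontrivial H := by
    by_contra hn
    rw [not_nontrivial_iff_subsingleton] at hn
    exact h1 inferInstance
  obtain ⟨N, hN, h3, h4⟩ := simple_quot H
  refine ⟨H, hH, N, hN, h4, fun hc => h1 ?_⟩
  have s1 : Group.IsSolvable (H ⧸ N) := Group.isSolvable_of_comm hc.1.1
  have s2 : Group.IsSolvable (N.map H.subtype) := by
    by_contra hn
    refine h3 (top_unique fun x _ => ?_)
    obtain ⟨y, hy, e⟩ := h2 ⟨(map_subtype_le N).trans hH, hn⟩ (map_subtype_le N) x.2
    rwa [← Subtype.ext e]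
  have s3 : Group.IsSolvable N := Group.isSolvable_of_surjective
    (f := (N.equivMapOfInjective _ H.subtype_injective).symm.toMonoidHom)
    (N.equivMapOfInjective _ H.subtype_injective).symm.surjective
  exact Group.isSolvable_of_ker_le_range N.subtype (QuotientGroup.mk' N)
    (by rw [QuotientGroup.ker_mk', range_subtype])

theorem two_bot {X : Type u} [Group X] [Finite X] [Group.IsSolvable X] (nd : ND X)
    (h3 : ¬ 3 ∣ Nat.card X) (h2 : pCore 2 X = ⊥) {S : Subgroup X} (hS : IsPGroup 2 S) : S = ⊥ := by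
  have : Fact (Nat.Prime 2) := ⟨Nat.prime_two⟩
  refine le_bot_iff.1 (h2 ▸ H2.le_pCore_of_le_fitting hS (le_trans ?_ (H2.centralizer_fitting_le X)))
  rw [le_centralizer_iff, H2.fitting_eq_iSup_pCore]
  refine iSup_le fun p => ?_
  obtain ⟨p, hp⟩ := p
  have := Fact.mk hp
  by_cases e2 : p = 2
  · subst e2
    exact h2.le.trans bot_le
  by_cases e3 : p = 3
  · subst e3
    obtain ⟨k, hk⟩ := (H2.pCore_isPGroup 3 X).exists_card_eq
    rcases k with _ | k
    · exact (card_eq_one.1 hk).le.trans bot_le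
    · exact (h3 ((dvd_pow_self 3 k.succ_ne_zero).trans (hk ▸ card_subgroup_dvd_card _))).elim
  have := hp.two_le
  exact le_centralizer_iff.1 (nd.inv p hp (by omega) S _ hS (H2.pCore_isPGroup p X)
    le_normalizer_of_normal)

theorem jobO3 : JobO3.{u} := by
  intro kn G _ _ h Y hY h3
  have sol : Group.IsSolvable Y := by
    by_contra hn
    obtain ⟨H, hH, N, _, h1, h2⟩ := simple_section hn
    have t := h.k H (fun e => hY (top_unique (e ▸ hH))) N h1 h2
    obtain ⟨-, -, -, -, a, b, c⟩ := kn _ t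
    refine h3 (dvd_trans ?_ ((card_quotient_dvd_card N).trans (card_dvd_of_le hH)))
    rcases t with t | t | t
    · rw [a t]; norm_num
    · rw [b t]; norm_num
    · rw [c t]; norm_num
  refine ⟨sol, fun S hS h2 => ?_⟩
  have := two_bot ((h.nd.sub Y).quot (pCore 2 Y)) (fun e => h3 (e.trans (card_quotient_dvd_card _)))
    (H2.pCore_quotient_pCore 2 Y)
    ((h2.comap_subtype (K := Y)).map (QuotientGroup.mk' (pCore 2 Y)))
  rw [Subgroup.map_eq_bot_iff, QuotientGroup.ker_mk'] at this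
  rw [← map_subgroupOf_eq_of_le hS]
  exact map_mono this

end H5.DPCO3
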