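import Cfsg.Agent.H85.L3Spec
import Cfsg.Agent.H69.Std1

/-! Tower L33 (S3140), slot NC1: involutions of `K ^ g ∩ N(A)` are outer. -/

set_option autoImplicit false
set_option linter.unusedSectionVars false

namespace H5.L33NC1

open Subgroup Cfsg H98 H1.Gold H85.FZ H85.S3 H85.L33
open H49.D8 (mcen mc1)

universe u
variable {G : Type u} [Group G] [Finite G] {A B R U : Subgroup G} {g k r v s z j : G}

theorem cyc_uniq (hc : IsCyclic U) {a b : G} (ha : a ∈ U) (hb : b ∈ U) (oa : orderOf a = 2)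
    (ob : orderOf b = 2) : a = b := by
  have := Fintype.ofFinite U
  have := IsCyclic.card_orderOf_eq_totient (α := U) (d := 2) (by
    rw [← Nat.card_eq_fintype_card, ← oa, ← orderOf_mk a ha]
    exact orderOf_dvd_natCard _)
  obtain ⟨c, hc⟩ := Finset.card_eq_one.1 this
  have m : ∀ y : U, orderOf (y : G) = 2 → y = c := fun y hy =>
    Finset.mem_singleton.1 (hc ▸ by simpa using hy)
  exact congrArg Subtype.val ((m ⟨a, ha⟩ oa).trans (m ⟨b, hb⟩ ob).symm)

/-- a non-cyclic `2`-subgroup in the centralizer of an involution -/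
theorem exists_nc {K : Subgroup G} (hR : R ≤ K) (pR : IsPGroup 2 R) (nc : ¬ IsCyclic R) (hk : k ∈ K)
    (ok : orderOf k = 2) : ∃ U ≤ K ⊓ cen1 k, IsPGroup 2 U ∧ ¬ IsCyclic U := by
  obtain ⟨P, hP, kP⟩ := exists_isSyl_le (p := 2) (isPGroup_zpowers (x := k) (k := 1)
    (by rw [pow_one, ← ok, pow_orderOf_eq_one])) (zpowers_le.2 hk)
  have kP := kP (mem_zpowers k)
  refine ⟨P ⊓ cen1 k, inf_le_inf_right _ hP.le, hP.isPGroup.to_le inf_le_left, fun hc => nc ?_⟩
  obtain ⟨c, cP, oc, cc⟩ := H14.exists_central_involution hP.isPGroup (fun e => by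
    rw [e, mem_bot] at kP
    rw [kP, orderOf_one] at ok
    exact absurd ok (by decide))
  obtain rfl : c = k := cyc_uniq hc ⟨cP, mc1.2 (mcen.1 cc k kP).symm⟩ ⟨kP, mc1.2 rfl⟩ oc ok
  obtain ⟨h, -, hh⟩ := hP.exists_cj_le pR hR
  have : IsCyclic (cj h R) :=
    isCyclic_of_le (H' := P ⊓ cen1 c) (le_inf hh fun y hy => mc1.2 (mcen.1 cc y (hh hy)))
  exact (MulEquiv.isCyclic (R.equivMapOfInjective _ (MulAut.conj h).injective)).2 this

theorem ty_cj (h : Ty A) (g : G) : Ty (cj g A) :=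
  h.map fun e => (A.equivMapOfInjective _ (MulAut.conj g).injective).symm.trans e

theorem normal_le (h : K1 A) {N : Subgroup G} (hn : A ≤ nor N) (hz : z ∈ A) (zN : z ∈ N)
    (z1 : z ≠ 1) : A ≤ N := by
  have := h.simple
  rcases (normal_subgroupOf_of_le_normalizer hn).eq_bot_or_eq_top with e | e
  · have : (⟨z, hz⟩ : A) ∈ N.subgroupOf A := zN
    rw [e, mem_bot] at this
    exact absurd (congrArg Subtype.val this) z1
  · exact subgroupOf_eq_top.1 e

theorem cen_one (h : K1 A) (hz : z ∈ A) (zc : z ∈ cen A) : z = 1 := by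
  by_contra z1
  have le := normal_le h (le_normalizer.trans (normalizer_le_normalizer_centralizer A)) hz zc z1
  obtain ⟨y, hy, oy⟩ := H14.exists_involution_mem (H := A) (by rw [h.card]; decide)
  obtain ⟨v, s, j, D, hD⟩ := h.sd y hy oy
  exact D.toDH.nc (mcen.1 (le (hD (mem_cl (by simp)))) v (hD (mem_cl (by simp))))

/-- the pair `A`, `B = A ^ g` -/
structure Pr (A B : Subgroup G) : Prop where
  kA : KA A
  kB : KA B
  sB : IsStandardSubgroup B
  dis : ∀ y, orderOf y = 2 → y ∈ cen A → y ∉ cen B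

namespace Pr
variable (h : Pr A B)
include h

theorem cr (hr : r ∈ cen B) (o : orderOf r = 2) : cen1 r ≤ nor B := H14.std_centralizer_le h.sB o hr

theorem Jle (hU : U ≤ cen A) (pU : IsPGroup 2 U) (nc : ¬ IsCyclic U) (UB : U ≤ nor B)
    (D : SD v s z j) (hD : cl [v, s, j] ≤ A) (hz : A ⊓ cen1 z ≤ nor B) :
    v * s ∈ cen B ∧ j ∈ cen B := by
  obtain ⟨x, xA, x3, xz, e1, e2, -⟩ := h.kA.cz v s z j D hD
  have hb : U ⊓ cen B = ⊥ := by
    by_contra hne
    obtain ⟨y, hy, oy, -⟩ := H14.exists_central_involution (pU.to_le inf_le_left) hne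
    exact h.dis y oy (hU hy.1) hy.2
  have xB : x ∈ nor B := hz ⟨xA, mc1.2 xz⟩
  have hx : x ∈ cen B := h.kB.nc U UB pU nc hb x ⟨xB, mcen.2 fun y hy => (mcen.1 (hU hy) x xA).symm⟩
    (Odd.of_dvd_nat (by decide : Odd 3) (orderOf_dvd_of_pow_eq_one x3))
  have jB : j ∈ nor (cen B) :=
    normalizer_le_normalizer_centralizer B (hz ⟨hD D.j_mem, mc1.2 D.jz⟩)
  have h1 : v * s ∈ cen B := by
    have := mul_mem hx (conj_mem_of_mem_normalizer jB (inv_mem hx))
    rwa [show x * (j * x⁻¹ * j⁻¹) = x * j * x⁻¹ * j⁻¹ by group, e2, mul_inv_cancel_right] at this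
  exact ⟨h1, e1 ▸ mul_mem (mul_mem hx h1) (inv_mem hx)⟩

theorem step1 (hR : R ≤ cen A) (pR : IsPGroup 2 R) (nc : ¬ IsCyclic R) (hz : z ∈ A)
    (oz : orderOf z = 2) (hk : k ∈ cen A) (ok : orderOf k = 2) : z * k ∉ cen B := fun hr => by
  have zk : z * k = k * z := mcen.1 hk z hz
  have zz : z * z = 1 := by rw [← pow_two, ← oz, pow_orderOf_eq_one]
  have kk : k * k = 1 := by rw [← pow_two, ← ok, pow_orderOf_eq_one]
  have o : orderOf (z * k) = 2 := H69.orderOf_eq_two_of (fun e => by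
    have : z = k⁻¹ := eq_inv_of_mul_eq_one_left e
    have := cen_one h.kA.toK1 hz (this ▸ inv_mem hk)
    rw [this, orderOf_one] at oz
    exact absurd oz (by decide)) (by
      rw [mul_assoc, ← mul_assoc k, ← zk, mul_assoc z k, kk, mul_one, zz])
  obtain ⟨U, hU, pU, ncU⟩ := exists_nc hR pR nc hk ok
  obtain ⟨v, s, j, D, hD⟩ := h.kA.sd z hz oz
  have := (h.Jle (hU.trans inf_le_left) pU ncU (fun y hy => h.cr hr o (mc1.2 (by
    rw [← mul_assoc, ← mcen.1 (hU hy).1 z hz, mul_assoc, mc1.1 (hU hy).2, mul_assoc]))) D hD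
    (fun y hy => h.cr hr o (mc1.2 (by
      rw [← mul_assoc, mc1.1 hy.2, mul_assoc, mcen.1 hk y hy.1, mul_assoc])))).2
  refine h.dis k ok hk ?_
  have := mul_mem (mul_mem this this) hr
  rwa [D.jj, ← mul_assoc, zz, one_mul] at this

end Pr

theorem jobNC1 : H85.L33.JobNC1.{u} := by
  intro kit G _ _ A hA ty R hR pR nc g hg r ⟨r1, r2⟩ o hr
  rw [cj_centralizer] at r1
  have h : Pr A (cj g A) := ⟨kit G A ty, kit G _ (ty_cj ty g), H69.Std.std_cj hA g,
    fun y oy h1 h2 => hg (H14.std_mem_normalizer hA oy h1 h2)⟩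
  obtain ⟨z, hz, k, hk, rfl⟩ := (mem_sup_left_norm
    (le_normalizer.trans (normalizer_le_normalizer_centralizer A))).1 hr
  have zk : z * k = k * z := mcen.1 hk z hz
  have rr : z * z * (k * k) = 1 := by
    rw [mul_assoc, ← mul_assoc z k, zk, mul_assoc k, ← mul_assoc z k, ← pow_two, ← o,
      pow_orderOf_eq_one]
  have zz : z * z = 1 := cen_one h.kA.toK1 (mul_mem hz hz)
    (eq_inv_of_mul_eq_one_left rr ▸ inv_mem (mul_mem hk hk))
  rw [zz, one_mul] at rr
  have z1 : z ≠ 1 := fun e => by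
    rw [e, one_mul] at o r1
    exact h.dis k o hk r1
  have oz := H69.orderOf_eq_two_of z1 zz
  obtain rfl : k = 1 := by
    by_contra k1
    exact h.step1 hR pR nc hz oz hk (H69.orderOf_eq_two_of k1 rr) r1
  rw [mul_one] at r1
  obtain ⟨v, s, j, D, hD⟩ := h.kA.sd z hz oz
  have cz := h.cr r1 oz
  have KB : cen A ≤ nor (cj g A) := fun y hy => cz (mc1.2 (mcen.1 hy z hz).symm)
  obtain ⟨h1, h2⟩ := h.Jle hR pR nc (hR.trans KB) D hD (inf_le_right.trans cz)
  rw [H69.Std.mem_cen_cj] at h1 h2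
  have vA : v ∈ A := hD (mem_cl (by simp))
  have ov : orderOf v = 2 := H69.orderOf_eq_two_of (fun e => D.toDH.nc (by rw [e]; simp)) D.vv
  have e1 : g⁻¹ * (v * s) * g * (g⁻¹ * (v * s) * g) = g⁻¹ * z * g⁻¹⁻¹ := by
    rw [← D.toDH.vsvs]; group
  have o1 : orderOf (g⁻¹ * (v * s) * g * (g⁻¹ * (v * s) * g)) = 2 := by
    rw [e1, H14.orderOf_conj', oz]
  have vB : v ∈ cen (cj g A) := by
    refine (h.kB.q8 _ (KB h1) _ (KB h2) (by rw [e1, ← D.jj]; group) o1 ?_
      (h.dis _ o1 (mul_mem h1 h1)) v (cz (mc1.2 D.vz)) D.vv (mcen.1 h1 v vA)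
      (mcen.1 h2 v vA)).resolve_right (h.step1 hR pR nc vA ov (mul_mem h1 h1) o1)
    rw [show g⁻¹ * j * g * (g⁻¹ * (v * s) * g) * (g⁻¹ * j * g)⁻¹ =
      g⁻¹ * (j * v * j⁻¹ * (j * s * j⁻¹)) * g by group, D.jv, D.js,
      show (g⁻¹ * (v * s) * g)⁻¹ = g⁻¹ * (s⁻¹ * v⁻¹) * g by group, inv_eq_of_mul_eq_one_left D.vv,
      inv_eq_of_mul_eq_one_left D.ss]
  have AB : A ≤ nor (cj g A) := (h.kA.gen v s z j D hD).trans
    (sup_le (inf_le_right.trans cz) (inf_le_right.trans (h.cr vB ov)))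
  exact hA.2.2.1 g (fun e => hg (cj_eq_self_iff.1 e)) (commutator_eq_bot_iff_le_centralizer.2
    (normal_le h.kA.toK1 (AB.trans (normalizer_le_normalizer_centralizer _)) hz r1 z1))

end H5.L33NC1
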