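/- Class sizes: small tools (groups with two class sizes, centralisers with a mixed centre). -/
import Cfsg.Agent.H4.TwoSizes
import Cfsg.Agent.S4134
import Cfsg.Agent.H88.SE

set_option autoImplicit false

namespace H5.CS
open Cfsg Subgroup H4

variable {G : Type*} [Group G]

local notation "C " x:max => Subgroup.centralizer ({x} : Set _)

theorem self_mem_cent (x : G) : x ∈ C x := mem_cent_iff.2 rfl

theorem mem_cent_comm {x y : G} (h : x ∈ C y) : y ∈ C x := mem_cent_iff.2 (mem_cent_iff.1 h).symm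

theorem ne_one_of_prime {x : G} {p : ℕ} (hp : p.Prime) (h : orderOf x = p) : x ≠ 1 := fun e => by
  rw [e, orderOf_one] at h; exact hp.one_lt.ne h

theorem coprime_of_not_dvd {a b : G} {p j : ℕ} (hp : p.Prime) (ha : orderOf a = p ^ j)
    (hb : ¬ p ∣ orderOf b) : (orderOf a).Coprime (orderOf b) :=
  ha ▸ ((Nat.Prime.coprime_iff_not_dvd hp).2 hb).pow_left j

theorem not_dvd_of_pow {a : G} {p q j : ℕ} (hp : p.Prime) (hq : q.Prime) (hpq : p ≠ q)
    (ha : orderOf a = q ^ j) : ¬ p ∣ orderOf a := fun h =>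
  hpq ((Nat.prime_dvd_prime_iff_eq hp hq).1 (hp.dvd_of_dvd_pow (ha ▸ h)))

theorem not_dvd_mul {a b : G} {p : ℕ} (hp : p.Prime) (h : Commute a b) (ha : ¬ p ∣ orderOf a)
    (hb : ¬ p ∣ orderOf b) : ¬ p ∣ orderOf (a * b) := fun e =>
  ((Nat.Prime.dvd_mul hp).1 (e.trans h.orderOf_mul_dvd_mul_orderOf)).elim ha hb

variable [Finite G]

theorem exists_orderOf_mem {p : ℕ} (hp : p.Prime) {K : Subgroup G} (h : p ∣ Nat.card K) :
    ∃ x ∈ K, orderOf x = p := by
  have := Fact.mk hp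
  obtain ⟨x, hx⟩ := exists_prime_orderOf_dvd_card' (G := K) p h
  exact ⟨x, x.2, by rwa [orderOf_coe]⟩

theorem exists_prime_pow {x : G} (h : x ≠ 1) : ∃ e, (orderOf (x ^ e)).Prime := by
  obtain ⟨p, hp, hd⟩ := Nat.exists_prime_and_dvd (mt orderOf_eq_one_iff.1 h)
  obtain ⟨y, hy, h⟩ := exists_orderOf_mem hp (K := zpowers x) (by rwa [Nat.card_zpowers])
  obtain ⟨e, rfl⟩ := (mem_powers_iff_mem_zpowers.2 hy :)
  exact ⟨e, h ▸ hp⟩

/-- A `p`-central element of order `p` centralising a given `p`-subgroup. -/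
theorem exists_pcentral {p : ℕ} (hp : p.Prime) (h : p ∣ Nat.card G) {Q : Subgroup G}
    (hQ : IsPGroup p Q) : ∃ z : G, orderOf z = p ∧ ¬ p ∣ ind z ∧ Q ≤ C z := by
  have := Fact.mk hp
  obtain ⟨P, hP⟩ := hQ.exists_le_sylow
  have : Nontrivial P := (nontrivial_iff_ne_bot _).2 (P.ne_bot_of_dvd_card h)
  have := P.isPGroup'.center_nontrivial
  obtain ⟨n, hn, h1⟩ := (IsPGroup.nontrivial_iff_card (P.isPGroup'.to_subgroup (center P))).1 this
  obtain ⟨z, hz, h2⟩ := exists_orderOf_mem hp (K := center P) (h1 ▸ dvd_pow_self p hn.ne')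
  have h3 : (P : Subgroup G) ≤ C (z : G) := fun x hx =>
    mem_cent_iff.2 (congrArg Subtype.val (mem_center_iff.1 hz ⟨x, hx⟩))
  exact ⟨z, by rwa [orderOf_coe], not_dvd_ind_of_mem_centralizer_sylow P
    (le_cent_iff_mem_centralizer.1 h3), hP.trans h3⟩

theorem exists_pcentral' {p : ℕ} (hp : p.Prime) (h : p ∣ Nat.card G) :
    ∃ z : G, orderOf z = p ∧ ¬ p ∣ ind z := by
  obtain ⟨z, h1, h2, -⟩ := exists_pcentral hp h (Q := ⊥) IsPGroup.of_bot
  exact ⟨z, h1, h2⟩

theorem cent_mul {x y : G} (h : y ∈ C x) (hc : (orderOf x).Coprime (orderOf y)) :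
    C (x * y) = C x ⊓ C y := H24.centralizer_mul_of_coprime (mem_cent_iff.1 h).symm hc

/-- If the class of `x y` is not larger than the class of `x` then `C x ≤ C y`. -/
theorem cent_le_of_ind_le {x y : G} (h : y ∈ C x) (hc : (orderOf x).Coprime (orderOf y))
    (hi : ind (x * y) ≤ ind x) : C x ≤ C y :=
  inf_eq_left.1 ((cent_mul h hc).symm.trans
    (eq_of_le_of_index_le ((cent_mul h hc).trans_le inf_le_left) hi))

theorem exists_primePow_not_central (h : ∃ x : G, x ∉ center G) :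
    ∃ (p k : ℕ) (x : G), p.Prime ∧ orderOf x = p ^ k ∧ x ∉ center G := by
  by_contra hcon
  push Not at hcon
  obtain ⟨x, hx⟩ := h
  exact hx (mem_of_forall_primePow_mem x fun e q k hq _ hk => hcon q k _ hq hk)

theorem nilpotent_of_two_sizes {n : ℕ} (h : ∀ x : G, ind x = 1 ∨ ind x = n) :
    Group.IsNilpotent G := by
  by_cases h1 : ∃ x : G, x ∉ center G
  · obtain ⟨p, k, x, hp, hk, hxZ⟩ := exists_primePow_not_central h1
    have := Fact.mk hp
    obtain ⟨R, hR⟩ := (isPGroup_zpowers_of_orderOf hk).exists_le_sylow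
    have := isNilpotent_of_two_sizes R (fun h => hxZ (h (hR (mem_zpowers x)))) ⊤ le_top
      fun x _ => h x
    exact Group.nilpotent_of_mulEquiv topEquiv
  · push Not at h1
    have := isNilpotent_of_primePow_central (G := G) ⊤ Nat.prime_two fun y _ _ _ _ _ _ => h1 y
    exact Group.nilpotent_of_mulEquiv topEquiv

/-- A group of order divisible by three primes whose centre has order divisible by two primes, such
that the class of `h` has size `1` or `k` whenever `h` is prime to some prime of the centre. -/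
theorem two_sizes_of_mixed {k q r : ℕ} (hq : q.Prime) (hr : r.Prime) (hqr : q ≠ r)
    (hqZ : q ∣ Nat.card (center G)) (hrZ : r ∣ Nat.card (center G))
    (h3 : ∀ s t : ℕ, s.Prime → t.Prime → ∃ w, w.Prime ∧ w ∣ Nat.card G ∧ w ≠ s ∧ w ≠ t)
    (h : ∀ t : ℕ, t.Prime → t ∣ Nat.card (center G) → ∀ x : G, ¬ t ∣ orderOf x →
      ind x = 1 ∨ ind x = k) (x : G) : ind x = 1 ∨ ind x = k := by
  have h0 : ∀ t : ℕ, t.Prime → t ∣ Nat.card (center G) → ∀ x : G, ¬ t ∣ orderOf x →
      x ∉ center G → ind x = k := fun t ht h1 x h2 h3 =>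
    (h t ht h1 x h2).resolve_left (mt ind_eq_one_iff.1 h3)
  have h1 : ∀ t : ℕ, t.Prime → t ∣ Nat.card (center G) → ∀ a b : G, a ∉ center G → b ∈ C a →
      ¬ t ∣ orderOf a → ¬ t ∣ orderOf b → (orderOf a).Coprime (orderOf b) → C a ≤ C b :=
    fun t ht hZ a b ha hb h1 h2 hc => cent_le_of_ind_le hb hc (by
      rw [h0 t ht hZ a h1 ha]
      rcases h t ht hZ _ (not_dvd_mul ht (mem_cent_iff.1 hb).symm h1 h2) with e | e
      · rw [e, ← h0 t ht hZ a h1 ha]; exact ind_pos a
      · exact e.le)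
  have oth : ∀ s : ℕ, ∃ t, t.Prime ∧ t ∣ Nat.card (center G) ∧ t ≠ s := fun s => by
    by_cases e : q = s
    · exact ⟨r, hr, hrZ, e ▸ hqr.symm⟩
    · exact ⟨q, hq, hqZ, e⟩
  have key : ∀ (s t i j : ℕ) (a b : G), s.Prime → t.Prime → s ≠ t → orderOf a = s ^ i →
      orderOf b = t ^ j → a ∉ center G → b ∈ C a → C a ≤ C b := by
    intro s t i j a b hs ht hst ha hb haZ hab
    by_cases hv : ∃ v, v.Prime ∧ v ∣ Nat.card (center G) ∧ v ≠ s ∧ v ≠ t
    · obtain ⟨v, hv, hvZ, e1, e2⟩ := hv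
      exact h1 v hv hvZ a b haZ hab (not_dvd_of_pow hv hs e1 ha) (not_dvd_of_pow hv ht e2 hb)
        (coprime_orderOf_of_pow hs ht hst ha hb)
    push Not at hv
    have htZ : t ∣ Nat.card (center G) := by
      obtain ⟨v, h1, h2, h3⟩ := oth s
      exact hv v h1 h2 h3 ▸ h2
    have hsZ : s ∣ Nat.card (center G) := by
      obtain ⟨v, h1, h2, h3⟩ := oth t
      by_contra e
      exact h3 (hv v h1 h2 fun e' => e (e' ▸ h2))
    obtain ⟨w, hw, hwG, e1, e2⟩ := h3 s t hs ht
    have hwZ : ∀ u : G, orderOf u = w → u ∉ center G := fun u hu e =>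
      e2 (hv w hw (hu ▸ orderOf_dvd_natCard _ e) e1)
    have hka := h0 t ht htZ a (not_dvd_of_pow ht hs hst.symm ha) haZ
    have hwk : ¬ w ∣ ind a := by
      obtain ⟨u, hu, h4⟩ := exists_pcentral' hw hwG
      rwa [h0 t ht htZ u (not_dvd_of_pow ht hw e2.symm (hu.trans (pow_one _).symm)) (hwZ u hu),
        ← hka] at h4
    obtain ⟨u, hua, hu⟩ := exists_orderOf_mem hw (K := C a)
      (((Nat.Prime.dvd_mul hw).1 ((C a).index_mul_card ▸ hwG)).resolve_left hwk)
    have hu' : orderOf u = w ^ 1 := hu.trans (pow_one _).symm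
    have h4 := h1 t ht htZ a u haZ hua (not_dvd_of_pow ht hs hst.symm ha)
      (not_dvd_of_pow ht hw e2.symm hu') (coprime_orderOf_of_pow hs hw e1.symm ha hu')
    have h5 := h1 s hs hsZ u b (hwZ u hu) (h4 hab) (not_dvd_of_pow hs hw e1.symm hu')
      (not_dvd_of_pow hs ht hst hb) (coprime_orderOf_of_pow hw ht e2 hu' hb)
    exact h4.trans h5
  by_cases hx : x ∈ center G
  · exact Or.inl (ind_eq_one_iff.2 hx)
  obtain ⟨e₀, s, i, hs, ha, haZ⟩ : ∃ e s i : ℕ, s.Prime ∧ orderOf (x ^ e) = s ^ i ∧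
      x ^ e ∉ center G := by
    by_contra hcon
    push Not at hcon
    exact hx (mem_of_forall_primePow_mem x fun e q k hq _ hk => hcon e q k hq hk)
  obtain ⟨e, f, hef, ⟨j, hj⟩, hf⟩ := H24.exists_p_decomp hs x
  have cm : ∀ a b : ℕ, x ^ a ∈ C (x ^ b) := fun a b => mem_cent_iff.2 (Commute.pow_pow_self x a b)
  have h2 : x ^ e ∉ center G := fun hz => haZ (by
    have h4 : x ^ e₀ = (x ^ e) ^ e₀ * (x ^ f) ^ e₀ := by
      rw [← (Commute.pow_pow_self x e f).mul_pow, hef]
    have h5 : ((x ^ f) ^ e₀) ^ s ^ (i + j) = 1 := by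
      have h6 : (x ^ e₀) ^ s ^ (i + j) = 1 :=
        orderOf_dvd_iff_pow_eq_one.1 (ha ▸ pow_dvd_pow s (Nat.le_add_right i j))
      have h7 : ((x ^ e) ^ e₀) ^ s ^ (i + j) = 1 := orderOf_dvd_iff_pow_eq_one.1
        ((orderOf_pow_dvd _).trans (hj ▸ pow_dvd_pow s (Nat.le_add_left j i)))
      rwa [h4, ((Commute.pow_pow_self x e f).pow_pow e₀ e₀).mul_pow, h7, one_mul] at h6
    have h6 : (x ^ f) ^ e₀ = 1 := orderOf_eq_one_iff.1 (Nat.Coprime.eq_one_of_dvd
      (((Nat.Prime.coprime_iff_not_dvd hs).2 fun e => hf (e.trans (orderOf_pow_dvd _))).symm.pow_right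
        _) (orderOf_dvd_of_pow_eq_one h5))
    rw [h4, h6, mul_one]
    exact pow_mem hz _)
  have h4 : C (x ^ e) ≤ C (x ^ f) := fun g hg => mem_cent_comm
    (mem_of_forall_primePow_mem (H := C g) _ fun a t l ht hd hl => mem_cent_comm
      (key s t j l _ _ hs ht (fun e => hf (e ▸ hd)) hj hl h2 (by rw [← pow_mul]; exact cm _ _) hg))
  obtain ⟨t, ht, htZ, hts⟩ := oth s
  refine Or.inr ?_
  rw [← h0 t ht htZ _ (not_dvd_of_pow ht hs hts hj) h2]
  show (C x).index = (C (x ^ e)).index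
  conv_lhs => rw [← hef, cent_mul (cm f e) (coprime_of_not_dvd hs hj hf), inf_eq_left.2 h4]

/-- The class size of `x ∈ C y` in `C y`, when `C (y x) = C y ⊓ C x`. -/
theorem ind_coe_mul {x y : G} (h : x ∈ C y) (hc : (orderOf y).Coprime (orderOf x)) :
    ind (⟨x, h⟩ : C y) * ind y = ind (y * x) := by
  rw [ind, H18.index_centralizer_coe, ind, ind, cent_mul h hc, ← inf_relIndex_left,
    relIndex_mul_index inf_le_left]

section Odd

/-- The elements of odd order of `C t` are central in `C t`. -/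
def OddCen (t : G) : Prop := ∀ y ∈ C t, Odd (orderOf y) → C t ≤ C y

/-- The subgroup generated by the elements of odd order of `C t`. -/
def oddC (t : G) : Subgroup G := (pResidual 2 (C t)).map (C t).subtype

omit [Finite G] in
theorem mem_oddC {t b : G} (h : OddCen t) : b ∈ oddC t ↔ b ∈ C t ∧ Odd (orderOf b) := by
  rw [oddC, H7.map_pResidual_eq_closure]
  refine ⟨fun hb => ?_, fun hb => subset_closure ⟨hb.1, Nat.coprime_two_right.2 hb.2⟩⟩
  induction hb using closure_induction with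
  | mem x hx => exact ⟨hx.1, Nat.coprime_two_right.1 hx.2⟩
  | one => exact ⟨one_mem _, by simp⟩
  | inv x _ hx => exact ⟨inv_mem hx.1, by simpa using hx.2⟩
  | mul x y _ _ hx hy =>
    have h1 : Commute x y := mem_cent_iff.1 (h y hy.1 hy.2 hx.1)
    exact ⟨mul_mem hx.1 hy.1, (hx.2.mul hy.2).of_dvd_nat h1.orderOf_mul_dvd_mul_orderOf⟩

theorem odd_card_oddC {t : G} (h : OddCen t) : Odd (Nat.card (oddC t)) :=
  (H88.odd_card_iff_no_involution _).2 fun b hb e => by
    have := ((mem_oddC h).1 hb).2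
    rw [e] at this
    exact absurd this (by decide)

theorem dvd_card_oddC (t : G) {n : ℕ} (hn : Odd n) (h : n ∣ Nat.card (C t)) :
    n ∣ Nat.card (oddC t) := by
  obtain ⟨k, hk⟩ := H7.index_pResidual (p := 2) (G := C t)
  rw [← (pResidual 2 (C t)).index_mul_card, hk] at h
  rw [oddC, card_map_of_injective (C t).subtype_injective]
  exact ((Nat.coprime_two_right.2 hn).pow_right k).dvd_of_dvd_mul_left h

omit [Finite G] in
theorem cent_le_centralizer_oddC {t : G} (h : OddCen t) : C t ≤ centralizer (oddC t : Set G) :=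
  fun _ hg b hb => (mem_cent_iff.1 (h b ((mem_oddC h).1 hb).1 ((mem_oddC h).1 hb).2 hg)).symm

theorem nilpotent_of_oddCen {t : G} (h : OddCen t) : Group.IsNilpotent (C t) := by
  have := isNilpotent_of_primePow_central (G := C t) ⊤ Nat.prime_two fun y _ s k hs h2 hy =>
    mem_center_iff.2 fun g => Subtype.ext (mem_cent_iff.1 (h y y.2 (by
      rw [orderOf_coe, hy]; exact (hs.odd_of_ne_two h2).pow) g.2))
  exact Group.nilpotent_of_mulEquiv topEquiv

end Odd

end H5.CS
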