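import Cfsg.Agent.H78.TEW
import Cfsg.Agent.H4.TDWU

/-! STD-2E6, slot WU: the wreath case, unique fixed point (quasisimple `X` with odd centre). -/

set_option autoImplicit false
set_option linter.unusedSectionVars false

namespace H5.TEWU

open H64.SG (O2 Syl Cz Cs Ns cjs Is2 Inv2 UF IsO2 fx mem_Cs mem_Cz mem_fx is2_of_sq isPGroup_iff_is2)
open H67.SA (St cI cm mem_cI card_cjs conj_mem_cjs IG IG_le le_IG cm_mem_IG cjs_IG_le cm_eq_of_odd
  cm_mul_t cm_eq_one le_O2_of_perfect)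
open H81.SU (El Ind cje cje_inj cje_apply range_cje map_cje Cs_range_le ind_one_iff
  exists_ind map_mem_Ns mem_zpowers_two)
open H62.TW (CW pr G12 mem_Cs_G12)
open H4.TDWU (normal_comap conj_t cm₁ ind₁ sup_le_of t_mem)
open H78.TW H98 Subgroup

universe u

variable {X : Type} [Group X] [Finite X] {d : Sg X} {G : Type u} [Group G] [Finite G]
  {e e' e₁ e₂ : X →* G} {g t y : G} {β : MulAut X} {q : ℕ} {L : Subgroup G}

/-! ### Perfect groups -/

theorem aut_eq_one (hp : commutator X = ⊤) (h : ∀ s, β s * s⁻¹ ∈ center X) : β = 1 := by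
  have hm : ∀ a b, β (a * b) * (a * b)⁻¹ = β a * a⁻¹ * (β b * b⁻¹) := fun a b => by
    rw [map_mul, mul_inv_rev, mul_assoc (β a), ← mul_assoc (β b), ← mem_center_iff.1 (h b) a⁻¹,
      mul_assoc]
  have h1 : commutator X ≤ (MonoidHom.mk' (fun a => β a * a⁻¹) hm).ker := commutator_le.2 fun a _ b _ => by
    rw [MonoidHom.mem_ker, map_commutatorElement]
    exact commutatorElement_eq_one_iff_mul_comm.2 (mem_center_iff.1 (h b) _)
  ext s
  exact mul_inv_eq_one.1 (h1 (hp ▸ mem_top s))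

theorem mem_center_of_cm (hp : commutator X = ⊤) {a : X} (h : ∀ s, cm a s ∈ center X) :
    a ∈ center X := mem_center_iff.2 fun s => by
  have := DFunLike.congr_fun (aut_eq_one (β := MulAut.conj a) hp h) s
  exact (mul_inv_eq_iff_eq_mul.1 this).symm

theorem eq_top_of_cm (i : WI d) {N : Subgroup X} (hN : N.Normal) {y : X} (hy : Inv2 y)
    (h : ∀ a, cm y a ∈ N) : N = ⊤ :=
  (i.qs N hN).resolve_left fun h1 =>
    hy.2 (i.eq_one (mem_center_of_cm i.perf fun a => h1 (h a)) (is2_of_sq hy.1))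

theorem perfect (i : WI d) (f : X →* G) : f.range ≤ ⁅f.range, f.range⁆ := by
  rw [MonoidHom.range_eq_map, ← map_commutator, ← commutator_def, i.perf]

theorem exists_z (w : WU d) : ∃ z ∈ d.U, z ∈ Cs d.U ∧ Inv2 z := by
  have h0 : d.U ≠ ⊥ := fun h => w.neZ (((w.ZE.trans w.EQ).trans (w.QR.trans w.RU)).trans h.le)
  have : Nontrivial d.U := (nontrivial_iff_ne_bot _).2 h0
  have h1 := w.isP.center_nontrivial
  obtain ⟨z, hz⟩ := exists_prime_orderOf_dvd_card' (G := center d.U) 2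
    ((w.isP.to_subgroup _).card_eq_or_dvd.resolve_left (Finite.one_lt_card).ne')
  rw [← orderOf_coe, ← orderOf_coe, orderOf_eq_prime_iff, pow_two] at hz
  exact ⟨z, z.1.2, fun a ha => congrArg Subtype.val (mem_center_iff.1 z.2 ⟨a, ha⟩), hz⟩

theorem ker_le (c : CW e t e₁ e₂) {a : X} (h : e a = 1) : a ∈ center X := by
  have := (cen2 c (a := a) (b := a) (c := 1) (f := 1)
    (by rw [← c.diag, h, map_one, map_one, mul_one])).1
  rwa [mul_one, inv_mem_iff] at this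

theorem comap_Cs (i : WI d) (c : CW e t e₁ e₂) : (Cs e.range).comap e = center X := by
  refine le_antisymm (fun a ha => mem_center_of_cm i.perf fun s => ker_le c ?_) ?_
  · rw [map_mul, map_mul, map_mul, map_inv, map_inv]
    exact cm_eq_one.2 (ha _ ⟨s, rfl⟩).symm
  · rintro a ha _ ⟨s, rfl⟩
    rw [← map_mul, ← map_mul, mem_center_iff.1 ha]

/-- Two diagonal images, one inside the other, are equal. -/
theorem range_eq (w : WU d) (i : WI d) {f f₁ f₂ : X →* G} {s : G} (c : CW e t e₁ e₂)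
    (c' : CW f s f₁ f₂) (h : e.range ≤ f.range) : e.range = f.range := by
  have h1 : (center X).index ≤ (center X).relIndex (e.range.comap f ⊔ center X) := by
    rw [relIndex_sup_right]
    conv_rhs => rw [← comap_Cs i c', relIndex_comap, map_comap_eq_self h]
    rw [← comap_Cs i c, index_comap]
    exact relIndex_le_of_le_left (centralizer_le h) (by
      rw [relIndex]; exact FiniteIndex.index_ne_zero)
  have h2 := relIndex_mul_index (le_sup_right : center X ≤ e.range.comap f ⊔ center X)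
  have h3 : (e.range.comap f ⊔ center X).index ≠ 0 := FiniteIndex.index_ne_zero
  have h4 : (center X).index ≠ 0 := FiniteIndex.index_ne_zero
  have h5 : e.range.comap f ⊔ center X = ⊤ := by
    rw [← index_eq_one]
    by_contra h6
    have : 2 ≤ (e.range.comap f ⊔ center X).index := by omega
    nlinarith [Nat.pos_of_ne_zero h4]
  have h6 : (e.range.comap f).Normal := normalizer_eq_top_iff.1 (top_le_iff.1
    (h5.ge.trans (sup_le le_normalizer (center_le_normalizer _))))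
  obtain ⟨z, -, -, hz⟩ := exists_z w
  have h7 := (i.qs _ h6).resolve_left fun h8 => hz.2 (i.eq_one
    ((h5.ge.trans (sup_le h8 le_rfl)) (mem_top z)) (is2_of_sq hz.1))
  refine le_antisymm h ?_
  rintro _ ⟨a, rfl⟩
  exact (h7 ▸ mem_top a : a ∈ e.range.comap f)

/-! ### The centraliser of `t` -/

theorem card_zp (h : Inv2 t) : Nat.card (zpowers t) = 2 := by
  rw [Nat.card_zpowers]; exact orderOf_eq_prime (by rw [pow_two, h.1]) h.2

theorem odd_of (h : CE q L t) {C : Subgroup G} (h1 : C ≤ Cs L) (h2 : t ∈ Ns C) (h3 : t ∉ C) :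
    Odd (Nat.card C) := H64.SG.odd_card_of_forall fun g hg => by
  obtain ⟨S, s1, s2⟩ := exists_isSyl_le (H9.UF.pg_zp h.inv.1) (le_sup_right : _ ≤ C ⊔ zpowers t)
  have h4 := s1.inf_of_le_normalizer le_sup_left
    (s1.le.trans (sup_le le_normalizer (zpowers_le.2 h2)))
  have h6 : zpowers t = S := eq_of_le_of_card_ge s2 (card_zp h.inv ▸ h.two S
    (s1.le.trans (sup_le h1 (zpowers_le.2 h.cen))) s1.isPGroup)
  have h7 : S ⊓ C = ⊥ := eq_bot_iff.2 fun a ha => by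
    rcases (mem_zpowers_two h.inv.1).1 (h6 ▸ ha.1) with rfl | rfl
    exacts [one_mem _, absurd ha.2 h3]
  exact H64.SG.odd_orderOf_of_mem (Nat.not_even_iff_odd.1 fun h8 => h4.eq_bot_iff.1 h7
    (even_iff_two_dvd.1 h8)) hg

theorem tcomm (h : CE q e.range t) (s : X) : t * e s = e s * t := (h.cen _ ⟨s, rfl⟩).symm

/-! ### The two factors -/

theorem exists_inv (i : WI d) (c : CW e t e₁ e₂) {v : X} (h : e (v * v) = 1) :
    ∃ v', v' * v' = 1 ∧ e v' = e v := by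
  obtain ⟨k, hk⟩ := H64.SG.odd_orderOf_of_mem i.odd (ker_le c h)
  refine ⟨v ^ orderOf (v * v), ?_, ?_⟩
  · rw [← (Commute.refl v).mul_pow, pow_orderOf_eq_one]
  · rw [hk, pow_succ, pow_mul, map_mul, map_pow, sq, h, one_pow, one_mul]

theorem IG_eq (w : WU d) (i : WI d) (c : CW e t e₁ e₂) (h : CE q e.range t) :
    IG t e.range = G12 e₁ e₂ := by
  refine le_antisymm (IG_le h.cz c.le fun k hk => ?_) (sup_le_of c le_IG ?_)
  · obtain ⟨v, hv⟩ := hk
    have h3 : e v * t = k * t * k⁻¹ := by rw [hv]; exact inv_mul_cancel_right _ _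
    have h4 : e v * t * (e v * t) = 1 := by rw [h3, conj_mul, h.inv.1]; simp
    rw [mul_assoc, ← mul_assoc t, tcomm h, mul_assoc, h.inv.1, mul_one, ← map_mul] at h4
    obtain ⟨v', h5, h6⟩ := exists_inv i c h4
    exact ⟨e₁ v', mem_sup_left ⟨v', rfl⟩, by rw [conj_t c h5, h6, h3]⟩
  · obtain ⟨z, -, -, hz⟩ := exists_z w
    refine eq_top_of_cm i (normal_comap fun b => ⟨e b, le_normalizer (le_IG ⟨b, rfl⟩), ind₁ c b⟩)
      hz fun a => ?_
    rw [mem_comap, ← cm₁ c]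
    exact cm_mem_IG (by rw [cm, conj_t c hz.1]; simp) ⟨a, rfl⟩

theorem not_le_Cs (w : WU d) (i : WI d) {f : X →* G} (f1 : Function.Injective f) :
    ¬ f.range ≤ Cs f.range := fun h => by
  obtain ⟨z, -, -, hz⟩ := exists_z w
  exact hz.2 (i.eq_one (mem_center_iff.2 fun a => f1 (by
    rw [map_mul, map_mul]; exact h ⟨z, rfl⟩ _ ⟨a, rfl⟩)) (is2_of_sq hz.1))

theorem ne (w : WU d) (i : WI d) (c : CW e t e₁ e₂) : ¬ e₂.range ≤ e₁.range := fun h =>
  not_le_Cs w i c.inj₂ (h.trans c.le_Cs')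

/-- A normal copy of `X` in `G₁` is one of the two factors. -/
theorem eq_or (w : WU d) (i : WI d) (c : CW e t e₁ e₂) {f : X →* G} (f1 : Function.Injective f)
    (f2 : f.range ≤ G12 e₁ e₂) (f3 : G12 e₁ e₂ ≤ Ns f.range) :
    f.range = e₁.range ∨ f.range = e₂.range := by
  have k : ∀ f' : X →* G, Function.Injective f' → f'.range ≤ G12 e₁ e₂ →
      G12 e₁ e₂ ≤ Ns f'.range → f.range ≠ f'.range → f.range ≤ Cs f'.range := by
    rintro f' a1 a2 a3 a5 v hv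
    rcases i.qs _ (normal_comap (R := f.range) (f := f') fun b =>
      ⟨f' b, f3 (a2 ⟨b, rfl⟩), H81.SU.ind_conj b⟩) with h1 | h1
    · obtain ⟨β, hβ⟩ := exists_ind a1 (a3 (f2 hv))
      refine (hβ.eq_one_iff a1).1 (aut_eq_one i.perf fun s => h1 ?_)
      rw [mem_comap, map_mul, map_inv, ← hβ, mul_assoc, mul_assoc, ← mul_assoc (f' s)]
      exact mul_mem hv (conj_mem_of_mem_normalizer (f3 (a2 ⟨s, rfl⟩)) (inv_mem hv))
    · refine absurd (eq_of_le_of_card_ge ?_ ?_).symm a5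
      · rintro _ ⟨a, rfl⟩; exact (h1 ▸ mem_top a : a ∈ f.range.comap f')
      · rw [← Nat.card_congr (MonoidHom.ofInjective f1).toEquiv,
          ← Nat.card_congr (MonoidHom.ofInjective a1).toEquiv]
  by_contra h1
  push Not at h1
  exact not_le_Cs w i f1 fun v hv => centralizer_le f2 (mem_Cs_G12.2
    ⟨k e₁ c.inj le_sup_left c.G12_le_Ns h1.1 hv, k e₂ c.inj₂ le_sup_right c.G12_le_Ns' h1.2 hv⟩)

theorem pm (w : WU d) (i : WI d) (c : CW e t e₁ e₂) {m : G} (hm : m ∈ Ns (G12 e₁ e₂)) :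
    m ∈ Ns e₁.range ∧ m ∈ Ns e₂.range ∨
      cjs m e₁.range = e₂.range ∧ cjs m e₂.range = e₁.range := by
  have key : ∀ f : X →* G, Function.Injective f → f.range ≤ G12 e₁ e₂ → G12 e₁ e₂ ≤ Ns f.range →
      cjs m f.range = e₁.range ∨ cjs m f.range = e₂.range := fun f f1 f2 f3 => by
    rw [← range_cje]
    refine eq_or w i c (cje_inj f1 m) ?_ ?_ <;> rw [range_cje]
    · exact (cj_mono m f2).trans (cj_eq_self hm).le
    · rw [← H64.SG.cj_Ns]; exact (cj_eq_self hm).ge.trans (cj_mono m f3)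
  have h3 : cjs m e₁.range ≠ cjs m e₂.range := fun h3 =>
    ne w i c (map_injective (MulAut.conj m).injective h3).ge
  rcases key e₁ c.inj le_sup_left c.G12_le_Ns with h1 | h1 <;>
    rcases key e₂ c.inj₂ le_sup_right c.G12_le_Ns' with h2 | h2
  · exact absurd (h1.trans h2.symm) h3
  · exact Or.inl ⟨cj_eq_self_iff.1 h1, cj_eq_self_iff.1 h2⟩
  · exact Or.inr ⟨h1, h2⟩
  · exact absurd (h1.trans h2.symm) h3

/-- Change of the swapping involution. -/
theorem chg (w : WU d) (i : WI d) (c : CW e t e₁ e₂) (h : CE q e.range t)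
    (h1 : cjs (g * t * g⁻¹) e₁.range = e₂.range) : ∃ e' : X →* G, e'.range = cjs g e.range ∧
      CW e' (g * t * g⁻¹) e₁ (cje (g * t * g⁻¹) e₁) := by
  have h2 := h.cj g
  have c2 := c.cje g
  rw [← range_cje] at h2 ⊢
  generalize g * t * g⁻¹ = s at *
  have h3 : ∀ a b, e₁ a * cje s e₁ b = cje s e₁ b * e₁ a := fun a b =>
    c.le_Cs (h1 ▸ range_cje (g := s) (e := e₁) ▸ ⟨b, rfl⟩) _ ⟨a, rfl⟩
  let e' := (e₁.noncommCoprod (cje s e₁) h3).comp ((MonoidHom.id _).prod (MonoidHom.id _))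
  have c' : CW e' s e₁ (cje s e₁) := ⟨c.inj, h3, fun _ => rfl, fun _ => rfl⟩
  have h4 : e'.range ≤ Cz s := by
    rintro _ ⟨a, rfl⟩
    rw [mem_Cz, ← mul_inv_eq_iff_eq_mul, c'.diag, ← conj_mul, c'.sw, (c'.symm h2.inv.1).sw, h3]
  have h5 : ∀ a, a * a = 1 → a ∈ (cje g e).range.comap e' := fun a ha =>
    h2.a3 _ (H64.SG.O2_mono h4 (le_O2_of_perfect (perfect i e') ⟨a, rfl⟩)) ((is2_of_sq ha).map e')
  have h6 : (⊤ : Subgroup X) ≤ (cje g e).range.comap e' := by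
    rw [← i.gen, closure_le]
    rintro a (ha | ha)
    exacts [h5 a ha.1, h5 a ha.1]
  exact ⟨e', range_eq w i c' c2 (by rintro _ ⟨a, rfl⟩; exact h6 (mem_top a)), c'⟩

theorem ufs (w : WU d) (i : WI d) (c : CW e t e₁ e₂) (h : CE q e.range t)
    (hg : cjs (g * t * g⁻¹) e₁.range = e₂.range) : g ∈ Ns (G12 e₁ e₂) := by
  obtain ⟨e', h1, h3⟩ := chg w i c h hg
  have h4 := cjs_IG_le (t := t) (L := e.range) g
  rw [← h1, IG_eq w i h3 (h1 ▸ h.cj g), IG_eq w i c h, G12, G12, range_cje, hg] at h4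
  exact mem_normalizer_of_cj_le h4

theorem odd (w : WU d) (i : WI d) (c : CW e t e₁ e₂) (h : CE q e.range t) :
    Odd (Nat.card (Cs (G12 e₁ e₂))) :=
  odd_of h (centralizer_le c.le) (normalizer_le_normalizer_centralizer _ (t_mem c h.inv.1))
    fun h1 => ne w i c (c.cjs_range.ge.trans
      (cj_eq_self (H64.SG.Cs_le_Ns _ (mem_Cs_G12.1 h1).1)).le)

/-! ### The conjugates of `t` in `𝓜` swap -/

theorem sw (w : WU d) (i : WI d) (a : WA d) (c : CW e t e₁ e₂) (h : CE d.q e.range t) {s : G}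
    (hs : s ∈ Ns (G12 e₁ e₂)) (h1 : IsConj t s) : cjs s e₁.range = e₂.range := by
  refine ((pm w i c hs).resolve_left fun ⟨h2, h3⟩ => ?_).1
  obtain ⟨g, rfl⟩ := isConj_iff.1 h1
  have h4 := h.cj g
  obtain ⟨β₁, i1⟩ := exists_ind c.inj h2
  obtain ⟨β₂, i2⟩ := exists_ind c.inj₂ h3
  obtain ⟨A, a1, a2, a3⟩ := a.sz β₁ (i1.sq c.inj h4.inv.1)
  obtain ⟨B, b1, b2, b3⟩ := a.sz β₂ (i2.sq c.inj₂ h4.inv.1)
  have h5 := h4.sm (pr e₁ e₂ A B) (sup_le ((map_mono a1).trans i1.map_fx_le)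
    ((map_mono b1).trans i2.map_fx_le)) (c.isP_pr a2 b2)
  rw [card_pr2 i c a2] at h5
  have h6 := (Nat.mul_le_mul a3 b3).trans h5
  have h7 := w.two_le
  rw [← pow_add, show 20 + 20 = 3 + 37 from rfl, pow_add] at h6
  have h8 := Nat.le_of_mul_le_mul_right h6 (pow_pos (by omega) 37)
  have h9 := Nat.pow_le_pow_left h7 3
  omega

/-! ### The centraliser of `E` -/

theorem cM (w : WU d) (i : WI d) (a : WA d) (c : CW e t e₁ e₂) (h : CE q e.range t)
    (m : G) (m1 : m ∈ Ns (G12 e₁ e₂)) (m2 : m ∈ Cs (d.E.map e)) :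
    (Is2 (cm m t) → cm m t ∈ d.E.map e) ∧ (Odd (orderOf m) → m ∈ Cs (G12 e₁ e₂)) := by
  have hZ := w.el
  have key : ∀ m ∈ Ns e₁.range, m ∈ Ns e₂.range → m ∈ Cs (d.E.map e) →
      (Is2 (cm m t) → cm m t ∈ d.E.map e) ∧ m * m ∈ Cs (G12 e₁ e₂) := fun m a1 a2 a3 => by
    obtain ⟨β₁, i1⟩ := exists_ind c.inj a1
    obtain ⟨β₂, i2⟩ := exists_ind c.inj₂ a2
    have k : ∀ v ∈ d.E, β₁ v = v ∧ β₂ v = v := fun v hv => by
      have v2 := is2_of_sq (hZ v hv)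
      refine inj2 i c (v2.map β₁.toMonoidHom) v2 ?_
      rw [← i1, ← i2, conj_mul, ← c.diag, ← a3 _ ⟨v, hv, rfl⟩, mul_inv_cancel_right]
    obtain ⟨ζ₁, z1, rfl⟩ := mem_cI.1 (a.ctE β₁ fun v hv => (k v hv).1)
    obtain ⟨ζ₂, z2, rfl⟩ := mem_cI.1 (a.ctE β₂ fun v hv => (k v hv).2)
    have k1 : m * (e₁ ζ₁ * e₂ ζ₂)⁻¹ ∈ Cs (G12 e₁ e₂) :=
      mem_Cs_G12.2 ⟨ind_one_iff.1 (by simpa using i1.mul (c.ind₁ ζ₁ ζ₂).inv),
        ind_one_iff.1 (by simpa using i2.mul (c.ind₂ ζ₁ ζ₂).inv)⟩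
    have k0 : e₁ ζ₁ * e₂ ζ₂ ∈ G12 e₁ e₂ := c.mem_G12.2 ⟨_, _, rfl⟩
    have k2 : e₁ ζ₁ * e₂ ζ₂ * (e₁ ζ₁ * e₂ ζ₂) = 1 := by rw [c.mul_mul, hZ _ z1, hZ _ z2]; simp
    have k3 : cm (e₁ ζ₁ * e₂ ζ₂) t = e (ζ₁ * ζ₂) := by
      rw [cm, inv_eq_of_mul_eq_one_right k2, mul_assoc, mul_assoc, ← mul_assoc t, ← conj_mul, c.sw,
        (c.symm h.inv.1).sw, ← c.comm, c.mul_mul, c.diag, hZ.comm z1 z2]
    obtain ⟨k, rfl⟩ : ∃ k, m = k * (e₁ ζ₁ * e₂ ζ₂) := ⟨m * _⁻¹, (inv_mul_cancel_right _ _).symm⟩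
    rw [mul_inv_cancel_right] at k1
    refine ⟨fun k4 => ?_, ?_⟩
    · rw [cm_eq_of_odd (odd w i c h) (normalizer_le_normalizer_centralizer _ (t_mem c h.inv.1)) k1
        (k3 ▸ fun a ha => (ha _ (c.le ⟨_, rfl⟩)).symm)
        (k3 ▸ (is2_of_sq (hZ _ (mul_mem z1 z2))).map e) k4, k3]
      exact ⟨_, mul_mem z1 z2, rfl⟩
    · rw [mul_assoc, ← mul_assoc (e₁ ζ₁ * e₂ ζ₂), k1 _ k0, mul_assoc k, k2, mul_one]
      exact mul_mem k1 k1
  rcases pm w i c m1 with ⟨a1, a2⟩ | ⟨a1, a2⟩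
  · exact ⟨(key m a1 a2 m2).1, H64.SG.mem_of_sq_mem (key m a1 a2 m2).2⟩
  · refine ⟨cm_mul_t (t := t) m ▸ (key (m * t) (cj_eq_self_iff.1 ?_) (cj_eq_self_iff.1 ?_)
      (mul_mem m2 (Cs_range_le _ h.cen))).1, fun ho => absurd ?_ (ne w i c)⟩
    · rw [← cj_cj]; exact (congrArg _ c.cjs_range).trans a2
    · rw [← cj_cj]; exact (congrArg _ (c.symm h.inv.1).cjs_range).trans a1
    · have : m ∈ Ns e₁.range := H64.SG.mem_of_sq_mem (cj_eq_self_iff.1 (by
        rw [← cj_cj]; exact (congrArg _ a1).trans a2)) ho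
      exact a1.ge.trans (cj_eq_self this).le

theorem gen (w : WU d) (i : WI d) (c : CW e t e₁ e₂) {p : G} (o1 : p ∈ Cs e.range)
    (o2 : ∀ ζ ∈ Ns (G12 e₁ e₂), ζ ∈ Cs (d.U.map e) → ζ * p * ζ⁻¹ ∈ Cs e.range) :
    p ∈ Ns (G12 e₁ e₂) := by
  obtain ⟨z, -, z3, z4⟩ := exists_z w
  have z1 := o2 (e₁ z) (le_normalizer (mem_sup_left ⟨_, rfl⟩)) (by
    rintro _ ⟨v, hv, rfl⟩
    rw [c.diag, mul_assoc, ← c.comm, ← mul_assoc, ← map_mul, z3 v hv, map_mul, mul_assoc])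
  have z0 : e.range ≤ Cz p := fun a ha => mem_Cz.2 (o1 a ha).symm
  have z2 := eq_top_of_cm i (normal_comap (R := Cz p) (f := e₁) fun b =>
    ⟨e b, le_normalizer (z0 ⟨b, rfl⟩), ind₁ c b⟩) (y := z⁻¹)
    ⟨by rw [← mul_inv_rev, z4.1, inv_one], inv_ne_one.2 z4.2⟩ fun a => by
      have k1 : (e₁ z)⁻¹ * e a * e₁ z ∈ Cz p := mem_Cz.2 (by
        have := z1 _ ⟨a, rfl⟩
        calc _ = (e₁ z)⁻¹ * (e₁ z * p * (e₁ z)⁻¹ * e a) * e₁ z := by group
          _ = _ := by rw [← this]; group)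
      change e₁ _ ∈ Cz p
      rw [← cm₁ c, map_inv, cm, inv_inv]
      exact mul_mem k1 (inv_mem (z0 ⟨a, rfl⟩))
  exact H64.SG.Cs_le_Ns _ fun a ha => (mem_Cz.1 (sup_le_of c z0 z2 ha)).symm

theorem jobWU : JobWU.{u} := fun X _ _ d f G _ _ e t h e₁ e₂ c => by
  have w := f.u
  have QU := w.QR.trans w.RU
  have uf : UF (Ns (G12 e₁ e₂)) t := ⟨h.inv, t_mem c h.inv.1, fun g hg => ufs w f.i c h
    (sw w f.i f.a c h hg (isConj_iff.2 ⟨g, rfl⟩))⟩
  have tx : ∀ g, g * g = 1 → IsConj t (t * e g) := fun g hg =>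
    isConj_iff.2 ⟨e₁ g, by rw [conj_t c hg, tcomm h]⟩
  refine ⟨uf, odd w f.i c h, tx, ?_, fun _ => pm w f.i c, fun _ => sw w f.i f.a c h⟩
  let A : Option Bool → Subgroup X := fun j => j.elim d.U fun i => cond i d.E d.Q
  let S : Option Bool → Set G := fun j => e '' {v | v ∈ Ns (A j) ∧ v * v = 1}
  have hA : ∀ j, A j ≤ d.U := by rintro (_ | _ | _); exacts [le_rfl, QU, w.EQ.trans QU]
  have hE : ∀ j, d.E ≤ A j := by rintro (_ | _ | _); exacts [w.EQ.trans QU, w.EQ, le_rfl]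
  have hN : ∀ j, d.U ≤ Ns (A j) := by rintro (_ | _ | _); exacts [le_normalizer, w.nQ, w.nE]
  refine H64.SG.jobK9 uf (Cs (G12 e₁ e₂)) e.range none (fun j => (A j).map e) S (odd w f.i c h)
    (H64.SG.Cs_le_Ns _) (c.le.trans le_normalizer)
    (by rintro _ ⟨s, rfl⟩; exact mem_Cz.2 (tcomm h s))
    (fun l hl g hg => (hg l (c.le hl)).symm) (fun j => map_mono (hA j)) (map_le_range _ _)
    (w.isP.map e) ?_ (fun j => ?_) ?_ (fun j m h1 h2 => ?_) (fun _ => gen w f.i c) (some true)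
  · rintro j _ ⟨v, hv, rfl⟩
    exact ⟨⟨_, rfl⟩, by rw [← map_mul, hv.2, map_one], map_mem_Ns hv.1, tx _ hv.2⟩
  · rw [← MonoidHom.map_closure]
    exact map_mono (w.invU.trans (closure_mono fun v hv => ⟨hN j hv.1, hv.2⟩))
  · rw [MonoidHom.range_eq_map, ← f.i.gen, MonoidHom.map_closure]
    refine closure_mono ?_
    rintro _ ⟨v, hv | hv, rfl⟩
    exacts [Set.mem_iUnion.2 ⟨some true, v, ⟨hv.2, hv.1⟩, rfl⟩,
      Set.mem_iUnion.2 ⟨some false, v, ⟨hv.2.1, hv.1⟩, rfl⟩]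
  · have := cM w f.i f.a c h m h1 (centralizer_le (map_mono (hE j)) h2)
    exact ⟨fun h3 => map_mono (hE j) (this.1 h3), this.2⟩

end H5.TEWU
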