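import Cfsg.Agent.H5.NoFour
import Cfsg.Agent.H5.Supersolv
import Cfsg.Agent.H8.Focal

/-! Groups with square-free class sizes (Chillag-Herzog, Cossey-Wang). -/

set_option autoImplicit false

open Cfsg Subgroup H98 H4
open scoped commutatorElement

universe u

namespace H5

variable {G : Type*} [Group G] [Finite G]

theorem inf_eq_bot_or_le {p : ℕ} (hp : p.Prime) {A : Subgroup G} (hA : Nat.card A ∣ p)
    (B : Subgroup G) : A ⊓ B = ⊥ ∨ A ≤ B := by
  rcases (Nat.dvd_prime hp).mp ((card_dvd_of_le (inf_le_left : A ⊓ B ≤ A)).trans hA) with h | h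
  · exact Or.inl (card_eq_one.mp h)
  · exact Or.inr (inf_eq_left.mp (eq_of_le_of_card_ge inf_le_left (h ▸ Nat.le_of_dvd hp.pos hA)))

omit [Finite G] in
theorem inf_le_of_relIndex_dvd {p : ℕ} (hp : p.Prime) {P X Y : Subgroup G} (hX : X.relIndex P ∣ p)
    (h : P ⊓ X ≤ Y) (hY : ¬ P ≤ Y) : P ⊓ Y ≤ X := by
  have h1 := relIndex_mul_relIndex (P ⊓ X) (P ⊓ Y) P (le_inf inf_le_left h) inf_le_left
  rw [inf_relIndex_left, inf_relIndex_left] at h1
  rw [← h1] at hX
  rcases (Nat.dvd_prime hp).mp (dvd_of_mul_left_dvd hX) with h2 | h2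
  · exact absurd (relIndex_eq_one.mp h2) hY
  · rw [h2] at hX
    have : (P ⊓ X).relIndex (P ⊓ Y) = 1 := by
      obtain ⟨c, hc⟩ := hX
      have : p * 1 = p * ((P ⊓ X).relIndex (P ⊓ Y) * c) := by rw [mul_one]; linarith
      exact Nat.eq_one_of_mul_eq_one_right (Nat.eq_of_mul_eq_mul_left hp.pos this).symm
    exact (relIndex_eq_one.mp this).trans inf_le_right

/-- Elements that all centralize subgroups of index at most `p` have a common axis or a common
centre. -/
theorem rank_one_dich {p : ℕ} (hp : p.Prime) (P Γ : Subgroup G)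
    (hz : ∀ g ∈ Γ, ∀ y ∈ P, ⁅y, g⁆ ∈ P ⊓ centralizer (P : Set G))
    (hi : ∀ g ∈ Γ, (centralizer ({g} : Set G)).relIndex P ∣ p) :
    (∃ L : Subgroup G, Nat.card L ∣ p ∧ ⁅P, Γ⁆ ≤ L) ∨
      ∃ H : Subgroup G, H.relIndex P ∣ p ∧ H ≤ P ⊓ centralizer (Γ : Set G) := by
  let φ : Γ → (P →* G) := fun g => MonoidHom.mk' (fun y => ⁅(y : G), (g : G)⁆) fun y z => by
    have h1 := mem_centralizer_iff.mp (hz g g.2 z z.2).2 y y.2
    have h2 := mem_centralizer_iff.mp (hz g g.2 z z.2).2 _ (hz g g.2 y y.2).1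
    rw [h2]
    calc ⁅((y * z : P) : G), (g : G)⁆ = y * ⁅(z : G), (g : G)⁆ * (y : G)⁻¹ * ⁅(y : G), (g : G)⁆ := by
          simp only [commutatorElement_def, coe_mul]; group
      _ = _ := by rw [h1]; group
  have hker : ∀ g : Γ, (φ g).ker = (centralizer ({(g : G)} : Set G)).subgroupOf P := fun g => by
    ext y
    rw [MonoidHom.mem_ker, mem_subgroupOf, mem_cent_iff]
    exact commutatorElement_eq_one_iff_mul_comm
  have hc : ∀ g : Γ, Nat.card (φ g).range ∣ p := fun g => by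
    rw [← index_ker, hker]; exact hi g g.2
  have key : ∀ a b : Γ, (φ a).range ⊓ (φ b).range = ⊥ → ¬ P ≤ centralizer ({(a : G)} : Set G) →
      P ⊓ centralizer ({(a : G)} : Set G) ≤ centralizer ({(b : G)} : Set G) := by
    intro a b hab ha
    have h1 : P ⊓ centralizer ({((a⁻¹ * b : Γ) : G)} : Set G) ≤
        centralizer ({(a : G)} : Set G) ⊓ centralizer ({(b : G)} : Set G) := by
      intro y hy
      have h2 : y * ((a : G)⁻¹ * b) = (a : G)⁻¹ * b * y := mem_cent_iff.mp hy.2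
      have h3 : ⁅y, (a : G)⁆ = ⁅y, (b : G)⁆ := by
        calc ⁅y, (a : G)⁆ = y * a * y⁻¹ * ((a : G)⁻¹ * b * y) * y⁻¹ * (b : G)⁻¹ := by
              rw [commutatorElement_def]; group
          _ = _ := by rw [← h2, commutatorElement_def]; group
      have h4 : ⁅y, (a : G)⁆ ∈ (φ a).range ⊓ (φ b).range := ⟨⟨⟨y, hy.1⟩, rfl⟩, ⟨⟨y, hy.1⟩, h3.symm⟩⟩
      rw [hab, mem_bot] at h4
      exact ⟨mem_cent_iff.mpr (commutatorElement_eq_one_iff_mul_comm.mp h4),
        mem_cent_iff.mpr (commutatorElement_eq_one_iff_mul_comm.mp (h3 ▸ h4))⟩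
    exact (le_inf inf_le_left (inf_le_of_relIndex_dvd hp (hi _ (a⁻¹ * b).2)
      (h1.trans inf_le_left) ha)).trans (h1.trans inf_le_right)
  by_cases h0 : ∀ g : Γ, P ≤ centralizer ({(g : G)} : Set G)
  · exact Or.inr ⟨P, by simp, le_inf le_rfl fun y hy => mem_centralizer_iff.mpr fun g hg =>
      (mem_cent_iff.mp (h0 ⟨g, hg⟩ hy)).symm⟩
  push Not at h0
  obtain ⟨a, ha⟩ := h0
  by_cases h1 : ∀ g : Γ, (φ g).range ≤ (φ a).range
  · exact Or.inl ⟨_, hc a, commutator_le.mpr fun y hy g hg => h1 ⟨g, hg⟩ ⟨⟨y, hy⟩, rfl⟩⟩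
  push Not at h1
  obtain ⟨b, hb⟩ := h1
  have h2 := (inf_eq_bot_or_le hp (hc b) (φ a).range).resolve_right hb
  have hb' : ¬ P ≤ centralizer ({(b : G)} : Set G) := fun h => hb (by
    rintro _ ⟨y, rfl⟩
    have : φ b y = 1 := commutatorElement_eq_one_iff_mul_comm.mpr (mem_cent_iff.mp (h y.2))
    rw [this]; exact one_mem _)
  refine Or.inr ⟨P ⊓ centralizer ({(a : G)} : Set G), by rw [inf_relIndex_left]; exact hi a a.2,
    le_inf inf_le_left fun y hy => mem_centralizer_iff.mpr fun g hg => ?_⟩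
  refine (mem_cent_iff.mp ?_).symm
  rcases inf_eq_bot_or_le hp (hc ⟨g, hg⟩) (φ a).range with h3 | h3
  · exact key a ⟨g, hg⟩ (by rw [inf_comm, h3]) ha hy
  · exact key b ⟨g, hg⟩ (le_bot_iff.mp (h2 ▸ inf_le_inf_left _ h3)) hb'
      ⟨hy.1, key a b (by rw [inf_comm, h2]) ha hy⟩

omit [Finite G] in
/-- A group with a central subgroup of prime index is abelian. -/
theorem le_centralizer_of_relIndex_dvd {p : ℕ} (hp : p.Prime) {P H : Subgroup G}
    (h : H.relIndex P ∣ p) (hH : P ⊓ H ≤ centralizer (P : Set G)) : P ≤ centralizer (P : Set G) := by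
  intro y hy
  by_contra hy'
  have h1 : ¬ P ≤ centralizer ({y} : Set G) := fun h => hy' (mem_centralizer_iff.mpr fun z hz =>
    mem_cent_iff.mp (h hz))
  have h2 := inf_le_of_relIndex_dvd hp h (fun z hz => mem_cent_iff.mpr
    (mem_centralizer_iff.mp (hH hz) y hy).symm) h1
  exact hy' (hH ⟨hy, h2 ⟨hy, mem_cent_iff.mpr rfl⟩⟩)

theorem relIndex_cent_dvd {p : ℕ} [hp : Fact p.Prime] {P : Subgroup G} [P.Normal]
    (hP : IsPGroup p P) {x : G} (h : ¬ p ^ 2 ∣ ind x) :
    (centralizer ({x} : Set G)).relIndex P ∣ p := by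
  obtain ⟨j, hj⟩ := IsPGroup.index hP ((centralizer ({x} : Set G)).subgroupOf P)
  have h1 : (centralizer ({x} : Set G)).relIndex P ∣ ind x :=
    ⟨_, (index_eq_index_map_mul_relIndex _ P).trans (mul_comm _ _)⟩
  rw [relIndex, hj] at h1 ⊢
  exact dvd_of_pow_dvd_of_not_sq (r := 1) hp.out (by rwa [one_mul]) hp.out.not_dvd_one h

theorem commutator_le_center_of_not_sq_dvd {p : ℕ} [hp : Fact p.Prime] (P : Sylow p G)
    (h : ∀ x : G, ¬ p ^ 2 ∣ ind x) {a b : G} (ha : a ∈ (P : Subgroup G))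
    (hb : b ∈ (P : Subgroup G)) : ⁅a, b⁆ ∈ center G := by
  refine mem_center_of_not_sq_dvd P h fun T _ hT => ?_
  rcases (Nat.dvd_prime hp.out).mp hT with h1 | h1
  · exact relIndex_eq_one.mp h1 (mul_mem (mul_mem (mul_mem ha hb) (inv_mem ha)) (inv_mem hb))
  · have hn : (T.subgroupOf P).Normal := by
      obtain ⟨n, hn⟩ := IsPGroup.iff_card.mp P.isPGroup'
      refine normal_of_index_eq_minFac_card ?_
      have h2 := (T.subgroupOf P).index_dvd_card
      rw [← relIndex, h1, hn] at h2 ⊢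
      rcases n with _ | n
      · exact absurd h2 hp.out.not_dvd_one
      · exact (hp.out.pow_minFac n.succ_ne_zero).symm
    have : IsCyclic ((P : Subgroup G) ⧸ T.subgroupOf P) := isCyclic_of_prime_card h1
    have h3 : (⟨a, ha⟩ * ⟨b, hb⟩ * ⟨a, ha⟩⁻¹ * ⟨b, hb⟩⁻¹ : (P : Subgroup G)) ∈ T.subgroupOf P := by
      rw [← QuotientGroup.eq_one_iff, QuotientGroup.mk_mul, QuotientGroup.mk_mul,
        QuotientGroup.mk_mul, QuotientGroup.mk_inv, QuotientGroup.mk_inv,
        this.isMulCommutative.is_comm.comm (QuotientGroup.mk ⟨a, ha⟩)]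
      group
    exact h3

omit [Finite G] in
theorem commutator_pow_left {a b : G} (h : ⁅a, b⁆ ∈ center G) (n : ℕ) : ⁅a ^ n, b⁆ = ⁅a, b⁆ ^ n := by
  induction n with
  | zero => simp
  | succ n ih =>
    calc ⁅a ^ (n + 1), b⁆ = a * ⁅a ^ n, b⁆ * a⁻¹ * ⁅a, b⁆ := by
          simp only [commutatorElement_def]; group
      _ = _ := by rw [ih, mem_center_iff.mp (pow_mem h n) a, pow_succ]; group

/-- If `O_{p'}(G) = 1` and no class size is divisible by `p²` then `|G'|` divides `p`. -/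
theorem card_commutator_dvd [Group.IsSolvable G] {p : ℕ} [hp : Fact p.Prime]
    (h : ∀ x : G, ¬ p ^ 2 ∣ ind x) (hO : pPrimeCore p G = ⊥) : Nat.card (commutator G) ∣ p := by
  obtain ⟨S⟩ : Nonempty (Sylow p G) := inferInstance
  have hC := H2.centralizer_pCore_le hO
  have hQ := H2.pCore_isPGroup p G
  have hS : (S : Subgroup G) = pCore p G := by
    refine le_antisymm ?_ (H2.pCore_le_sylow S)
    have : (stab (pCore p G) (center G)).Normal := normal_of_top_le_normalizer
      (le_normalizer_stab le_normalizer_of_normal le_normalizer_of_normal)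
    refine le_trans (fun g hg => ?_) (H2.le_pCore (N := stab (pCore p G) (center G)) ?_)
    · exact ⟨le_normalizer_of_normal (mem_top g), fun c hc =>
        commutator_le_center_of_not_sq_dvd S h (H2.pCore_le_sylow S hc) hg⟩
    · refine isPGroup_of_forall_pow_mem hQ fun g hg => ?_
      obtain ⟨k, hk⟩ := IsPGroup.iff_card.mp hQ
      refine ⟨k, hC (mem_centralizer_iff.mpr fun c hc => ?_)⟩
      have h1 : ⁅g, c⁆ ∈ center G := by rw [← commutatorElement_inv]; exact inv_mem (hg.2 c hc)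
      have h2 : ⁅g, c⁆ ∈ pCore p G := mul_mem (Normal.conj_mem inferInstance c hc g) (inv_mem hc)
      have h3 := commutator_pow_left h1 (p ^ k)
      rw [← hk, show ⁅g, c⁆ ^ Nat.card (pCore p G) = 1 from
        congrArg Subtype.val (pow_card_eq_one' (x := (⟨_, h2⟩ : pCore p G)))] at h3
      rw [← hk]
      exact (commutatorElement_eq_one_iff_mul_comm.mp h3).symm
  set P := pCore p G with hPP
  have hi : ∀ g : G, (centralizer ({g} : Set G)).relIndex P ∣ p := fun g => relIndex_cent_dvd hQ (h g)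
  have hz : ∀ a ∈ P, ∀ b ∈ P, ⁅a, b⁆ ∈ center G := fun a ha b hb =>
    commutator_le_center_of_not_sq_dvd S h (hS ▸ ha) (hS ▸ hb)
  by_cases hab : P ≤ centralizer (P : Set G)
  · have hcomm : IsMulCommutative P := ⟨⟨fun a b => Subtype.ext (mem_centralizer_iff.mp (hab b.2) a a.2)⟩⟩
    have hcop : ((centralizer (P : Set G)).relIndex ⊤).Coprime (Nat.card P) := by
      obtain ⟨k, hk⟩ := IsPGroup.iff_card.mp hQ
      rw [hk, relIndex_top_right]
      refine ((Nat.Prime.coprime_iff_not_dvd hp.out).mpr fun h1 => S.not_dvd_index ?_).symm.pow_right k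
      exact h1.trans (index_dvd_of_le (hS ▸ hab))
    obtain ⟨f1, f2⟩ := H8.fitting_decomposition P ⊤ hcomm le_normalizer_of_normal hcop
    have hL : Nat.card (⁅P, ⊤⁆ : Subgroup G) ∣ p := by
      rcases rank_one_dich hp.out P ⊤ (fun g _ y hy => by
        have : ⁅y, g⁆ ∈ P := commutator_le_left P ⊤ (commutator_mem_commutator hy (mem_top g))
        exact ⟨this, hab this⟩) (fun g _ => hi g) with ⟨L, h1, h2⟩ | ⟨H, h1, h2⟩
      · exact (card_dvd_of_le h2).trans h1
      · have h3 := card_sup_mul_card_inf_of_le_normalizer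
          (A := P ⊓ centralizer ((⊤ : Subgroup G) : Set G)) (B := ⁅P, ⊤⁆) le_normalizer_of_normal
        rw [sup_comm, f2, inf_comm, f1, card_bot, mul_one] at h3
        have h4 := ((P ⊓ centralizer ((⊤ : Subgroup G) : Set G)).subgroupOf P).card_mul_index
        rw [Nat.card_congr (subgroupOfEquivOfLe inf_le_left).toEquiv, h3] at h4
        rw [← Nat.eq_of_mul_eq_mul_left Nat.card_pos h4]
        exact (relIndex_dvd_of_le_left P h2).trans h1
    have : IsCyclic (⁅P, ⊤⁆ : Subgroup G) := isCyclic_of_card_dvd_prime hL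
    have h1 : commutator G ≤ P := by
      refine le_trans ?_ hC
      rw [← f2, centralizer_sup]
      refine le_inf (commutator_le_centralizer_of_isCyclic _) (le_centralizer_iff.mp ?_)
      exact inf_le_right.trans (centralizer_anti le_top)
    have h2 := H8.commutator_inf_abelian_sylow S (hS ▸ hcomm)
    have h3 : normalizer (S : Set G) = ⊤ := by
      rw [← Sylow.coe_coe, hS]; exact normalizer_eq_top P
    rw [h3, hS, inf_eq_left.mpr h1] at h2
    rwa [h2]
  have hT : P = ⊤ := by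
    by_contra hT
    obtain ⟨x, -, hx⟩ := SetLike.exists_of_lt (lt_top_iff_ne_top.mpr hT)
    obtain ⟨j, hj⟩ := H7.exists_pow_coprime (p := p) x
    -- a `p'`-element outside `P`
    obtain ⟨k, hk, hk1⟩ : ∃ k : G, (orderOf k).Coprime p ∧ k ≠ 1 := by
      refine ⟨_, hj, fun e => hx ?_⟩
      have := H2.le_pCore (N := P ⊔ P) (by rwa [sup_idem])
      rw [← hS]
      exact (isSyl_sylow S).le_of_le_normalizer' (isPGroup_zpowers e) le_top
        (hS ▸ le_normalizer_of_normal) (mem_zpowers x)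
    have hcop : ∀ c ∈ P, (orderOf c).Coprime (orderOf k) := fun c hc => by
      obtain ⟨n, hn⟩ := isPGroup_iff_forall.mp hQ c hc
      exact Nat.Coprime.coprime_dvd_left (orderOf_dvd_of_pow_eq_one hn) (hk.symm.pow_left n)
    have hkP : ¬ P ≤ centralizer ({k} : Set G) := fun hle => hk1 (by
      have h1 : k ∈ P := hC (le_cent_iff_mem_centralizer.mp hle)
      exact orderOf_eq_one_iff.mp (Nat.coprime_self _ |>.mp (hcop k h1)))
    have hCc : ∀ c ∈ P ⊓ centralizer ({k} : Set G),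
        P ⊓ centralizer ({k} : Set G) ≤ centralizer ({c} : Set G) := fun c hc => by
      have hck : Commute c k := mem_cent_iff.mp hc.2
      have h1 := H24.centralizer_mul_of_coprime hck (hcop c hc.1)
      refine (inf_le_of_relIndex_dvd hp.out (hi (c * k)) ?_ hkP).trans ?_
      · rw [h1]; exact inf_le_right.trans inf_le_right
      · rw [h1]; exact inf_le_left
    obtain ⟨y, hy, hyk⟩ := SetLike.not_le_iff_exists.mp hkP
    have hwP : ⁅y, k⁆ ∈ P := commutator_le_left P ⊤ (commutator_mem_commutator hy (mem_top k))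
    have hw : ⁅y, k⁆ ∉ centralizer ({k} : Set G) := fun hw => hyk (by
      have h1 : Commute ⁅y, k⁆ k := mem_cent_iff.mp hw
      have h2 : (⁅y, k⁆ * k) ^ orderOf k = 1 := by
        rw [commutatorElement_def, inv_mul_cancel_right, conj_pow, pow_orderOf_eq_one]; group
      rw [h1.mul_pow, pow_orderOf_eq_one, mul_one] at h2
      have h3 := Nat.eq_one_of_dvd_coprimes (hcop _ hwP) dvd_rfl (orderOf_dvd_of_pow_eq_one h2)
      exact mem_cent_iff.mpr (commutatorElement_eq_one_iff_mul_comm.mp (orderOf_eq_one_iff.mp h3)))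
    refine hab (le_centralizer_of_relIndex_dvd hp.out (hi k) fun c hc => ?_)
    refine le_cent_iff_mem_centralizer.mp ?_
    by_contra h1
    refine hw (inf_le_of_relIndex_dvd hp.out (hi k) (hCc c hc) h1 ⟨hwP, mem_cent_iff.mpr ?_⟩)
    have a1 := mem_center_iff.mp (hz y⁻¹ (inv_mem hy) c hc.1)
    have a2 : c * k = k * c := mem_cent_iff.mp hc.2
    have a3 : y⁻¹ * c = ⁅y⁻¹, c⁆ * c * y⁻¹ := by rw [commutatorElement_def]; group
    generalize ⁅y⁻¹, c⁆ = z at a1 a3
    calc ⁅y, k⁆ * c = y * k * y⁻¹ * (k⁻¹ * c * k) * k⁻¹ := by rw [commutatorElement_def]; group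
      _ = y * k * (y⁻¹ * c) * k⁻¹ := by rw [mul_assoc k⁻¹, a2]; group
      _ = y * (k * z) * c * y⁻¹ * k⁻¹ := by rw [a3]; group
      _ = y * z * (k * c) * y⁻¹ * k⁻¹ := by rw [a1]; group
      _ = y * (z * c * y⁻¹) * (y * k * y⁻¹ * k⁻¹) := by rw [← a2]; group
      _ = _ := by rw [← a3, commutatorElement_def]; group
  rcases rank_one_dich hp.out P P (fun g hg y hy => ⟨hT ▸ mem_top _,
    center_le_centralizer _ (hz y hy g hg)⟩) (fun g _ => hi g) with ⟨L, h1, h2⟩ | ⟨H, h1, h2⟩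
  · rw [hT] at h2
    exact (card_dvd_of_le h2).trans h1
  · exact absurd (le_centralizer_of_relIndex_dvd hp.out h1 (inf_le_right.trans
      (h2.trans inf_le_right))) hab

end H5
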