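/- An abelian `CC`-subgroup `A` of a group with trivial solvable radical: Hall, contained in every
non-trivial normal subgroup; an element with class size dividing `|A|` is isolated. -/
import Cfsg.Agent.H24.BETI
import Cfsg.Agent.H30.PermChar
import Cfsg.Agent.H29.Burnside
import Cfsg.Agent.H66.CC
import Cfsg.Agent.H4.Cover
import Cfsg.Agent.H4.SolRad
import Cfsg.Agent.H5.ThompsonFpf
import Cfsg.Agent.H34.BS
import Cfsg.Agent.S0205

set_option autoImplicit false

namespace H5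
open Cfsg Subgroup H66

variable {G : Type*} [Group G] {A : Subgroup G}

theorem cc_coprime_index [Finite G] (hA : IsCC A) : (Nat.card A).Coprime A.index := by
  refine Nat.coprime_of_dvd fun p hp h1 h2 => ?_
  have := Fact.mk hp
  obtain ⟨a, ha⟩ := exists_prime_orderOf_dvd_card' (G := A) p h1
  rw [← orderOf_coe] at ha
  obtain ⟨P, hP⟩ := (IsPGroup.of_card (p := p) (n := 1) (G := zpowers (a : G))
    (by rw [Nat.card_zpowers, ha, pow_one])).exists_le_sylow
  have := P.isPGroup'.isNilpotent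
  have h3 : (P : Subgroup G) ≤ A := hA.le_of_isNilpotent a.2 (hP (mem_zpowers _)) fun e => by
    rw [e, orderOf_one] at ha; exact hp.one_lt.ne ha
  exact P.not_dvd_index (h2.trans (index_dvd_of_le h3))

theorem cc_fpf (hA : IsCC A) {M : Subgroup G} (h : A ⊓ M = ⊥) :
    ∀ a ∈ A, a ≠ 1 → M ⊓ centralizer {a} = ⊥ := fun a ha h1 => by rw [hA a ha h1, inf_comm, h]

theorem cc_inf_cent (hA : IsCC A) {n : G} (hn : n ∉ A) : A ⊓ centralizer {n} = ⊥ :=
  inf_centralizer_eq_bot_iff.2 fun a ha h => by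
    by_contra h1
    exact hn (hA.mem_of_commute ha h1 h.symm)

/-- A normal subgroup meeting `A` trivially is nilpotent. -/
theorem cc_nilpotent [Finite G] (hA : IsCC A) (h1 : A ≠ ⊥) (M : Subgroup G) [M.Normal]
    (h : A ⊓ M = ⊥) : Group.IsNilpotent M :=
  isNilpotent_of_fpf_subgroup h1 le_normalizer_of_normal (cc_fpf hA h)

theorem cc_le_normal [Finite G] (hS : solvableRadical G = ⊥) (hA : IsCC A) (N : Subgroup G)
    [N.Normal] (hN : N ≠ ⊥) : A ≤ N := by
  obtain ⟨M, hM, hMN, hM1, hmin⟩ := H2.exists_minimal_normal_le N hN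
  refine le_trans ?_ hMN
  by_cases h1 : A = ⊥
  · exact h1 ▸ bot_le
  have hns : ¬ Group.IsNilpotent M := fun h => hM1 (le_bot_iff.1 (hS ▸ H4.le_solRad M))
  have h2 : A ⊓ M ≠ ⊥ := fun h => hns (cc_nilpotent hA h1 M h)
  obtain ⟨p, hp, hpd⟩ := Nat.exists_prime_and_dvd (mt card_eq_one.1 h2)
  have := Fact.mk hp
  obtain ⟨⟨b, hbA, hbM⟩, hb⟩ := exists_prime_orderOf_dvd_card' (G := ↥(A ⊓ M)) p hpd
  replace hb : orderOf b = p := by rw [← hb]; exact (orderOf_mk _ _).symm
  have hb1 : b ≠ 1 := fun e => by rw [e, orderOf_one] at hb; exact hp.one_lt.ne hb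
  obtain ⟨P, hP⟩ := (IsPGroup.of_card (p := p) (n := 1) (G := zpowers (⟨b, hbM⟩ : M))
    (by rw [Nat.card_zpowers, orderOf_mk, hb, pow_one])).exists_le_sylow
  have hbP : (⟨b, hbM⟩ : M) ∈ (P : Subgroup M) := hP (mem_zpowers _)
  have hPA : ∀ x ∈ (P : Subgroup M), (x : G) ∈ A := fun x hx => by
    have := (P.isPGroup'.map M.subtype).isNilpotent
    exact hA.le_of_isNilpotent (P := (P : Subgroup M).map M.subtype) hbA ⟨_, hbP, rfl⟩ hb1
      ⟨x, hx, rfl⟩
  by_cases h3 : normalizer ((P : Subgroup M) : Set M) ≤ centralizer ((P : Subgroup M) : Set M)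
  · exfalso
    have hc := MonoidHom.ker_transferSylow_isComplement' P h3
    have h4 := H7.pResidual_eq_of_isComplement' P hc
    have := H7.pResidual_characteristic (p := p) (G := M)
    rcases hmin ((pResidual p M).map M.subtype) inferInstance (map_subtype_le _) with h | h
    · rw [map_eq_bot_iff_of_injective _ M.subtype_injective] at h
      exact hns (H7.isPGroup_iff_pResidual_eq_bot.2 h).isNilpotent
    · refine H7.not_dvd_card_of_isComplement' P hc ?_
      rw [← h4, ← card_map_of_injective M.subtype_injective, h]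
      exact hpd.trans (card_dvd_of_le inf_le_right)
  · obtain ⟨n, hn, hn'⟩ := SetLike.not_le_iff_exists.1 h3
    have h4 : (n : G) ∈ normalizer (A : Set G) :=
      hA.mem_normalizer hbA hb1 (hPA _ ((mem_normalizer_iff.1 hn _).1 hbP))
    have h5 : (n : G) ∉ A := fun h => hn' fun x hx => Subtype.ext (hA.comm h (hPA x hx))
    intro a ha
    obtain ⟨y, -, rfl⟩ := exists_commutator_eq_of_fpf h4 (cc_inf_cent hA h5) ha
    exact M.mul_mem (hM.conj_mem _ n.2 y) (M.inv_mem n.2)

theorem eq_one_of_central (hS : solvableRadical G = ⊥) {t : G} (h : t ∈ center G) : t = 1 := by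
  have : Group.IsSolvable (center G) := Group.isSolvable_of_comm fun a b =>
    Subtype.ext (mem_center_iff.1 b.2 a)
  exact mem_bot.1 (hS ▸ H4.le_solRad (center G) h)

theorem cc_ti (hA : IsCC A) : H24.BE.TI (normalizer (A : Set G)) A :=
  ⟨le_normalizer, fun _ hx _ hy => hA.comm hy hx, le_rfl,
    fun _ hk h1 _ hg => hA.mem_normalizer hk h1 hg, fun _ hk h1 _ _ h => hA.mem_of_commute hk h1 h⟩

section Char
open H28 H36 Finset H24.BE
open scoped Classical ComplexConjugate

/-- Constituents of a character whose restriction to `A` is regular. -/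
theorem cc_degree_coprime [Fintype G] (hA : IsCC A) (a : IrrCharacter G → ℕ)
    (ha : ∀ ψ : A →* ℂˣ, ∑ χ, (a χ : ℤ) * mult A χ ψ = 1) {χ : IrrCharacter G} (h0 : a χ ≠ 0)
    (h1 : mult A χ 1 = 0) {d : ℕ} (hd : (χ : G → ℂ) 1 = d) (hd0 : 0 < d) :
    d.Coprime (Nat.card A) := by
  have h := cc_ti hA
  have nn : ∀ ψ χ', 0 ≤ (a χ' : ℤ) * mult A χ' ψ := fun ψ χ' =>
    mul_nonneg (Int.natCast_nonneg _) (mult_nonneg _ _)
  have two : ∀ ψ χ', χ' ≠ χ → (a χ : ℤ) * mult A χ ψ + (a χ' : ℤ) * mult A χ' ψ ≤ 1 :=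
    fun ψ χ' hne => by
      rw [← ha ψ, ← sum_pair (f := fun χ' => (a χ' : ℤ) * mult A χ' ψ) hne.symm]
      exact sum_le_univ_sum_of_nonneg (nn ψ)
  have a1 : (1 : ℤ) ≤ a χ := by omega
  have le1 : ∀ ψ, mult A χ ψ = 0 ∨ mult A χ ψ = 1 := fun ψ => by
    have h2 : (a χ : ℤ) * mult A χ ψ ≤ 1 :=
      ha ψ ▸ single_le_sum (f := fun χ' => (a χ' : ℤ) * mult A χ' ψ) (fun i _ => nn ψ i) (mem_univ χ)
    have := mult_nonneg χ ψ
    have : mult A χ ψ ≤ 1 := by nlinarith
    omega
  let S : Finset (A →* ℂˣ) := {ψ | mult A χ ψ = 1}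
  have hS : d = #S := by
    have h2 := h.apply_one χ
    rw [hd] at h2
    have h3 : (d : ℤ) = ∑ ψ, mult A χ ψ := by exact_mod_cast h2
    rw [sum_congr rfl (g := fun ψ => if mult A χ ψ = 1 then 1 else 0)
      (fun ψ _ => by rcases le1 ψ with e | e <;> simp [e]), sum_boole] at h3
    exact_mod_cast h3
  by_cases hall : ∀ ψ, ψ ≠ 1 → mult A χ ψ = 1
  · have h2 : S = univ.erase 1 := by
      ext ψ
      simp only [S, mem_filter, mem_univ, true_and, mem_erase, and_true]
      exact ⟨fun e e' => by rw [e', h1] at e; omega, hall ψ⟩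
    rw [hS, h2, card_erase_of_mem (mem_univ _), card_univ, h.card_hom]
    have := Nat.card_pos (α := A)
    rw [show Nat.card A = (Nat.card A - 1) + 1 by omega, Nat.add_sub_cancel]
    simp
  push Not at hall
  obtain ⟨ψ₂, n2, m2⟩ := hall
  replace m2 := (le1 ψ₂).resolve_right m2
  obtain ⟨χ', -, hχ'⟩ := exists_ne_zero_of_sum_ne_zero (s := univ)
    (f := fun χ' => (a χ' : ℤ) * mult A χ' ψ₂) (by rw [ha]; omega)
  have hne : χ' ≠ χ := fun e => hχ' (by rw [e, m2, mul_zero])
  have a2 : (1 : ℤ) ≤ a χ' := by have := left_ne_zero_of_mul hχ'; omega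
  have m3 : mult A χ' ψ₂ ≠ 0 := right_ne_zero_of_mul hχ'
  have m4 : ∀ ψ ∈ S, mult A χ' ψ = 0 := fun ψ hψ => by
    have h2 := two ψ χ' hne
    rw [(mem_filter.1 hψ).2] at h2
    have := mult_nonneg χ' ψ
    nlinarith
  have m5 : ∀ ψ ∈ S, ∀ χ'', χ'' ≠ χ → χ'' ≠ χ' → mult A χ'' ψ = mult A χ'' ψ₂ :=
    fun ψ hψ χ'' e1 e2 => by
      have hψ1 := (mem_filter.1 hψ).2
      have h2 := h.bessel_two (ψ := ψ) (fun e => by rw [e, h1] at hψ1; omega) n2
      have h3 := sum_le_univ_sum_of_nonneg (s := {χ'', χ, χ'})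
        (f := fun χ => (mult A χ ψ - mult A χ ψ₂) ^ 2) fun i => sq_nonneg _
      rw [sum_insert (by simp [e1, e2]), sum_pair hne.symm, hψ1, m2, m4 ψ hψ] at h3
      have h4 : 1 ≤ (0 - mult A χ' ψ₂) ^ 2 :=
        (one_le_sq_iff_one_le_abs _).2 (Int.one_le_abs (by omega))
      have h5 : (mult A χ'' ψ - mult A χ'' ψ₂) ^ 2 = 0 :=
        le_antisymm (by omega) (sq_nonneg _)
      exact sub_eq_zero.1 (pow_eq_zero_iff two_ne_zero |>.1 h5)
  obtain ⟨ψ, hψ⟩ : S.Nonempty := Finset.card_pos.1 (hS ▸ hd0)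
  have c0 : ∀ ψ', ψ' ∉ S → h.cnt ψ ψ' = 0 := fun ψ' hψ' => by
    refine Finset.card_eq_zero.2 (filter_eq_empty_iff.2 fun n _ e => hψ' ?_)
    rw [← e]
    exact mem_filter.2 ⟨mem_univ _, (h.mult_cj χ ψ n).trans (mem_filter.1 hψ).2⟩
  have c1 : ∀ ψ' ∈ S, h.cnt ψ ψ' = Nat.card A := fun ψ' hψ' => by
    have h2 := h.gram ψ' ψ₂ ψ
    rw [c0 ψ₂ (fun e => by have := (mem_filter.1 e).2; omega), sum_eq_single χ
      (fun χ'' _ e => by
        by_cases e' : χ'' = χ'
        · rw [e', m4 ψ hψ, zero_mul]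
        · rw [m5 ψ' hψ' χ'' e e', sub_self, mul_zero]) (by simp),
      (mem_filter.1 hψ).2, (mem_filter.1 hψ').2, m2] at h2
    omega
  have c2 : Nat.card (normalizer (A : Set G)) = d * Nat.card A := by
    rw [Nat.card_eq_fintype_card, ← card_univ,
      card_eq_sum_card_fiberwise (f := h.cj ψ) (t := S) fun n _ =>
        mem_filter.2 ⟨mem_univ _, (h.mult_cj χ ψ n).trans (mem_filter.1 hψ).2⟩,
      hS, ← smul_eq_mul, ← sum_const]
    exact sum_congr rfl c1
  have c3 : d ∣ A.index := by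
    have h2 := card_subgroup_dvd_card (normalizer (A : Set G))
    rw [c2, ← A.index_mul_card] at h2
    exact Nat.dvd_of_mul_dvd_mul_right Nat.card_pos h2
  exact Nat.Coprime.coprime_dvd_left c3 (cc_coprime_index hA).symm

/-- An element outside the conjugates of `A` whose class size divides `|A|` is isolated. -/
theorem cc_isolated [Finite G] (hS : solvableRadical G = ⊥) (hA : IsCC A) {t : G}
    (ht : (orderOf t).Coprime (Nat.card A)) (hind : H4.ind t ∣ Nat.card A) {g : G}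
    (hg : Commute t (g * t * g⁻¹)) : g * t * g⁻¹ = t := by
  by_cases t1 : t = 1
  · simp [t1]
  have := Fintype.ofFinite G
  let Ω := G ⧸ centralizer ({t} : Set G)
  have fix : ∀ x y : G, x • (y : Ω) = y ↔ x * (y * t * y⁻¹) = y * t * y⁻¹ * x := fun x y => by
    rw [MulAction.Quotient.smul_coe, QuotientGroup.eq, H4.mem_cent_iff, smul_eq_mul]
    constructor
    · intro e
      calc _ = x * y * ((x * y)⁻¹ * y * t * ((x * y)⁻¹ * y)⁻¹) * y⁻¹ * (y * y⁻¹) := by
            rw [e]; group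
        _ = _ := by group
    · intro e
      calc _ = y⁻¹ * x⁻¹ * (y * t * y⁻¹ * x) * x⁻¹ * y := by group
        _ = _ := by rw [← e]; group
  obtain ⟨a, ha1, ha2⟩ := (H30.isCharacter_fixChar (G := G) Ω).exists_nat_coeffs
  have hz : ∀ x : A, x ≠ 1 → H30.fixChar G Ω x = 0 := fun x hx => by
    rw [H30.fixChar_apply, Nat.cast_eq_zero, Nat.card_eq_zero]
    refine Or.inl ⟨fun ⟨y, hy⟩ => ?_⟩
    obtain ⟨y, rfl⟩ := QuotientGroup.mk_surjective y
    have h1 := hA.mem_of_commute x.2 (fun e => hx (Subtype.ext e)) ((fix x y).1 hy).symm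
    have h2 := A.orderOf_dvd_natCard h1
    rw [H24.orderOf_conj'] at h2
    exact t1 (orderOf_eq_one_iff.1 (Nat.Coprime.eq_one_of_dvd ht h2))
  have h3 : ∀ ψ : A →* ℂˣ, (Nat.card A : ℤ) * ∑ χ, (a χ : ℤ) * mult A χ ψ = H4.ind t := fun ψ => by
    have h1 := card_mul_classInner (fun x : A => H30.fixChar G Ω x) fun x => (ψ x : ℂ)
    rw [sum_eq_single 1 (fun x _ hx => by rw [hz x hx, zero_mul]) (by simp)] at h1
    have h2 : (fun x : A => H30.fixChar G Ω x) =
        ∑ χ : IrrCharacter G, (a χ : ℂ) • fun x : A => (χ : G → ℂ) x := by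
      funext x
      rw [ha2]
      simp [Finset.sum_apply]
    rw [h2, classInner_sum_left] at h1
    simp only [classInner_smul_left, ← coe_mult, OneMemClass.coe_one, H30.fixChar_one, map_one,
      Units.val_one, mul_one] at h1
    exact_mod_cast h1
  have h4 : ∀ ψ : A →* ℂˣ, ∑ χ, (a χ : ℤ) * mult A χ ψ = 1 := fun ψ => by
    have h1 := h3 ψ
    have h2 : (H4.ind t : ℤ) ≤ Nat.card A := by exact_mod_cast Nat.le_of_dvd Nat.card_pos hind
    have h5 : (0 : ℤ) < H4.ind t := by exact_mod_cast H4.ind_pos t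
    have h6 : (0 : ℤ) < Nat.card A := by exact_mod_cast Nat.card_pos
    have h7 : 0 < ∑ χ, (a χ : ℤ) * mult A χ ψ := (mul_pos_iff_of_pos_left h6).1 (h1 ▸ h5)
    nlinarith
  let one : IrrCharacter G := ⟨_, isIrrCharacter_one⟩
  have a1 : a one = 1 := by
    have := H30.classInner_fixChar_one_of_transitive (G := G) Ω
    exact_mod_cast (ha1 one).symm.trans this
  have h5 : ∀ χ, χ ≠ one → (a χ : ℂ) * (χ : G → ℂ) t = 0 := fun χ hne => by
    by_cases h0 : a χ = 0
    · simp [h0]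
    have m1 : mult A χ 1 = 0 := by
      have h1 := sum_le_univ_sum_of_nonneg (s := {χ, one}) (f := fun χ => (a χ : ℤ) * mult A χ 1)
        fun i => mul_nonneg (Int.natCast_nonneg _) (mult_nonneg _ _)
      rw [sum_pair hne, h4, a1, mult_of_eq_one (χ := one) rfl, if_pos rfl] at h1
      have := mult_nonneg χ (1 : A →* ℂˣ)
      have : (1 : ℤ) ≤ a χ := by omega
      push_cast at h1
      nlinarith
    obtain ⟨_, n, ρ, hρ, rfl⟩ := χ
    have hd := H29.finrank_pos_of_isIrreducible ρ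
    have hc := cc_degree_coprime hA a h4 h0 m1 ρ.char_one hd
    rcases H29.char_eq_zero_or_norm_eq_of_coprime ρ t (hc.coprime_dvd_right hind) with e | e
    · exact mul_eq_zero_of_right _ e
    exfalso
    obtain ⟨ω, hω⟩ := (H29.norm_char_eq_iff ρ t).1 e
    by_cases hk : MonoidHom.ker ρ = ⊥
    · refine t1 (eq_one_of_central hS (mem_center_iff.2 fun x => ?_))
      refine (MonoidHom.ker_eq_bot_iff ρ).1 hk ?_
      rw [map_mul, map_mul, hω]
      ext v
      simp
    · have h1 := cc_le_normal hS hA _ hk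
      have h2 := coe_mult (A := A) ⟨_, n, ρ, hρ, rfl⟩ 1
      rw [m1, classInner_def, sum_congr rfl (g := fun _ => (Module.finrank ℂ (Fin n → ℂ) : ℂ))
        fun x _ => by simpa using (H29.char_eq_iff ρ x).2 (h1 x.2)] at h2
      simp only [Int.cast_zero, sum_const, card_univ, nsmul_eq_mul, zero_eq_mul, inv_eq_zero,
        Nat.cast_eq_zero, mul_eq_zero] at h2
      have := Nat.card_pos (α := A)
      have := Fintype.card_pos (α := A)
      omega
  have h6 : H30.fixChar G Ω t = 1 := by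
    rw [ha2, Finset.sum_apply, sum_eq_single one (fun χ _ e => by simpa using h5 χ e) (by simp)]
    simp [a1, one]
  rw [H30.fixChar_apply, Nat.cast_eq_one, Nat.card_eq_one_iff_unique] at h6
  have h7 := h6.1.elim ⟨((1 : G) : Ω), (fix t 1).2 (by simp)⟩ ⟨(g : Ω), (fix t g).2 hg.eq⟩
  have h8 := H4.mem_cent_iff.1 (QuotientGroup.eq.1 (congrArg Subtype.val h7))
  rw [_root_.inv_one, one_mul] at h8
  rw [h8, mul_inv_cancel_right]

end Char

/-- No involution has class size dividing the odd order of `A`. -/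
theorem cc_invol [Finite G] (hS : solvableRadical G = ⊥) (hA : IsCC A) (ho : Odd (Nat.card A))
    {t : G} (ht : orderOf t = 2) (hind : H4.ind t ∣ Nat.card A) : False := by
  have h1 := H34.zstar (u := t) ⟨ht, fun g hg =>
    cc_isolated hS hA (ht ▸ (Nat.coprime_two_left.2 ho)) hind hg⟩
  have : Group.IsSolvable (oddCore G) := Cfsg.Agent.S0205.result
    (Nat.odd_iff.2 (Nat.two_dvd_ne_zero.1 (H2.not_dvd_card_pPrimeCore 2 G)))
  have h2 : oddCore G ≤ ⊥ := hS ▸ H4.le_solRad (oddCore G)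
  have h3 : t ∈ center G := mem_center_iff.2 fun g => by
    have := mem_bot.1 (h2 (h1 g))
    calc g * t = t * g * t⁻¹ * g⁻¹ * (g * t) := by rw [this, one_mul]
      _ = t * g := by group
  have h4 := eq_one_of_central hS h3
  rw [h4, orderOf_one] at ht
  omega

end H5
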