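/- Groups with an abelian `CC`-subgroup `A` of odd order in which the other classes have size
`|A|` or `m` are solvable. -/
import Cfsg.Agent.H5.CS1
import Cfsg.Agent.H5.CCChar
import Cfsg.Agent.H5.FrobCompl
import Cfsg.Agent.H5.ThompsonCond
import Cfsg.Agent.H4.Kazarin
import Cfsg.Agent.H1.Coprime2
import Cfsg.Agent.H13.Comm
import Cfsg.Agent.H14.Std
import Cfsg.Agent.H99.BenderB
import Cfsg.Agent.H82.Hub

set_option autoImplicit false

namespace H5.CS
open Cfsg Subgroup H4 H66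

universe u
variable {G : Type u} [Group G] [Finite G] {A : Subgroup G} {m : ℕ}

local notation "C " x:max => Subgroup.centralizer ({x} : Set _)

theorem ft (h : Odd (Nat.card G)) : Group.IsSolvable G := Cfsg.Agent.S0205.result h

theorem cc_map (hA : IsCC A) (N : Subgroup G) [N.Normal] (h : A ⊓ N = ⊥) :
    IsCC (A.map (QuotientGroup.mk' N)) := by
  rintro _ ⟨a, ha, rfl⟩ h1
  have a1 : a ≠ 1 := fun e => h1 (by rw [e, map_one])
  refine le_antisymm (fun g hg => ?_) ?_
  · obtain ⟨g, rfl⟩ := QuotientGroup.mk'_surjective N g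
    have h2 : g * a * g⁻¹ * a⁻¹ ∈ N := by
      rw [← QuotientGroup.ker_mk' N, MonoidHom.mem_ker]
      simp only [map_mul, map_inv, mem_cent_iff.1 hg]
      group
    obtain ⟨y, hy, e⟩ := exists_conj_eq_mul_of_fpf (le_normalizer_of_normal (mem_top a))
      (cc_fpf hA h a ha a1) h2
    refine ⟨y⁻¹ * g, hA.mem_of_commute ha a1 ?_, ?_⟩
    · calc y⁻¹ * g * a = y⁻¹ * (g * a * g⁻¹ * a⁻¹ * a) * g := by group
        _ = _ := by rw [← e]; group
    · rw [map_mul, map_inv, (QuotientGroup.eq_one_iff y).2 hy |> fun e : QuotientGroup.mk' N y = 1 => e,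
        inv_one, one_mul]
  · rintro _ ⟨b, hb, rfl⟩
    rw [mem_cent_iff, ← map_mul, ← map_mul, hA.comm ha hb]

theorem cc_frattini (hA : IsCC A) (M : Subgroup G) [M.Normal] (h : A ⊓ M ≠ ⊥) :
    M ⊔ normalizer (A : Set G) = ⊤ := by
  obtain ⟨p, hp, hpd⟩ := Nat.exists_prime_and_dvd (mt card_eq_one.1 h)
  have := Fact.mk hp
  obtain ⟨b, ⟨hbA, hbM⟩, hb⟩ := exists_orderOf_mem hp hpd
  have hb1 := ne_one_of_prime hp hb
  obtain ⟨P, hP⟩ := (IsPGroup.of_card (p := p) (n := 1) (G := zpowers (⟨b, hbM⟩ : M))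
    (by rw [Nat.card_zpowers, orderOf_mk, hb, pow_one])).exists_le_sylow
  have hbP : b ∈ (P : Subgroup M).map M.subtype := ⟨_, hP (mem_zpowers _), rfl⟩
  have := (P.isPGroup'.map M.subtype).isNilpotent
  have hPA := hA.le_of_isNilpotent hbA hbP hb1
  rw [eq_top_iff, ← P.normalizer_sup_eq_top, sup_comm]
  exact sup_le_sup_left (fun g hg => hA.mem_normalizer hbA hb1
    (hPA ((mem_normalizer_iff.1 hg _).1 hbP))) _

theorem cc_coprime_of_commute (hA : IsCC A) {x y : G} (h1 : x ≠ 1)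
    (hx : (orderOf x).Coprime (Nat.card A)) (h : y ∈ C x) : (orderOf y).Coprime (Nat.card A) := by
  by_contra hy
  obtain ⟨g, hg⟩ := hA.exists_conj_mem hy
  have y1 : g⁻¹ * y * g ≠ 1 := fun e => hy (by
    rw [show y = g * (g⁻¹ * y * g) * g⁻¹ by group, e]; simp)
  have h2 : g⁻¹ * x * g⁻¹⁻¹ ∈ A := hA.mem_of_commute hg y1 (by
    calc _ = g⁻¹ * (x * y) * g := by group
      _ = _ := by rw [← mem_cent_iff.1 h]; group)
  have h3 := A.orderOf_dvd_natCard h2
  rw [H24.orderOf_conj'] at h3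
  exact h1 (orderOf_eq_one_iff.1 (Nat.Coprime.eq_one_of_dvd hx h3))

/-- The hypothesis of the main case. -/
structure Main (A : Subgroup G) (m : ℕ) : Prop where
  cc : IsCC A
  ne : A ≠ ⊥
  odd : Odd (Nat.card A)
  ind : ∀ x : G, x ≠ 1 → (orderOf x).Coprime (Nat.card A) → ind x = Nat.card A ∨ ind x = m
  lt : Nat.card A < m

namespace Main
variable (h : Main A m)
include h

theorem cop {t : G} {k : ℕ} (ht : orderOf t = 2 ^ k) : (orderOf t).Coprime (Nat.card A) :=
  ht ▸ (Nat.coprime_two_left.2 h.odd).pow_left k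

theorem oddCen {t : G} {k : ℕ} (h1 : t ≠ 1) (ht : orderOf t = 2 ^ k) (hi : H4.ind t = m) :
    OddCen t := fun y hy ho => by
  have hc : (orderOf t).Coprime (orderOf y) := ht ▸ (Nat.coprime_two_left.2 ho).pow_left k
  have h2 : t * y ∈ C t := mul_mem (self_mem_cent t) hy
  have h3 : t * y ≠ 1 := fun e => h1 (orderOf_eq_one_iff.1 (by
    rwa [← inv_eq_of_mul_eq_one_right e, orderOf_inv, Nat.coprime_self] at hc))
  refine cent_le_of_ind_le hy hc ?_
  rcases h.ind _ h3 (cc_coprime_of_commute h.cc h1 (h.cop ht) h2) with e | e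
  · rw [e, hi]; exact h.lt.le
  · rw [e, hi]

theorem not_mem {t : G} {k : ℕ} (h1 : t ≠ 1) (ht : orderOf t = 2 ^ k) : t ∉ A := fun e =>
  h1 (orderOf_eq_one_iff.1 ((h.cop ht).eq_one_of_dvd (A.orderOf_dvd_natCard e)))

theorem solvable_cent {z : G} (hz : orderOf z = 2) (hn : z ∈ normalizer (A : Set G)) :
    Group.IsSolvable (C z) := by
  have z1 := ne_one_of_prime Nat.prime_two hz
  have hz' : orderOf z = 2 ^ 1 := hz
  rcases h.ind z z1 (h.cop hz') with e | e
  swap
  · have := nilpotent_of_oddCen (h.oddCen z1 hz' e)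
    infer_instance
  have hd := cc_inf_cent h.cc (h.not_mem z1 hz')
  have hc : IsComplement' A (C z) := isComplement'_of_card_mul_and_disjoint
    (by rw [← e, (C z).index_mul_card]) (disjoint_iff.2 hd)
  have dec : ∀ g : G, ∃ a ∈ A, ∃ c ∈ C z, a * c = g := fun g => by
    obtain ⟨⟨a, c⟩, e, -⟩ := hc.existsUnique g
    exact ⟨a, a.2, c, c.2, e⟩
  have hN : A.Normal := ⟨fun a ha g => by
    obtain ⟨y, hy, rfl⟩ := exists_commutator_eq_of_fpf hn hd ha
    obtain ⟨b, hb, c, hc, rfl⟩ := dec g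
    obtain ⟨b', hb', c', hc', e⟩ := dec (c * y)
    have h1 : b * c * (y * z * y⁻¹ * z⁻¹) * (b * c)⁻¹ = b * (b' * (z * b'⁻¹ * z⁻¹)) * b⁻¹ := by
      calc _ = b * ((c * y) * z * (c * y)⁻¹ * (c * z * c⁻¹)⁻¹) * b⁻¹ := by group
        _ = b * (b' * (c' * z) * c'⁻¹ * b'⁻¹ * z⁻¹) * b⁻¹ := by
            rw [← e, mem_cent_iff.1 hc]; group
        _ = _ := by rw [mem_cent_iff.1 hc']; group
    rw [h1]
    exact mul_mem (mul_mem hb (mul_mem hb' ((mem_normalizer_iff.1 hn _).1 (inv_mem hb'))))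
      (inv_mem hb)⟩
  have h2 : ∀ x : C z, H4.ind x = 1 ∨ H4.ind x = m / Nat.card A := fun x => by
    by_cases x1 : x = 1
    · exact Or.inl (ind_eq_one_iff.2 (x1 ▸ one_mem _))
    have x1' : (x : G) ≠ 1 := fun e => x1 (Subtype.ext e)
    have h3 : C (x : G) ≤ C z := fun g hg => frob_TI_of_fpf hc
      (fun y hy y1 => cc_inf_cent h.cc fun e => y1 (mem_bot.1 (hd ▸ mem_inf.2 ⟨e, hy⟩))) g x x.2 x1'
      (by rw [mem_cent_iff.1 hg, mul_inv_cancel_right]; exact x.2)
    have h4 : H4.ind x * Nat.card A = H4.ind (x : G) := by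
      rw [H4.ind, H18.index_centralizer_coe, ← e, relIndex_mul_index h3]
    rcases h.ind x x1' (cc_coprime_of_commute h.cc z1 (h.cop hz') x.2) with e' | e'
    · exact Or.inl (Nat.eq_of_mul_eq_mul_right Nat.card_pos (by rw [h4, e', one_mul]))
    · exact Or.inr (by rw [← e', ← h4, Nat.mul_div_cancel _ Nat.card_pos])
  have := nilpotent_of_two_sizes h2
  infer_instance

theorem solvable_normalizer : Group.IsSolvable (normalizer (A : Set G)) := by
  rcases Nat.even_or_odd (Nat.card (normalizer (A : Set G))) with e | e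
  swap
  · exact ft e
  obtain ⟨z, hn, hz⟩ := exists_orderOf_mem Nat.prime_two e.two_dvd
  have z1 := ne_one_of_prime Nat.prime_two hz
  have := h.solvable_cent hz hn
  have : Group.IsSolvable A := Group.isSolvable_of_comm fun a b => Subtype.ext (h.cc.comm b.2 a.2)
  have : Group.IsSolvable ↥(C z ⊓ normalizer (A : Set G)) := H2.isSolvable_of_le inf_le_left
  have := isSolvable_sup_of_le_normalizer (V := A) (B := C z ⊓ normalizer (A : Set G)) inf_le_right
  refine H2.isSolvable_of_le (B := A ⊔ C z ⊓ normalizer (A : Set G)) fun n hn' => ?_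
  have inv : ∀ t ∈ normalizer (A : Set G), orderOf t = 2 → ∀ a ∈ A, t * a * t⁻¹ = a⁻¹ := by
    intro t ht t2 a ha
    have h2 : t * t = 1 := by rw [← sq, ← t2, pow_orderOf_eq_one]
    have h1 : t * a * t⁻¹ ∈ A := (mem_normalizer_iff.mp ht a).mp ha
    have ht' : t⁻¹ = t := inv_eq_of_mul_eq_one_right h2
    by_contra e
    refine h.not_mem (k := 1) (ne_one_of_prime Nat.prime_two t2) t2
      (h.cc.mem_of_commute (mul_mem h1 ha) (fun e' => e (eq_inv_of_mul_eq_one_left e')) ?_)
    calc t * (t * a * t⁻¹ * a) = t * t * (a * t⁻¹ * a) := by group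
      _ = a * (t * a * t⁻¹) * t := by rw [h2, ht']; simp [mul_assoc, h2]
      _ = _ := by rw [h.cc.comm h1 ha]
  obtain ⟨a, ha, a1⟩ := (A.bot_or_exists_ne_one).resolve_left h.ne
  have h1 := inv _ (mul_mem (mul_mem hn' hn) (inv_mem hn')) ((H24.orderOf_conj' n z).trans hz) _
    (inv_mem ha)
  have h2 : n * z * n⁻¹ * z⁻¹ ∈ A := h.cc.mem_of_commute ha a1 (by
    calc n * z * n⁻¹ * z⁻¹ * a = n * z * n⁻¹ * z⁻¹ * (z * a⁻¹ * z⁻¹) := by
          rw [inv z hn hz _ (inv_mem ha), inv_inv]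
      _ = (n * z * n⁻¹ * a⁻¹ * (n * z * n⁻¹)⁻¹) * (n * z * n⁻¹ * z⁻¹) := by group
      _ = _ := by rw [h1, inv_inv])
  obtain ⟨y, hy, e⟩ := exists_conj_eq_mul_of_fpf hn
    (cc_inf_cent h.cc (h.not_mem (k := 1) z1 hz)) h2
  rw [show n = y * (y⁻¹ * n) by group]
  refine mul_mem_sup hy (mem_inf.2 ⟨mem_cent_iff.2 ?_, mul_mem (inv_mem (le_normalizer hy)) hn'⟩)
  calc y⁻¹ * n * z = y⁻¹ * (n * z * n⁻¹ * z⁻¹ * z) * n := by group
    _ = _ := by rw [← e]; group

theorem inf_solRad (hG : ¬ Group.IsSolvable G) : A ⊓ solvableRadical G = ⊥ := by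
  by_contra e
  have := h.solvable_normalizer
  have := isSolvable_sup_of_le_normalizer (V := solvableRadical G) (B := normalizer (A : Set G))
    le_normalizer_of_normal
  rw [cc_frattini h.cc _ e] at this
  exact hG (H2.isSolvable_of_mulEquiv topEquiv)

theorem cent_le (hG : ¬ Group.IsSolvable G) (V : Subgroup G) [V.Normal] (h1 : V ≠ ⊥)
    (h2 : V ≤ solvableRadical G) : centralizer (V : Set G) ≤ solvableRadical G := by
  have := cc_nilpotent h.cc h.ne (centralizer (V : Set G)) (eq_bot_iff.2 fun a ⟨ha, hc⟩ => by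
    by_contra a1
    exact h1 (eq_bot_iff.2 fun v hv => h.inf_solRad hG ▸
      mem_inf.2 ⟨h.cc.mem_of_commute ha a1 (hc v hv), h2 hv⟩))
  exact le_solRad _

theorem ind_two (hG : ¬ Group.IsSolvable G) {t : G} {k : ℕ} (ht : orderOf t = 2 ^ k)
    (hN : t ∉ solvableRadical G) : H4.ind t = m := by
  refine (h.ind t (fun e => hN (e ▸ one_mem _)) (h.cop ht)).resolve_left fun e => ?_
  let f := QuotientGroup.mk' (solvableRadical G)
  obtain ⟨j, hj⟩ := exists_prime_pow (x := f t) fun e => hN ((QuotientGroup.eq_one_iff t).1 e)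
  have h2 : orderOf (f t ^ j) = 2 := (Nat.prime_dvd_prime_iff_eq hj Nat.prime_two).1
    (hj.dvd_of_dvd_pow (ht ▸ (orderOf_pow_dvd j).trans (orderOf_map_dvd f t)))
  have h3 : Nat.card (A.map f) = Nat.card A := by
    have h4 := relIndex_ker A f
    rw [← h4, QuotientGroup.ker_mk', ← inf_relIndex_right, inf_comm, h.inf_solRad hG,
      relIndex_bot_left]
  refine cc_invol (solRad_quotient_solRad G) (cc_map h.cc _ (h.inf_solRad hG)) (h3 ▸ h.odd) h2 ?_
  rw [h3, ← e]
  exact (ind_pow_dvd _ j).trans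
    (H18.index_centralizer_map_dvd f (QuotientGroup.mk'_surjective _) t)

theorem oddC_ne_bot (hG : ¬ Group.IsSolvable G) {t : G} {k : ℕ} (ht : orderOf t = 2 ^ k)
    (hN : t ∉ solvableRadical G) : oddC t ≠ ⊥ := fun e => by
  have t1 : t ≠ 1 := fun e => hN (e ▸ one_mem _)
  have h1 : ∀ r : ℕ, r.Prime → r ∣ Nat.card (C t) → r = 2 := fun r hr hd => by
    by_contra h2
    have := dvd_card_oddC t (hr.odd_of_ne_two h2) hd
    rw [e, card_bot] at this
    exact hr.one_lt.ne' (Nat.dvd_one.1 this)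
  have h2 : ∀ r : ℕ, r.Prime → r ∣ A.index → r = 2 := fun r hr hd => by
    obtain ⟨y, -, hy⟩ := exists_orderOf_mem hr (K := (⊤ : Subgroup G))
      (by rw [card_top]; exact hd.trans A.index_dvd_card)
    have h3 : (orderOf y).Coprime (Nat.card A) :=
      hy ▸ Nat.Coprime.coprime_dvd_left hd (cc_coprime_index h.cc).symm
    have h4 : r ∣ Nat.card (C y) := hy ▸ orderOf_dvd_natCard _ (self_mem_cent y)
    rcases h.ind y (ne_one_of_prime hr hy) h3 with e | e
    · obtain ⟨P, hP⟩ := (isPGroup_zpowers_of_orderOf ht).exists_le_sylow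
      obtain ⟨g, hg⟩ := exists_conj_mem_centralizer_sylow P (x := y)
        (by rw [e]; exact h.odd.not_two_dvd_nat)
      refine h1 r hr ?_
      rw [← hy, ← H24.orderOf_conj' g y]
      exact orderOf_dvd_natCard _ (mem_cent_iff.2 (hg t (hP (mem_zpowers t))).symm)
    · refine h1 r hr ?_
      have h5 := (C y).index_mul_card.trans (C t).index_mul_card.symm
      rw [show (C y).index = m from e, show (C t).index = m from h.ind_two hG ht hN] at h5
      rwa [← Nat.eq_of_mul_eq_mul_left (Nat.zero_lt_of_lt h.lt) h5]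
  obtain ⟨a, ha, a1⟩ := (A.bot_or_exists_ne_one).resolve_left h.ne
  have h3 := kazarin (x := a) Nat.prime_two (k := _) ((congrArg index (h.cc a ha a1)).trans
    (Nat.eq_prime_pow_of_unique_prime_dvd index_ne_zero_of_finite fun {r} hr hd => h2 r hr hd))
  exact a1 (mem_bot.1 (h.inf_solRad hG ▸ mem_inf.2 ⟨ha, h3⟩))

theorem card_cent {x y : G} (hx : H4.ind x = m) (hy : H4.ind y = m) :
    Nat.card (C x) = Nat.card (C y) := by
  have h5 := (C x).index_mul_card.trans (C y).index_mul_card.symm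
  rw [show (C x).index = m from hx, show (C y).index = m from hy] at h5
  exact Nat.eq_of_mul_eq_mul_left (Nat.zero_lt_of_lt h.lt) h5

theorem pCore_eq_bot (hG : ¬ Group.IsSolvable G) : pCore 2 G = ⊥ := by
  by_contra hV
  let N := solvableRadical G
  have hN : Group.IsNilpotent N := cc_nilpotent h.cc h.ne _ (h.inf_solRad hG)
  have hq : ¬ Odd N.index := fun e =>
    have := ft (G := G ⧸ N) e
    hG (H2.isSolvable_of_normal_of_quotient N)
  obtain ⟨t', -, ht'⟩ := exists_orderOf_mem Nat.prime_two (K := (⊤ : Subgroup (G ⧸ N)))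
    (by rw [card_top]; exact (Nat.not_odd_iff_even.1 hq).two_dvd)
  obtain ⟨t, rfl, k, ht⟩ := H18.exists_lift_primePow (QuotientGroup.mk' N)
    (QuotientGroup.mk'_surjective _) Nat.prime_two ⟨1, ht'⟩
  have htN : t ∉ N := fun e =>
    ne_one_of_prime Nat.prime_two ht' ((QuotientGroup.eq_one_iff t).2 e)
  have t1 : t ≠ 1 := fun e => htN (e ▸ one_mem _)
  have hi := h.ind_two hG ht htN
  have ho := h.oddCen t1 ht hi
  have := H2.pCore_isNilpotent 2 G
  have hVN : pCore 2 G ≤ N := le_solRad _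
  have h1 : oddC t ≤ N := (H1.thompson_pq (isPGroup_zpowers_of_orderOf ht)
    (Nat.coprime_two_right.2 (odd_card_oddC ho))
    (zpowers_le.2 (cent_le_centralizer_oddC ho (self_mem_cent t))) _ _ rfl (H2.pCore_isPGroup 2 G)
    le_normalizer_of_normal le_normalizer_of_normal fun v hv => cent_le_centralizer_oddC ho
      (mem_cent_iff.2 (hv.2 t (mem_zpowers t)).symm)).trans (h.cent_le hG _ hV hVN)
  let U := (pResidual 2 N).map N.subtype
  have := H7.pResidual_characteristic (p := 2) (G := N)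
  have hU : Odd (Nat.card U) := by
    rw [card_map_of_injective N.subtype_injective]
    exact Nat.odd_iff.2 (Nat.two_dvd_ne_zero.1 (H7.hasNPC_iff_not_dvd.1 (hasNPC_of_isNilpotent 2)))
  have h2 : oddC t ≤ U := fun b hb => ⟨⟨b, h1 hb⟩, H7.mem_pResidual_of_coprime (by
    rw [orderOf_mk]; exact Nat.coprime_two_right.2 ((mem_oddC ho).1 hb).2), rfl⟩
  have hU1 : U ≠ ⊥ := fun e => h.oddC_ne_bot hG ht htN (le_bot_iff.1 (e ▸ h2))
  have hV0 := H2.inf_centralizer_ne_bot_of_isNilpotent (pCore 2 G) N hV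
  obtain ⟨b, ⟨hbU, hbN⟩, b1⟩ := (bot_or_exists_ne_one _).resolve_left
    (H2.inf_centralizer_ne_bot_of_isNilpotent U N hU1)
  have hb : Odd (orderOf b) := hU.of_dvd_nat (orderOf_dvd_natCard _ hbU)
  have h3 : ∀ v ∈ pCore 2 G ⊓ centralizer (N : Set G), v ≠ 1 →
      C b ≤ C v ∧ H4.ind b ∣ Nat.card A := fun v hv v1 => by
    obtain ⟨j, hj⟩ := IsPGroup.iff_orderOf.1 (H2.pCore_isPGroup 2 G) ⟨v, hv.1⟩
    rw [orderOf_mk] at hj
    have hbv : b ∈ C v := mem_cent_iff.2 (hv.2 b (map_subtype_le _ hbU))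
    have hc : (orderOf v).Coprime (orderOf b) := hj ▸ (Nat.coprime_two_left.2 hb).pow_left j
    have h4 : v * b ≠ 1 := fun e => v1 (orderOf_eq_one_iff.1 (by
      rwa [← inv_eq_of_mul_eq_one_right e, orderOf_inv, Nat.coprime_self] at hc))
    have h5 := cent_mul hbv hc
    rcases h.ind _ h4 (cc_coprime_of_commute h.cc v1 (h.cop hj)
      (mul_mem (self_mem_cent v) hbv)) with e | e
    · have h6 : H4.ind b ∣ Nat.card A := e ▸ ind_dvd_of_le (h5.trans_le inf_le_right)
      have h7 := (h.ind b b1 (cc_coprime_of_commute h.cc v1 (h.cop hj) hbv)).resolve_right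
        fun e' => (Nat.le_of_dvd Nat.card_pos (e' ▸ h6)).not_gt h.lt
      exact ⟨(eq_of_le_of_index_le (h5.trans_le inf_le_right) (e.trans h7.symm).le).ge.trans
        (h5.trans_le inf_le_left), h6⟩
    · exfalso
      have h6 : U ≤ C (v * b) := fun x hx => mem_cent_comm (mul_mem
        (mem_cent_iff.2 (hv.2 x (map_subtype_le _ hx)).symm)
        (mem_cent_iff.2 (hbN x (map_subtype_le _ hx)).symm))
      have h7 := dvd_card_oddC t hU (h.card_cent e hi ▸ card_dvd_of_le h6)
      have h8 := eq_of_le_of_card_ge h2 (Nat.le_of_dvd Nat.card_pos h7)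
      exact htN (h.cent_le hG U hU1 (map_subtype_le _)
        (h8 ▸ cent_le_centralizer_oddC ho (self_mem_cent t)))
  have h4 : C b ≤ N := le_trans (b := centralizer _) (fun g hg v hv => by
    by_cases v1 : v = 1
    · simp [v1]
    · exact (mem_cent_iff.1 ((h3 v hv v1).1 hg)).symm)
    (h.cent_le hG _ hV0 (inf_le_left.trans hVN))
  obtain ⟨v, hv, v1⟩ := (bot_or_exists_ne_one _).resolve_left hV0
  exact hq (h.odd.of_dvd_nat ((index_dvd_of_le h4).trans (h3 v hv v1).2))

theorem solvable : Group.IsSolvable G := by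
  by_contra hG
  let N := solvableRadical G
  have hN : Group.IsNilpotent N := cc_nilpotent h.cc h.ne _ (h.inf_solRad hG)
  have hNo : ∀ t : G, orderOf t = 2 → t ∉ N := fun t ht htN => by
    obtain ⟨P, hP⟩ := (isPGroup_zpowers_of_orderOf (x := (⟨t, htN⟩ : N)) (p := 2) (k := 1)
      (by rw [orderOf_mk]; exact ht)).exists_le_sylow
    have := P.characteristic_of_normal inferInstance
    have h1 := H2.le_pCore (P.isPGroup'.map N.subtype) ⟨_, hP (mem_zpowers _), rfl⟩
    rw [h.pCore_eq_bot hG] at h1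
    exact ne_one_of_prime Nat.prime_two ht h1
  have hi : ∀ t : G, orderOf t = 2 → H4.ind t = m := fun t ht => h.ind_two (k := 1) hG ht (hNo t ht)
  have ho : ∀ t : G, orderOf t = 2 → OddCen t := fun t ht =>
    h.oddCen (k := 1) (ne_one_of_prime Nat.prime_two ht) ht (hi t ht)
  obtain ⟨z, hz, hz2⟩ := exists_pcentral' (G := G) Nat.prime_two
    (Nat.not_odd_iff_even.1 fun e => hG (ft e)).two_dvd
  have hB := h.oddC_ne_bot (k := 1) hG hz (hNo z hz)
  have hzB := cent_le_centralizer_oddC (ho z hz)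
  have h1 : ∀ t ∈ normalizer (oddC z : Set G), orderOf t = 2 → oddC z = oddC t := fun t ht t2 => by
    have h2 : t ∈ centralizer (oddC z : Set G) := mem_of_mem_normalizer_of_coprime le_top (mem_top t)
      (H13.normalizer_le_normalizer_centralizer _ ht) (by
        rw [t2, relIndex_top_right]
        exact (Nat.Prime.coprime_iff_not_dvd Nat.prime_two).2
          fun e => hz2 (e.trans (index_dvd_of_le hzB)))
    exact eq_of_le_of_card_ge (fun b hb => (mem_oddC (ho t t2)).2
      ⟨mem_cent_iff.2 (h2 b hb), ((mem_oddC (ho z hz)).1 hb).2⟩) (Nat.le_of_dvd Nat.card_pos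
        (dvd_card_oddC z (odd_card_oddC (ho t t2))
          (h.card_cent (hi t t2) (hi z hz) ▸ card_dvd_of_le (map_subtype_le _))))
  have hO : oddCore G ≤ N := by
    have := ft (H2.odd_card_oddCore G)
    exact le_solRad _
  have hBN : oddC z ≤ N := by
    by_cases e : normalizer (oddC z : Set G) = ⊤
    · have := normalizer_eq_top_iff.1 e
      exact (H2.le_oddCore (odd_card_oddC (ho z hz))).trans hO
    refine (H99.se_le_oddCore H82.hub ((H88.isStronglyEmbedded_iff _).2 ⟨e,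
      ⟨z, centralizer_le_normalizer _ (hzB (self_mem_cent z)), hz⟩, fun t ht t2 g hg => ?_⟩)
      le_normalizer (odd_card_oddC (ho z hz))
      fun g hg x hx => (mem_normalizer_iff.1 hg x).1 hx).trans hO
    have t3 := (H24.orderOf_conj' g t).trans t2
    refine mem_normalizer_iff.2 fun b => ?_
    conv_lhs => rw [h1 t ht t2]
    rw [h1 _ hg t3, mem_oddC (ho t t2), mem_oddC (ho _ t3), H24.orderOf_conj', mem_cent_iff,
      mem_cent_iff]
    simp only [conj_mul, mul_left_inj, mul_right_inj]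
  have hN1 : N ≠ ⊥ := fun e => hB (le_bot_iff.1 (e ▸ hBN))
  have hNodd := (H88.odd_card_iff_no_involution N).2 fun t ht t2 => hNo t t2 ht
  by_cases iso : ∀ g : G, Commute z (g * z * g⁻¹) → g * z * g⁻¹ = z
  · refine hNo z hz ((QuotientGroup.eq_one_iff z).1
      (eq_one_of_central (solRad_quotient_solRad G) (mem_center_iff.2 fun g => ?_)))
    obtain ⟨g, rfl⟩ := QuotientGroup.mk_surjective g
    have h2 := (QuotientGroup.eq_one_iff _).2 (hO (H34.zstar ⟨hz, iso⟩ g))
    simp only [QuotientGroup.mk_mul, QuotientGroup.mk_inv] at h2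
    rw [mul_inv_eq_one, mul_inv_eq_iff_eq_mul] at h2
    exact h2.symm
  push Not at iso
  obtain ⟨g, hc, hne⟩ := iso
  have t2 := (H24.orderOf_conj' g z).trans hz
  have key : ∀ t ∈ C z, orderOf t = 2 → N ⊓ C t ≤ oddC z := fun t ht t2 b hb => by
    rw [h1 t (centralizer_le_normalizer _ (hzB ht)) t2]
    exact (mem_oddC (ho t t2)).2 ⟨hb.2, hNodd.of_dvd_nat (orderOf_dvd_natCard _ hb.1)⟩
  have sq : ∀ t : G, orderOf t = 2 → t * t = 1 := fun t e => by rw [← sq, ← e, pow_orderOf_eq_one]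
  have h3 : N ≤ oddC z := H14.le_of_four hz t2 hc.eq hne.symm (Nat.coprime_two_right.2 hNodd)
    (le_normalizer_of_normal (mem_top _)) (le_normalizer_of_normal (mem_top _))
    (key z (self_mem_cent z) hz) (key _ (mem_cent_iff.2 hc.eq.symm) t2)
    (key _ (mul_mem (self_mem_cent z) (mem_cent_iff.2 hc.eq.symm)) (orderOf_eq_prime
      (by rw [hc.mul_pow, pow_two, pow_two, sq z hz, sq _ t2, one_mul]) fun e =>
        hne (by rw [← inv_eq_of_mul_eq_one_right e, inv_eq_of_mul_eq_one_right (sq z hz)])))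
  exact hNo z hz (h.cent_le hG N hN1 le_rfl (centralizer_le h3 (hzB (self_mem_cent z))))

end Main

end H5.CS
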