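/- Centreless groups with at most three non-trivial class sizes. -/
import Cfsg.Agent.H5.CS2
import Cfsg.Agent.S2202
import Cfsg.Agent.H24.Socle
import Cfsg.Agent.H31.ZTFacts
import Cfsg.Agent.H61.PSLMin

set_option autoImplicit false

namespace H5.CS
open Cfsg Subgroup H4 H66

universe u
variable {G : Type u} [Group G] [Finite G]

local notation "C " x:max => Subgroup.centralizer ({x} : Set _)

theorem ind_coe_mul' {H : Subgroup G} {y : G} (hy : C y = H) (x : H)
    (hc : (orderOf y).Coprime (orderOf (x : G))) : ind x * H.index = ind (y * x) := by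
  subst hy
  exact ind_coe_mul x.2 hc

theorem card_eq_of_ind {x y : G} (h : ind x = ind y) : Nat.card (C x) = Nat.card (C y) := by
  have h5 := (C x).index_mul_card.trans (C y).index_mul_card.symm
  rw [show (C x).index = (C y).index from h] at h5
  exact Nat.eq_of_mul_eq_mul_left (ind_pos y) h5

theorem orderOf_dvd_cent {x y : G} (h : x ∈ C y) : orderOf x ∣ Nat.card (C y) :=
  orderOf_dvd_natCard _ h

theorem mul_ne_one {x y : G} (h1 : x ≠ 1) (hc : (orderOf x).Coprime (orderOf y)) : x * y ≠ 1 :=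
  fun e => h1 (orderOf_eq_one_iff.1 (by
    rwa [← inv_eq_of_mul_eq_one_right e, orderOf_inv, Nat.coprime_self] at hc))

theorem coprime_primes {a b : G} {p q : ℕ} (hp : p.Prime) (hq : q.Prime) (hpq : p ≠ q)
    (ha : orderOf a = p) (hb : orderOf b = q) : (orderOf a).Coprime (orderOf b) :=
  ha ▸ hb ▸ (Nat.coprime_primes hp hq).2 hpq

/-- If no centraliser properly contains another one, centralisers of involutions are abelian. -/
theorem comm_of_F (h : ∀ a b : G, b ≠ 1 → C a ≤ C b → C a = C b) {t : G} (ht : orderOf t = 2) :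
    IsMulCommutative (C t) := by
  have t2 : t * t = 1 := by rw [← sq, ← ht, pow_orderOf_eq_one]
  have h1 : ∀ u ∈ C t, u * u ≠ 1 → C t ≤ C u := fun u hu h2 => by
    have h3 : u * t * (u * t) = u * u := by
      rw [mul_assoc, ← mul_assoc t, ← mem_cent_iff.1 hu, mul_assoc u t, t2, mul_one]
    have h4 := h u _ h2 (sq u ▸ cent_le_cent_pow u 2)
    have h5 := h (u * t) _ h2 (h3 ▸ sq (u * t) ▸ cent_le_cent_pow (u * t) 2)
    refine (h u t (ne_one_of_prime Nat.prime_two ht) fun g hg => mem_cent_comm ?_).ge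
    have := mul_mem (inv_mem (mem_cent_comm hg)) (mem_cent_comm ((h4.trans h5.symm).le hg))
    rwa [inv_mul_cancel_left] at this
  refine ⟨⟨fun a b => Subtype.ext ?_⟩⟩
  by_contra hab
  have h2 : ∀ u ∈ C t, ¬ C t ≤ C u → u⁻¹ = u := fun u hu h2 =>
    inv_eq_of_mul_eq_one_right (by_contra fun e => h2 (h1 u hu e))
  have ha := h2 a a.2 fun e => hab (mem_cent_iff.1 (e b.2)).symm
  have hb := h2 b b.2 fun e => hab (mem_cent_iff.1 (e a.2))
  have hc := h2 (a * b) (mul_mem a.2 b.2) fun e => hab (by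
    have := mem_cent_iff.1 (e a.2)
    rw [mul_assoc] at this
    exact (mul_left_cancel this))
  rw [mul_inv_rev, ha, hb] at hc
  exact hab hc.symm

/-- The set-up when one centraliser properly contains another one. -/
structure NF (x y z : G) : Prop where
  all : ∀ g : G, g ≠ 1 → ind g = ind x ∨ ind g = ind y ∨ ind g = ind z
  lt : C x < C y
  cop : (ind y).Coprime (ind z)
  cen : center G = ⊥
  y1 : y ≠ 1
  z1 : z ≠ 1

namespace NF
variable {x y z : G} (h : NF x y z)
include h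

theorem ind_ne_one {g : G} (g1 : g ≠ 1) : ind g ≠ 1 := fun e =>
  g1 (mem_bot.1 (h.cen ▸ ind_eq_one_iff.1 e))

theorem dvd : ind y ∣ ind x := ind_dvd_of_le h.lt.le

theorem ind_lt : ind y < ind x :=
  lt_of_not_ge fun e => h.lt.ne (eq_of_le_of_index_le h.lt.le e)

theorem not_dvd_z : ¬ ind y ∣ ind z := fun e => h.ind_ne_one h.y1 (h.cop.eq_one_of_dvd e)

theorem z_ne : ind z ≠ ind x := fun e => h.not_dvd_z (e ▸ h.dvd)

theorem eq_of_min {a c : G} (ha : ind a = ind x) (hc : C c ≤ C a) : C c = C a := by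
  have h1 : ind x ∣ ind c := ha ▸ ind_dvd_of_le hc
  have c1 : c ≠ 1 := fun e => by
    rw [e, ind_eq_one_iff.2 (one_mem _), Nat.dvd_one] at h1
    have := h.ind_lt
    have := ind_pos y
    omega
  refine eq_of_le_of_index_le hc ?_
  rcases h.all c c1 with e | e | e
  · exact (e.trans ha.symm).le
  · exact absurd (Nat.le_of_dvd (ind_pos c) h1) (e ▸ h.ind_lt).not_ge
  · exact absurd (h.dvd.trans (e ▸ h1)) h.not_dvd_z

theorem eq_of_max {a c : G} (a1 : a ≠ 1) (ha : ind a ≠ ind x) (c1 : c ≠ 1) (hc : C a ≤ C c) :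
    C a = C c := by
  have h1 : ind c ∣ ind a := ind_dvd_of_le hc
  by_cases e : ind c = ind x
  · exact h.eq_of_min e hc
  refine eq_of_le_of_index_le hc ?_
  rcases (h.all a a1).resolve_left ha with e1 | e1 <;> rcases (h.all c c1).resolve_left e with e2 | e2
  · exact (e1.trans e2.symm).le
  · exact absurd (h.cop.symm.eq_one_of_dvd (e1 ▸ e2 ▸ h1)) (h.ind_ne_one h.z1)
  · exact absurd (e1 ▸ e2 ▸ h1) h.not_dvd_z
  · exact (e1.trans e2.symm).le

theorem exists_prime {a : G} (a1 : a ≠ 1) (ha : ind a ≠ ind x) :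
    ∃ b : G, (orderOf b).Prime ∧ C b = C a := by
  obtain ⟨e, he⟩ := exists_prime_pow a1
  exact ⟨_, he, (h.eq_of_max a1 ha (ne_one_of_prime he rfl) (cent_le_cent_pow a e)).symm⟩

/-- `C (a b)` is `C a` or minimal. -/
theorem le_or {a b : G} (a1 : a ≠ 1) (hb : b ∈ C a) (hc : (orderOf a).Coprime (orderOf b)) :
    C a ≤ C b ∨ ind (a * b) = ind x := by
  refine or_iff_not_imp_right.2 fun e => ?_
  exact inf_eq_left.1 ((cent_mul hb hc).symm.trans
    (h.eq_of_max (mul_ne_one a1 hc) e a1 ((cent_mul hb hc).trans_le inf_le_left)))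

theorem ind_coe {a : G} (a1 : a ≠ 1) {H : Subgroup G} (hH : C a = H) (b : H)
    (hc : (orderOf a).Coprime (orderOf (b : G))) : ind b = 1 ∨ ind b = ind x / H.index := by
  rcases h.le_or a1 (hH.ge b.2) hc with e | e
  · exact Or.inl (ind_eq_one_iff.2 (mem_center_iff.2 fun g =>
      Subtype.ext (mem_cent_iff.1 (e (hH.ge g.2)))))
  · exact Or.inr (by rw [← e, ← ind_coe_mul' hH b hc,
      Nat.mul_div_cancel _ (Nat.pos_of_ne_zero index_ne_zero_of_finite)])

/-- A prime dividing `|C a|` divides the order of every minimal centraliser inside `C a`. -/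
theorem dvd_min {a c : G} (a1 : a ≠ 1) (ha : ind a ≠ ind x) (hc : C c ≤ C a)
    (hi : ind c = ind x) {p : ℕ} (hp : p.Prime) (hd : p ∣ Nat.card (C a)) : p ∣ Nat.card (C c) := by
  obtain ⟨b, hb, e⟩ := h.exists_prime a1 ha
  rw [← e] at hc hd
  by_cases e1 : orderOf b = p
  · exact e1 ▸ orderOf_dvd_cent (mem_cent_comm (hc (self_mem_cent c)))
  obtain ⟨w, hw, hwp⟩ := exists_orderOf_mem hp hd
  rcases h.le_or (ne_one_of_prime hb rfl) hw (coprime_primes hb hp e1 rfl hwp) with e | e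
  · exact hwp ▸ orderOf_dvd_cent (mem_cent_comm (e (hc (self_mem_cent c))))
  · rw [← card_eq_of_ind (e.trans hi.symm), cent_mul hw (coprime_primes hb hp e1 rfl hwp), ← hwp]
    exact orderOf_dvd_natCard _ (mem_inf.2 ⟨hw, self_mem_cent w⟩)

/-- A prime `r` dividing `ind x / ind a` and `|C a|`, prime to the order of `a`, divides the order
of the centre of `C a`. -/
theorem exists_central {a : G} (a1 : a ≠ 1) {r : ℕ} (hr : r.Prime) (h1 : ¬ r ∣ orderOf a)
    (h2 : r ∣ ind x / ind a) (h3 : r ∣ Nat.card (C a)) :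
    ∃ u : C a, orderOf u = r ∧ u ∈ center (C a) := by
  obtain ⟨u, hu, h4⟩ := exists_pcentral' (G := C a) hr h3
  refine ⟨u, hu, ind_eq_one_iff.1 ((h.ind_coe a1 rfl u ?_).resolve_right fun e => h4 (e ▸ h2))⟩
  rw [orderOf_coe, hu]
  exact ((Nat.Prime.coprime_iff_not_dvd hr).2 h1).symm

theorem prime_pow (hG : ¬ Group.IsSolvable G) {a c : G} (a1 : a ≠ 1) (ha : ind a ≠ ind x)
    (hc : C c ≤ C a) (hi : ind c = ind x)
    (hd : ∀ p : ℕ, p.Prime → p ∣ Nat.card G → p ∣ Nat.card (C a)) :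
    ∃ r k : ℕ, r.Prime ∧ ind x = ind a * r ^ k := by
  obtain ⟨b, hb, e⟩ := h.exists_prime a1 ha
  have e' : ind a = ind b := congrArg index e.symm
  rw [← e] at hc hd
  rw [e'] at ha ⊢
  have b1 := ne_one_of_prime hb rfl
  have h1 : ind b ∣ ind x := hi ▸ ind_dvd_of_le hc
  suffices ∃ r k : ℕ, r.Prime ∧ ind x / ind b = r ^ k by
    obtain ⟨r, k, hr, e⟩ := this
    exact ⟨r, k, hr, by rw [← e, Nat.mul_div_cancel' h1]⟩
  have k0 : ind x / ind b ≠ 0 := (Nat.div_pos (Nat.le_of_dvd (ind_pos x) h1) (ind_pos b)).ne'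
  by_cases h2 : ∀ r : ℕ, r.Prime → r ∣ ind x / ind b → r = orderOf b
  · exact ⟨_, _, hb, Nat.eq_prime_pow_of_unique_prime_dvd k0 fun {r} hr hd => h2 r hr hd⟩
  push Not at h2
  obtain ⟨r, hr, h2, h3⟩ := h2
  obtain ⟨u, hu, huZ⟩ := h.exists_central b1 hr
    (fun e => h3 ((Nat.prime_dvd_prime_iff_eq hr hb).1 e)) h2
    (hd r hr ((h2.trans (Nat.div_dvd_of_dvd h1)).trans (index_dvd_card _)))
  have h4 := two_sizes_of_mixed (G := C b) (k := ind x / ind b) hb hr (Ne.symm h3)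
    ((orderOf_mk b (self_mem_cent b)).symm ▸ orderOf_dvd_natCard _
      (mem_center_iff.2 fun g => Subtype.ext (mem_cent_iff.1 g.2)))
    (hu ▸ orderOf_dvd_natCard _ huZ) (fun s t hs ht => by
      by_contra e
      push Not at e
      exact hG (H29.isSolvable_of_prime_dvd_card hs ht fun w hw h5 =>
        or_iff_not_imp_left.2 (e w hw (hd w hw h5))))
    fun t ht htZ g hg => by
      obtain ⟨v, hv, hvt⟩ := exists_orderOf_mem ht htZ
      rw [← orderOf_coe] at hvt
      have v1 := ne_one_of_prime ht hvt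
      refine h.ind_coe v1 (h.eq_of_max b1 ha v1 fun g hg => mem_cent_iff.2
        (congrArg Subtype.val (mem_center_iff.1 hv ⟨g, hg⟩))).symm g ?_
      rw [hvt, orderOf_coe]
      exact (Nat.Prime.coprime_iff_not_dvd ht).2 hg
  have h5 : ind (⟨c, hc (self_mem_cent c)⟩ : C b) ≠ 1 := fun e => ha (by
    rw [← hi]
    exact congrArg index (le_antisymm (fun g hg => mem_cent_iff.2 (congrArg Subtype.val
      (mem_center_iff.1 (ind_eq_one_iff.1 e) ⟨g, hg⟩))) hc))
  have h6 := (h4 _).resolve_left h5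
  obtain ⟨p, hp, k, e, -⟩ := Cfsg.Agent.S4134.result _ (by omega) h4 ⟨_, h6⟩
  exact ⟨p, k, hp.out, e⟩

/-- No minimal centraliser lies in `C z`. -/
theorem no_min (hG : ¬ Group.IsSolvable G) {c : G} (hc : C c ≤ C z) : C c = C z := by
  have c1 : c ≠ 1 := fun e => h.ind_ne_one h.z1 (by
    rw [ind, index_eq_one, eq_top_iff]
    exact fun g _ => hc (by rw [e]; exact mem_cent_iff.2 (by simp)))
  by_contra hne
  have hi : ind c = ind x := by_contra fun e => hne (h.eq_of_max c1 e h.z1 hc)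
  have h1 : ∀ p : ℕ, p.Prime → p ∣ Nat.card G → p ∣ Nat.card (C x) := fun p hp hd => by
    obtain ⟨u, hu, -⟩ := exists_pcentral' hp hd
    have h2 := hu ▸ orderOf_dvd_cent (self_mem_cent u)
    rcases h.all u (ne_one_of_prime hp hu) with e | e | e <;> rw [card_eq_of_ind e] at h2
    · exact h2
    · exact h.dvd_min h.y1 h.ind_lt.ne h.lt.le rfl hp h2
    · exact card_eq_of_ind hi ▸ h.dvd_min h.z1 h.z_ne hc hi hp h2
  obtain ⟨r, k, hr, e1⟩ := h.prime_pow hG h.y1 h.ind_lt.ne h.lt.le rfl fun p hp hd =>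
    (h1 p hp hd).trans (card_dvd_of_le h.lt.le)
  obtain ⟨q, l, hq, e2⟩ := h.prime_pow hG h.z1 h.z_ne hc hi fun p hp hd =>
    (card_eq_of_ind hi ▸ h1 p hp hd).trans (card_dvd_of_le hc)
  have h2 : ind y ∣ q ^ l := h.cop.dvd_of_dvd_mul_left (e2 ▸ h.dvd)
  refine hG (H29.isSolvable_of_prime_dvd_card hq hr fun w hw hd => ?_)
  by_contra h3
  have h4 : ¬ w ∣ ind x := fun e => h3 (((Nat.Prime.dvd_mul hw).1 (e1 ▸ e)).imp
    (fun e => (Nat.prime_dvd_prime_iff_eq hw hq).1 (hw.dvd_of_dvd_pow (e.trans h2)))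
    fun e => (Nat.prime_dvd_prime_iff_eq hw hr).1 (hw.dvd_of_dvd_pow e))
  obtain ⟨u, hu, -⟩ := exists_pcentral' hw hd
  have h5 := le_cent_of_not_dvd_ind ⊤ hw (fun g _ e => by
    by_cases g1 : g = 1
    · rw [g1, ind_eq_one_iff.2 (one_mem _)] at e
      exact hw.one_lt.ne' (Nat.dvd_one.1 e)
    rcases h.all g g1 with e' | e' | e' <;> rw [e'] at e
    · exact h4 e
    · exact h4 (e.trans h.dvd)
    · exact h4 (e.trans ⟨_, e2⟩)) (mem_top u) (hu.trans (pow_one w).symm)
  exact h.ind_ne_one (ne_one_of_prime hw hu) (index_eq_one.2 (top_le_iff.1 h5))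

theorem isCC_of_comm (hc : ∀ a ∈ C z, C z ≤ C a) : IsCC (C z) := fun a ha a1 =>
  (h.eq_of_max h.z1 h.z_ne a1 (hc a ha)).symm

theorem isCC_or (hG : ¬ Group.IsSolvable G) :
    IsCC (C z) ∨ ∃ p : ℕ, p.Prime ∧ IsPGroup p (C z) := by
  obtain ⟨b, hb, e⟩ := h.exists_prime h.z1 h.z_ne
  refine or_iff_not_imp_right.2 fun hp => h.isCC_of_comm fun a ha g hg => mem_cent_comm ?_
  have key : ∀ u v : G, C u = C z → v ∈ C z → (orderOf u).Coprime (orderOf v) → C z ≤ C v :=
    fun u v hu hv hc => inf_eq_left.1 (by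
      have h1 := cent_mul (hu.ge hv) hc
      rw [hu] at h1
      exact h1.symm.trans (h.no_min hG (h1.trans_le inf_le_left)))
  obtain ⟨r, hr, hd, hne⟩ : ∃ r : ℕ, r.Prime ∧ r ∣ Nat.card (C z) ∧ r ≠ orderOf b := by
    by_contra e
    push Not at e
    exact hp ⟨_, hb, IsPGroup.of_card (Nat.eq_prime_pow_of_unique_prime_dvd Nat.card_pos.ne'
      fun {r} hr hd => e r hr hd)⟩
  obtain ⟨w, hw, hwr⟩ := exists_orderOf_mem hr hd
  have h1 := h.eq_of_max h.z1 h.z_ne (ne_one_of_prime hr hwr)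
    (key b w e hw (coprime_primes hb hr hne.symm rfl hwr))
  refine mem_of_forall_primePow_mem a fun i s k hs _ hk => mem_cent_comm ?_
  by_cases e' : s = r
  · exact key b _ e (pow_mem ha i)
      (coprime_orderOf_of_pow hb hs (e' ▸ hne.symm) (pow_one _).symm hk) hg
  · exact key w _ h1.symm (pow_mem ha i)
      (coprime_orderOf_of_pow hr hs (Ne.symm e') (hwr.trans (pow_one _).symm) hk) hg

end NF

end H5.CS
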