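/- Groups `X` acting on a finite abelian group `A`, trivially on a subgroup `Z`, with few fixed
points outside `Z`. -/
import Cfsg.Agent.H4.SemiFpf
import Cfsg.Agent.H5.CCChar
import Cfsg.Agent.H5.CS1

set_option autoImplicit false

namespace H5.CS
open Cfsg Subgroup

/-- `a` is a `p`-element. -/
def PE {G : Type*} [Group G] (p : ℕ) (a : G) : Prop := ∃ j : ℕ, a ^ p ^ j = 1

section PE
variable {G : Type*} [Group G] {p q : ℕ} {a b : G}

theorem PE.map {H F : Type*} [Group H] [FunLike F G H] [MonoidHomClass F G H] (h : PE p a) (f : F) :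
    PE p (f a) := h.imp fun j hj => by rw [← map_pow, hj, map_one]

theorem PE.inv (h : PE p a) : PE p a⁻¹ := h.imp fun j hj => by rw [inv_pow, hj, inv_one]

theorem PE.pow (h : PE p a) (n : ℕ) : PE p (a ^ n) :=
  h.imp fun j hj => by rw [← pow_mul, mul_comm, pow_mul, hj, one_pow]

theorem PE.mul (h : PE p a) (h' : PE p b) (hc : Commute a b) : PE p (a * b) := by
  obtain ⟨i, hi⟩ := h
  obtain ⟨j, hj⟩ := h'
  exact ⟨i + j, by rw [hc.mul_pow, pow_add, pow_mul, hi, mul_comm (p ^ i), pow_mul, hj]; simp⟩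

theorem PE.conj (h : PE p a) (g : G) : PE p (g * a * g⁻¹) := h.map (MulAut.conj g)

theorem PE.of_orderOf {k : ℕ} (h : orderOf a = p ^ k) : PE p a := ⟨k, h ▸ pow_orderOf_eq_one a⟩

theorem PE.of_prime (h : orderOf a = p) : PE p a := .of_orderOf (h.trans (pow_one p).symm)

theorem PE.exists_orderOf (hp : p.Prime) (h : PE p a) : ∃ k, orderOf a = p ^ k :=
  (H18.exists_orderOf_eq_pow_iff hp).2 h

theorem PE.coprime (h : PE p a) {n : ℕ} (hp : p.Prime) (hn : ¬ p ∣ n) : (orderOf a).Coprime n := by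
  obtain ⟨k, hk⟩ := h.exists_orderOf hp
  exact hk ▸ ((Nat.Prime.coprime_iff_not_dvd hp).2 hn).pow_left k

theorem PE.not_dvd (h : PE q a) (hp : p.Prime) (hq : q.Prime) (hpq : p ≠ q) : ¬ p ∣ orderOf a := by
  obtain ⟨k, hk⟩ := h.exists_orderOf hq
  exact not_dvd_of_pow hp hq hpq hk

theorem PE.coprime' (h : PE p a) (h' : PE q b) (hp : p.Prime) (hq : q.Prime) (hpq : p ≠ q) :
    (orderOf a).Coprime (orderOf b) := h.coprime hp (h'.not_dvd hp hq hpq)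

theorem PE.dvd (h : PE p a) (hp : p.Prime) (h1 : a ≠ 1) : p ∣ orderOf a := by
  obtain ⟨k, hk⟩ := h.exists_orderOf hp
  exact hk ▸ dvd_pow_self p fun e => h1 (orderOf_eq_one_iff.1 (by rw [hk, e, pow_zero]))

theorem PE.eq_one (h : PE p a) (hp : p.Prime) {n : ℕ} (hn : ¬ p ∣ n) (h1 : a ^ n = 1) : a = 1 :=
  by_contra fun e => hn ((h.dvd hp e).trans (orderOf_dvd_of_pow_eq_one h1))

theorem PE.isPGroup (h : PE p a) : IsPGroup p (zpowers a) := h.elim fun _ => H98.isPGroup_zpowers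

theorem PE.of_mem {K : Subgroup G} (h : IsPGroup p K) (ha : a ∈ K) : PE p a :=
  H98.isPGroup_iff_forall.1 h a ha

theorem pe_coe {K : Subgroup G} {a : K} : PE p (a : G) ↔ PE p a :=
  exists_congr fun _ => by rw [← coe_pow, OneMemClass.coe_eq_one]

theorem exists_pe_of_dvd [Finite G] (hp : p.Prime) (h : p ∣ orderOf a) :
    ∃ b : G, b ≠ 1 ∧ PE p b := by
  obtain ⟨b, -, hb⟩ := exists_orderOf_mem hp (K := zpowers a) (by rwa [Nat.card_zpowers])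
  exact ⟨b, ne_one_of_prime hp hb, .of_prime hb⟩

end PE

variable {X A : Type*} [Group X] [Finite X] [CommGroup A] [Finite A] (φ : X →* MulAut A)
  (Z : Subgroup A)

/-- `σ` fixes a `p`-element outside `Z`. -/
def Fix (σ : X) (p : ℕ) : Prop := ∃ a, PE p a ∧ a ∉ Z ∧ φ σ a = a

variable {φ Z} (hZ : ∀ σ, ∀ z ∈ Z, φ σ z = z)
include hZ

theorem fix_of_normal (V : Subgroup X) [hn : V.Normal] {p : ℕ} (hp : p.Prime)
    (hV : ¬ p ∣ Nat.card V) (hv : ∃ v ∈ V, ∃ a, PE p a ∧ φ v a ≠ a) {σ : X} (hσ : PE p σ) :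
    Fix φ Z σ p := by
  have := Fact.mk hp
  have := Fintype.ofFinite V
  let N : A →* A := ∏ y : V, (φ y).toMonoidHom
  have hN : ∀ a, N a = ∏ y : V, φ y a := fun a => MonoidHom.finset_prod_apply _ _ _
  have hNσ : ∀ (σ : X) (a : A), N (φ σ a) = φ σ (N a) := fun σ a => by
    rw [hN, hN, map_prod]
    refine (Fintype.prod_equiv (MulAut.conjNormal σ : MulAut V).toEquiv _ _ fun y => ?_).symm
    change φ σ (φ y a) = φ (σ * y * σ⁻¹) (φ σ a)
    simp only [← MulAut.mul_apply, ← map_mul, inv_mul_cancel_right]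
  let B : Subgroup A := CommGroup.primaryComponent A p ⊓ N.ker
  have hB : IsPGroup p B := fun b => b.2.1.imp fun _ hk => Subtype.ext hk
  obtain ⟨v, hvV, a, ha, hva⟩ := hv
  have h1 : φ v a * a⁻¹ ∈ B := by
    refine ⟨(ha.map (φ v)).mul ha.inv (Commute.all _ _), ?_⟩
    change N _ = 1
    rw [map_mul, map_inv, mul_inv_eq_one, hN, hN]
    refine Fintype.prod_equiv (Equiv.mulRight (⟨v, hvV⟩ : V)) _ _ fun w => ?_
    simp only [← MulAut.mul_apply, ← map_mul, Equiv.coe_mulRight, Subgroup.coe_mul]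
  have h2 : p ∣ Nat.card B := ((PE.of_mem hB h1).dvd hp (mt mul_inv_eq_one.1 hva)).trans
    (orderOf_dvd_natCard _ h1)
  obtain ⟨w, hw, hw'⟩ := H4.exists_fixed_of_isPGroup hσ.isPGroup
    ((H1.restrictAut φ B fun τ b hb => ⟨PE.map (p := p) hb.1 (φ τ), by
      change N _ = 1
      rw [hNσ, show N b = 1 from hb.2, map_one]⟩).comp (zpowers σ).subtype) h2
  refine ⟨w, w.2.1, fun e => hw (Subtype.ext (PE.eq_one (p := p) w.2.1 hp hV ?_)),
    congrArg Subtype.val (hw' ⟨σ, mem_zpowers σ⟩)⟩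
  have h3 : N w = 1 := w.2.2
  rwa [hN, Finset.prod_congr rfl fun y _ => hZ _ _ e, Finset.prod_const, Finset.card_univ,
    ← Nat.card_eq_fintype_card] at h3

theorem exists_normal_pgroup [Nontrivial X]
    (h : ∀ τ : X, orderOf τ = 2 → ∃ p u : ℕ, p.Prime ∧ u.Prime ∧ p ≠ 2 ∧ (∃ a, PE p a ∧ a ∉ Z) ∧
      ¬ Fix φ Z τ p ∧ ∀ σ : X, (orderOf σ).Prime → Fix φ Z σ p → orderOf σ = p ∨ orderOf σ = u) :
    ∃ (t : ℕ) (V : Subgroup X), t.Prime ∧ V.Normal ∧ V ≠ ⊥ ∧ IsPGroup t V := by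
  by_cases hS : solvableRadical X = ⊥
  swap
  · obtain ⟨t, V, h1, h2, -, h3, -, h4, -⟩ := H2.exists_elementaryAbelian_normal_le _ hS
    exact ⟨t, V, h1, h2, h3, h4⟩
  exfalso
  have h2 : Even (Nat.card X) := Nat.not_odd_iff_even.1 fun e =>
    top_ne_bot ((H4.solRad_eq_top_iff.2 (Cfsg.Agent.S0205.result e)).symm.trans hS)
  obtain ⟨τ, -, hτ⟩ := exists_orderOf_mem Nat.prime_two (K := (⊤ : Subgroup X))
    (by rw [card_top]; exact h2.two_dvd)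
  obtain ⟨p, u, hp, hu, -, ⟨a₀, ha₀, ha₀Z⟩, h3, h4⟩ := h τ hτ
  have mulZ : ∀ σ, ∀ z ∈ Z, φ σ z ∈ Z := fun σ z hz => (hZ σ z hz).symm ▸ hz
  let K : Subgroup X :=
    { carrier := {σ | ∀ a, PE p a → φ σ a * a⁻¹ ∈ Z}
      one_mem' := fun a _ => by simp
      mul_mem' := fun {σ ρ} h1 h2 a ha => by
        have := mul_mem (h1 _ (ha.map (φ ρ))) (h2 a ha)
        rwa [mul_assoc, inv_mul_cancel_left, ← MulAut.mul_apply, ← map_mul] at this
      inv_mem' := fun {σ} h1 a ha => by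
        have := inv_mem (h1 _ (ha.map (φ σ⁻¹)))
        rwa [← MulAut.mul_apply, ← map_mul, mul_inv_cancel, map_one, MulAut.one_apply, mul_inv_rev,
          inv_inv] at this }
  have hK : K.Normal := ⟨fun σ h1 g a ha => by
    have := mulZ g _ (h1 _ (ha.map (φ g⁻¹)))
    simpa only [map_mul, map_inv, MulAut.mul_apply, MulAut.apply_inv_self] using this⟩
  have h5 : Group.IsSolvable K := H29.isSolvable_of_prime_dvd_card hp hu fun w hw hd => by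
    obtain ⟨σ, hσ, e⟩ := exists_orderOf_mem hw hd
    refine or_iff_not_imp_left.2 fun hwp => ?_
    have h6 : ∀ n : ℕ, φ (σ ^ n) a₀ = (φ σ a₀ * a₀⁻¹) ^ n * a₀ := fun n => by
      induction n with
      | zero => simp
      | succ n ih =>
        rw [pow_succ', map_mul, MulAut.mul_apply, ih, map_mul, hZ σ _ (pow_mem (hσ a₀ ha₀) n),
          pow_succ, mul_assoc, inv_mul_cancel_right]
    have h7 := h6 w
    rw [← e, pow_orderOf_eq_one, map_one, MulAut.one_apply, eq_comm, mul_eq_right, e] at h7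
    have h8 := ((ha₀.map (φ σ)).mul ha₀.inv (Commute.all _ _)).eq_one hp
      (fun e => hwp ((Nat.prime_dvd_prime_iff_eq hp hw).1 e).symm) h7
    exact e ▸ (h4 σ (e ▸ hw) ⟨a₀, ha₀, ha₀Z, mul_inv_eq_one.1 h8⟩).resolve_left (e ▸ hwp)
  have h6 : K ≤ ⊥ := hS ▸ H4.le_solRad K
  have t2 : τ * τ = 1 := by rw [← sq, ← hτ, pow_orderOf_eq_one]
  have h7 : ∀ a, PE p a → φ τ a * a ∈ Z := fun a ha => by_contra fun e =>
    h3 ⟨_, (ha.map (φ τ)).mul ha (Commute.all _ _), e, by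
      rw [map_mul, ← MulAut.mul_apply, ← map_mul, t2, map_one, MulAut.one_apply, mul_comm]⟩
  refine ne_one_of_prime Nat.prime_two hτ (eq_one_of_central hS (mem_center_iff.2 fun g => ?_))
  have h8 : g * τ * g⁻¹ * τ ∈ K := fun a ha => by
    have h9 := mulZ g _ (h7 _ ((ha.map (φ τ)).map (φ g⁻¹)))
    have := mul_mem h9 (inv_mem (h7 a ha))
    simpa only [map_mul, map_inv, MulAut.mul_apply, MulAut.apply_inv_self, mul_inv_rev, mul_assoc,
      mul_comm a⁻¹, mul_inv_cancel_left] using this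
  have h9 := mem_bot.1 (h6 h8)
  rw [← t2, mul_left_inj, mul_inv_eq_iff_eq_mul] at h9
  exact h9

theorem false_of_two {r t : ℕ} (hr : r.Prime) (ht : t.Prime) (hrt : r ≠ t)
    (ar : ∃ a, PE r a ∧ a ∉ Z) (at' : ∃ a, PE t a ∧ a ∉ Z) (xr : ∃ σ : X, σ ≠ 1 ∧ PE r σ)
    (xt : ∃ σ : X, σ ≠ 1 ∧ PE t σ) (h : ∀ σ : X, σ ≠ 1 → ¬ Fix φ Z σ r ∧ ¬ Fix φ Z σ t) :
    False := by
  have key : ∀ u : ℕ, ∃ p : ℕ, p.Prime ∧ p ≠ u ∧ (∃ a, PE p a ∧ a ∉ Z) ∧
      (∃ σ : X, σ ≠ 1 ∧ PE p σ) ∧ ∀ σ : X, σ ≠ 1 → ¬ Fix φ Z σ p := fun u => by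
    by_cases e : r = u
    · exact ⟨t, ht, e ▸ hrt.symm, at', xt, fun σ e => (h σ e).2⟩
    · exact ⟨r, hr, e, ar, xr, fun σ e => (h σ e).1⟩
  have : Nontrivial X := xr.elim fun σ e => nontrivial_of_ne _ _ e.1
  obtain ⟨u, V, hu, hV, V1, hVu⟩ := exists_normal_pgroup hZ fun τ hτ => by
    obtain ⟨p, h1, h2, h3, -, h5⟩ := key 2
    exact ⟨p, p, h1, h1, h2, h3, h5 τ (ne_one_of_prime Nat.prime_two hτ),
      fun σ e h => absurd h (h5 σ (ne_one_of_prime e rfl))⟩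
  obtain ⟨p, h1, h2, ⟨a, ha, haZ⟩, ⟨σ, σ1, hσ⟩, h5⟩ := key u
  obtain ⟨v, hv, v1⟩ := (bot_or_exists_ne_one V).resolve_left V1
  refine h5 σ σ1 (fix_of_normal hZ V h1 (fun e => ?_)
    ⟨v, hv, a, ha, fun e => h5 v v1 ⟨a, ha, haZ, e⟩⟩ hσ)
  obtain ⟨w, hw, e⟩ := exists_orderOf_mem h1 e
  exact (PE.of_mem hVu hw).not_dvd h1 hu h2 e.symm.dvd

theorem false_of_three {k q r s : ℕ} (hq : q.Prime) (hr : r.Prime) (hs : s.Prime) (hqr : q ≠ r)
    (hqs : q ≠ s) (hrs : r ≠ s) (aq : ∃ a, PE q a ∧ a ∉ Z) (ar : ∃ a, PE r a ∧ a ∉ Z)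
    (as : ∃ a, PE s a ∧ a ∉ Z)
    (F1 : ∀ (σ : X) (p p' : ℕ), σ ≠ 1 → p.Prime → p'.Prime → Fix φ Z σ p → Fix φ Z σ p' → p = p')
    (F2 : ∀ (σ : X) (p : ℕ), Fix φ Z σ p → orderOf σ ∣ k)
    (F3 : ∀ (σ : X) (p u v : ℕ), σ ≠ 1 → p.Prime → Fix φ Z σ p → u.Prime → v.Prime → u ≠ p →
      v ≠ p → u ∣ k → v ∣ k → u = v)
    (hrk : r ∣ k) (hsk : ¬ s ∣ k) {ρ : X} (ρ1 : ρ ≠ 1) (hρ : PE r ρ) (hρ' : Fix φ Z ρ q)
    (xs : ∃ σ : X, σ ≠ 1 ∧ PE s σ) (xq : ¬ q ∣ k → ∃ σ : X, σ ≠ 1 ∧ PE q σ) : False := by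
  have : Nontrivial X := nontrivial_of_ne _ _ ρ1
  obtain ⟨t, V, ht, hV, V1, hVt⟩ := exists_normal_pgroup hZ fun τ hτ => by
    have τ1 := ne_one_of_prime Nat.prime_two hτ
    obtain ⟨p, hp, h1, h2, h3⟩ : ∃ p : ℕ, p.Prime ∧ p ≠ 2 ∧ (∃ a, PE p a ∧ a ∉ Z) ∧
        ¬ Fix φ Z τ p := by
      by_contra e
      push Not at e
      have key : ∀ p p' : ℕ, p.Prime → p'.Prime → p ≠ p' → (∃ a, PE p a ∧ a ∉ Z) →
          (∃ a, PE p' a ∧ a ∉ Z) → p = 2 ∨ p' = 2 := fun p p' hp hp' hne h1 h2 => by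
        by_contra e'
        push Not at e'
        exact hne (F1 τ p p' τ1 hp hp' (e p hp e'.1 h1) (e p' hp' e'.2 h2))
      have := key q r hq hr hqr aq ar
      have := key q s hq hs hqs aq as
      have := key r s hr hs hrs ar as
      omega
    by_cases e : p = r
    · refine ⟨p, q, hp, hq, h1, h2, h3, fun σ hσ h => or_iff_not_imp_right.2 fun e' => ?_⟩
      exact (F3 ρ q _ r ρ1 hq hρ' hσ hr e' hqr.symm (F2 σ p h) hrk).trans e.symm
    · refine ⟨p, r, hp, hr, h1, h2, h3, fun σ hσ h => or_iff_not_imp_left.2 fun e' => ?_⟩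
      exact F3 σ p _ r (ne_one_of_prime hσ rfl) hp h hσ hr e' (Ne.symm e) (F2 σ p h) hrk
  obtain ⟨v, hv, v1⟩ := (bot_or_exists_ne_one V).resolve_left V1
  have key : ∀ (p : ℕ) (σ : X), p.Prime → p ≠ t → (∃ a, PE p a ∧ a ∉ Z) → PE p σ →
      Fix φ Z v p ∨ Fix φ Z σ p := fun p σ hp hpt ⟨a, ha, haZ⟩ hσ => by
    refine or_iff_not_imp_left.2 fun e => fix_of_normal hZ V hp (fun e => ?_)
      ⟨v, hv, a, ha, fun e' => e ⟨a, ha, haZ, e'⟩⟩ hσ
    obtain ⟨w, hw, e⟩ := exists_orderOf_mem hp e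
    exact (PE.of_mem hVt hw).not_dvd hp ht hpt e.symm.dvd
  have nf : ∀ (p p' : ℕ) (σ : X), p.Prime → σ ≠ 1 → PE p σ → Fix φ Z σ p' → p ∣ k :=
    fun p p' σ hp σ1 hσ h => (hσ.dvd hp σ1).trans (F2 σ p' h)
  have hB : s ≠ t → Fix φ Z v s := fun e => by
    obtain ⟨σ, σ1, hσ⟩ := xs
    exact (key s σ hs e as hσ).resolve_right fun h => hsk (nf s s σ hs σ1 hσ h)
  by_cases e : r = t
  · have h1 := hB (e ▸ hrs.symm)
    have h2 : ¬ q ∣ k := fun h => hqr (F3 v s q r v1 hs h1 hq hr hqs hrs h hrk)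
    obtain ⟨σ, σ1, hσ⟩ := xq h2
    rcases key q σ hq (e ▸ hqr) aq hσ with h | h
    · exact hqs (F1 v q s v1 hq hs h h1)
    · exact h2 (nf q q σ hq σ1 hσ h)
  · have h1 := (key r ρ hr e ar hρ).resolve_right fun h => hqr (F1 ρ q r ρ1 hq hr hρ' h)
    exact hrs (F1 v r s v1 hr hs h1 (hB fun e' =>
      hsk (nf s r v hs v1 (e' ▸ PE.of_mem hVt hv) h1)))

end H5.CS
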