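/- Groups with two non-trivial class sizes in which one centraliser properly contains another:
local analysis. -/
import Cfsg.Agent.H5.SemiFix
import Cfsg.Agent.H5.CS3
import Cfsg.Agent.H8.AbFitting

set_option autoImplicit false

namespace H5.CS
open Cfsg Subgroup H4

universe u
variable {G : Type u} [Group G] [Finite G]

local notation "C " x:max => Subgroup.centralizer ({x} : Set _)

theorem exists_decomp_not_mem {K : Subgroup G} {x : G} (hx : x ∉ K) :
    ∃ s e f : ℕ, s.Prime ∧ x ^ e * x ^ f = x ∧ PE s (x ^ e) ∧ ¬ s ∣ orderOf (x ^ f) ∧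
      x ^ e ∉ K := by
  obtain ⟨e₀, s, i, hs, ha, haZ⟩ : ∃ e s i : ℕ, s.Prime ∧ orderOf (x ^ e) = s ^ i ∧ x ^ e ∉ K := by
    by_contra hcon
    push Not at hcon
    exact hx (mem_of_forall_primePow_mem x fun e q k hq _ hk => hcon e q k hq hk)
  obtain ⟨e, f, hef, ⟨j, hj⟩, hf⟩ := H24.exists_p_decomp hs x
  refine ⟨s, e, f, hs, hef, .of_orderOf hj, hf, fun hz => haZ ?_⟩
  have h4 : x ^ e₀ = (x ^ e) ^ e₀ * (x ^ f) ^ e₀ := by
    rw [← (Commute.pow_pow_self x e f).mul_pow, hef]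
  have h5 : PE s ((x ^ f) ^ e₀) := by
    rw [eq_inv_mul_of_mul_eq h4.symm]
    exact ((PE.of_orderOf hj).pow e₀).inv.mul (.of_orderOf ha)
      (by rw [← pow_mul]; exact (Commute.pow_pow_self x _ _).inv_left)
  rw [h4, h5.eq_one hs hf (by rw [← pow_mul, mul_comm, pow_mul, pow_orderOf_eq_one, one_pow]),
    mul_one]
  exact pow_mem hz _

/-- `K` contains a non-central `p`-element. -/
def NC (p : ℕ) (K : Subgroup G) : Prop := ∃ g ∈ K, PE p g ∧ g ∉ center G

omit [Finite G] in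
theorem NC.mono {p : ℕ} {K L : Subgroup G} (h : NC p K) (hKL : K ≤ L) : NC p L :=
  h.imp fun _ hg => ⟨hKL hg.1, hg.2⟩

theorem nc_iff {p : ℕ} (hp : p.Prime) {K : Subgroup G} : NC p K ↔ p ∣ (center G).relIndex K := by
  have := Fact.mk hp
  refine ⟨fun ⟨g, hg, h1, h2⟩ => by_contra fun e => h2 (mem_of_coprime_index
    (N := (center G).subgroupOf K) (x := ⟨g, hg⟩) ((pe_coe.1 h1).coprime hp e)), fun h => ?_⟩
  obtain ⟨P⟩ : Nonempty (Sylow p K) := inferInstance
  by_contra e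
  exact P.not_dvd_index (h.trans (index_dvd_of_le fun a ha => by_contra fun e' =>
    e ⟨a, a.2, pe_coe.2 (.of_mem P.isPGroup' ha), e'⟩))

theorem NC.of_ind {p : ℕ} (hp : p.Prime) {a b : G} (h : NC p (C a)) (e : ind a = ind b) :
    NC p (C b) := by
  rw [nc_iff hp] at h ⊢
  have h1 := (relIndex_mul_index (center_le_centralizer ({a} : Set G))).trans
    (relIndex_mul_index (center_le_centralizer ({b} : Set G))).symm
  rw [show (C a).index = (C b).index from e] at h1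
  rwa [← Nat.eq_of_mul_eq_mul_right (ind_pos b) h1]

theorem exists_pe_normalizer {p : ℕ} (hp : p.Prime) {T K H : Subgroup G} (hT : H98.IsSyl p T K)
    (hKH : K ≤ H) (hd : p ∣ K.relIndex H) :
    ∃ g ∈ H, g ∈ normalizer (T : Set G) ∧ g ∉ K ∧ PE p g := by
  have := Fact.mk hp
  obtain ⟨S, hS, hTS⟩ := H98.exists_isSyl_le hT.isPGroup (hT.le.trans hKH)
  have h1 : T < S := lt_of_le_of_ne hTS fun e => hS.not_dvd_relIndex (by
    rw [← e, ← relIndex_mul_relIndex T K H hT.le hKH]; exact hd.mul_left _)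
  obtain ⟨g, ⟨h2, h3⟩, h4⟩ := SetLike.exists_of_lt (H98.lt_inf_normalizer hS.isPGroup h1)
  have h5 := PE.of_mem hS.isPGroup h2
  exact ⟨g, hS.le h2, h3, fun e => h4 (hT.le_of_le_normalizer' h5.isPGroup (zpowers_le.2 e)
    (zpowers_le.2 h3) (mem_zpowers g)), h5⟩

theorem mem_syl_of_central {p : ℕ} {T K : Subgroup G} (hT : H98.IsSyl p T K) {a : G} (ha : a ∈ K)
    (hp : PE p a) (hc : K ≤ C a) : a ∈ T :=
  hT.le_of_le_normalizer' hp.isPGroup (zpowers_le.2 ha) (zpowers_le.2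
    (centralizer_le_normalizer _ fun _ hc' => mem_cent_iff.1 (hc (hT.le hc')))) (mem_zpowers a)

omit [Finite G] in
theorem conj_not_central {a : G} (h : a ∉ center G) (g : G) : g * a * g⁻¹ ∉ center G := by
  rwa [← ind_eq_one_iff, ind_conj, ind_eq_one_iff]

/-- The conjugation action of `M` on an abelian subgroup `A`. -/
theorem fix_iff {A M : Subgroup G} (hM : M ≤ normalizer (A : Set G)) [IsMulCommutative A] (g : M)
    (p : ℕ) : letI : CommGroup A := { mul_comm := IsMulCommutative.is_comm.comm }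
    Fix (H8.conjHom A M hM).range.subtype ((center G).subgroupOf A) ⟨_, g, rfl⟩ p ↔
      ∃ a ∈ A, PE p a ∧ a ∉ center G ∧ (g : G) ∈ C a :=
  ⟨fun ⟨a, h1, h2, h3⟩ => ⟨a, a.2, pe_coe.2 h1, h2,
      mem_cent_iff.2 (mul_inv_eq_iff_eq_mul.1 (congrArg Subtype.val h3))⟩,
    fun ⟨a, ha, h1, h2, h3⟩ => ⟨⟨a, ha⟩, pe_coe.1 h1, h2,
      Subtype.ext (mul_inv_eq_iff_eq_mul.2 (mem_cent_iff.1 h3))⟩⟩

omit [Finite G] in
theorem conj_eq_one_iff {A M : Subgroup G} (hM : M ≤ normalizer (A : Set G)) (g : M) :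
    (⟨_, g, rfl⟩ : (H8.conjHom A M hM).range) = 1 ↔ (g : G) ∈ centralizer (A : Set G) := by
  rw [Subtype.ext_iff, OneMemClass.coe_one, ← MonoidHom.mem_ker, H8.ker_conjHom, mem_subgroupOf]

omit [Finite G] in
theorem conj_center {A M : Subgroup G} (hM : M ≤ normalizer (A : Set G))
    (σ : (H8.conjHom A M hM).range) (z : A) (hz : z ∈ (center G).subgroupOf A) :
    (H8.conjHom A M hM).range.subtype σ z = z := by
  obtain ⟨_, g, rfl⟩ := σ
  refine Subtype.ext ?_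
  change (g : G) * z * (g : G)⁻¹ = z
  rw [show (g : G) * z = z * g from mem_center_iff.mp hz g, mul_inv_cancel_right]

/-- Two primes cannot both divide the index of a component. -/
theorem false_of_component {H K : Subgroup G} (hKH : K ≤ H) {r t : ℕ} (hr : r.Prime)
    (ht : t.Prime) (hrt : r ≠ t) (h : ∀ a ∈ K, a ∉ center G → PE r a ∨ PE t a → C a ⊓ H = K)
    (nr : NC r K) (nt : NC t K) (dr : r ∣ K.relIndex H) (dt : t ∣ K.relIndex H) : False := by
  let A := K ⊓ centralizer (K : Set G)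
  have : IsMulCommutative A := ⟨⟨fun a b => Subtype.ext (b.2.2 a a.2.1)⟩⟩
  let _ : CommGroup A := { mul_comm := IsMulCommutative.is_comm.comm }
  let M := H ⊓ normalizer (A : Set G)
  have h1 : ∀ a ∈ K, a ∉ center G → PE r a ∨ PE t a → a ∈ A := fun a ha h1 h2 =>
    ⟨ha, fun g hg => mem_cent_iff.1 ((h a ha h1 h2).ge hg).1⟩
  have h2 : ∀ p : ℕ, p.Prime → (∀ a : G, PE p a → PE r a ∨ PE t a) → NC p K → p ∣ K.relIndex H →
      (∃ a : A, PE p a ∧ a ∉ (center G).subgroupOf A) ∧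
      ∃ σ : (H8.conjHom A M inf_le_right).range, σ ≠ 1 ∧ PE p σ := by
    intro p hp hpp ⟨u, hu, h3, h4⟩ hd
    have huA := h1 u hu h4 (hpp u h3)
    refine ⟨⟨⟨u, huA⟩, pe_coe.1 h3, h4⟩, ?_⟩
    obtain ⟨T, hT⟩ := H98.exists_isSyl p K
    obtain ⟨g, g1, g2, g3, g4⟩ := exists_pe_normalizer hp hT hKH hd
    have h5 := (mem_normalizer_iff.1 g2 u).1 (mem_syl_of_central hT hu h3
      fun x hx => ((h u hu h4 (hpp u h3)).ge hx).1)
    have h6 : H98.cj g K = K := by
      conv_lhs => rw [← h u hu h4 (hpp u h3), H98.cj_inf, ← cent_conj, H98.cj_eq_self_of_mem g1]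
      exact h _ (hT.le h5) (conj_not_central h4 g) (hpp _ (h3.conj g))
    have h7 : g ∈ M := ⟨g1, H98.cj_eq_self_iff.1 (by rw [H98.cj_inf, H98.cj_centralizer, h6])⟩
    exact ⟨⟨_, ⟨g, h7⟩, rfl⟩, fun e => g3 ((h u hu h4 (hpp u h3)).le
      ⟨mem_cent_iff.2 ((conj_eq_one_iff _ _).1 e u huA).symm, g1⟩),
      (pe_coe.1 g4 : PE p (⟨g, h7⟩ : M)).map (MonoidHom.rangeRestrict _)⟩
  obtain ⟨a1, a2⟩ := h2 r hr (fun _ => Or.inl) nr dr
  obtain ⟨a3, a4⟩ := h2 t ht (fun _ => Or.inr) nt dt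
  refine false_of_two (conj_center (M := M) inf_le_right) hr ht hrt a1 a3 a2 a4 ?_
  rintro ⟨_, g, rfl⟩ hg
  have key : ∀ a ∈ A, a ∉ center G → PE r a ∨ PE t a → (g : G) ∉ C a := fun a ha h3 h4 h5 =>
    hg ((conj_eq_one_iff _ _).2 fun b hb => (hb.2 g ((h a ha.1 h3 h4).le ⟨h5, g.2.1⟩)).symm)
  exact ⟨fun e => ((fix_iff _ g r).1 e).elim fun a ha => key a ha.1 ha.2.2.1 (.inl ha.2.1) ha.2.2.2,
    fun e => ((fix_iff _ g t).1 e).elim fun a ha => key a ha.1 ha.2.2.1 (.inr ha.2.1) ha.2.2.2⟩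

/-- Two non-trivial class sizes, one centraliser properly inside another one. -/
structure NF2 (x y : G) : Prop where
  all : ∀ g : G, g ∉ center G → ind g = ind x ∨ ind g = ind y
  lt : C x < C y
  y1 : y ∉ center G
  ns : ¬ Group.IsSolvable G

omit [Finite G] in
theorem not_central_of_le {a c : G} (ha : a ∉ center G) (hc : C c ≤ C a) : c ∉ center G :=
  fun e => ha (mem_center_iff.2 fun g => mem_cent_iff.1 (hc (mem_cent_iff.2 (mem_center_iff.1 e g))))

namespace NF2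
variable {x y : G} (h : NF2 x y)
include h

theorem dvd : ind y ∣ ind x := ind_dvd_of_le h.lt.le

theorem ind_lt : ind y < ind x :=
  lt_of_not_ge fun e => h.lt.ne (eq_of_le_of_index_le h.lt.le e)

theorem ind_le (a : G) : ind a ≤ ind x := by
  by_cases e : a ∈ center G
  · rw [ind_eq_one_iff.2 e]; exact ind_pos x
  · exact (h.all a e).elim le_of_eq fun e => e ▸ h.ind_lt.le

theorem eq_of_min {a c : G} (ha : ind a = ind x) (hc : C c ≤ C a) : C c = C a :=
  eq_of_le_of_index_le hc ((h.ind_le c).trans ha.ge)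

theorem not_central {a : G} (ha : ind a = ind x) : a ∉ center G := fun e => by
  have := h.ind_lt
  have := ind_pos y
  have := ind_eq_one_iff.2 e
  omega

theorem eq_of_max {a c : G} (ha : ind a ≠ ind x) (c1 : c ∉ center G) (hc : C a ≤ C c) :
    C a = C c := by
  refine eq_of_le_of_index_le hc ?_
  rw [show (C a).index = ind y from (h.all a (not_central_of_le c1 hc)).resolve_left ha]
  exact (h.all c c1).elim (fun e => h.ind_lt.le.trans e.ge) fun e => e.ge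

theorem min_le {a b : G} (ha : ind a = ind x) (hb : b ∈ C a)
    (hc : (orderOf a).Coprime (orderOf b)) : C a ≤ C b :=
  cent_le_of_ind_le hb hc ((h.ind_le _).trans ha.ge)

theorem le_or {a b : G} (a1 : a ∉ center G) (hb : b ∈ C a)
    (hc : (orderOf a).Coprime (orderOf b)) : C a ≤ C b ∨ ind (a * b) = ind x :=
  or_iff_not_imp_right.2 fun e => inf_eq_left.1 ((cent_mul hb hc).symm.trans
    (h.eq_of_max e a1 ((cent_mul hb hc).trans_le inf_le_left)))

theorem relIndex_eq {a c : G} (a1 : a ∉ center G) (ha : ind a ≠ ind x) (hi : ind c = ind x)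
    (hc : C c ≤ C a) : (C c).relIndex (C a) = ind x / ind y := by
  rw [← hi, ind, ← relIndex_mul_index hc, show (C a).index = ind y from
    (h.all a a1).resolve_left ha, Nat.mul_div_cancel _ (ind_pos y)]

theorem exists_pe : ∃ (q : ℕ) (a : G), q.Prime ∧ PE q a ∧ a ∉ center G ∧ C a = C y := by
  obtain ⟨q, e, -, hq, -, h1, -, h2⟩ := exists_decomp_not_mem h.y1
  exact ⟨q, _, hq, h1, h2, (h.eq_of_max h.ind_lt.ne h2 (cent_le_cent_pow y e)).symm⟩

theorem nc {p : ℕ} (hp : p.Prime) (h1 : NC p (⊤ : Subgroup G)) {a : G} (ha : a ∉ center G) :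
    NC p (C a) := by
  have h2 : NC p (C x) := by
    obtain ⟨g, -, g1, g2⟩ := h1
    have h2 : NC p (C g) := ⟨g, self_mem_cent g, g1, g2⟩
    rcases h.all g g2 with e | e
    · exact h2.of_ind hp e
    obtain ⟨w, w1, w2, w3⟩ := h2.of_ind hp e
    obtain ⟨q, b, hq, b1, b2, b3⟩ := h.exists_pe
    have hx : x ∈ C b := b3.ge (h.lt.le (self_mem_cent x))
    by_cases e' : q = p
    · exact ⟨b, mem_cent_comm hx, e' ▸ b1, b2⟩
    have hc := b1.coprime' w2 hq hp e'
    rcases h.le_or b2 (b3.ge w1) hc with e | e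
    · exact ⟨w, mem_cent_comm (e hx), w2, w3⟩
    · exact NC.of_ind hp ⟨w, (cent_mul (b3.ge w1) hc).ge ⟨b3.ge w1, self_mem_cent w⟩, w2, w3⟩ e
  exact (h.all a ha).elim (fun e => h2.of_ind hp e.symm)
    fun e => (h2.mono h.lt.le).of_ind hp e.symm

theorem dvd_ind {p : ℕ} (hp : p.Prime) (h1 : NC p (⊤ : Subgroup G)) : p ∣ ind x := by
  by_contra e
  obtain ⟨g, -, g1, g2⟩ := h1
  obtain ⟨k, hk⟩ := g1.exists_orderOf hp
  refine g2 (ind_eq_one_iff.1 (index_eq_one.2 (top_le_iff.1 (le_cent_of_not_dvd_ind ⊤ hp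
    (fun a _ e' => ?_) (mem_top g) hk))))
  by_cases a1 : a ∈ center G
  · rw [ind_eq_one_iff.2 a1] at e'
    exact hp.one_lt.ne' (Nat.dvd_one.1 e')
  · exact (h.all a a1).elim (fun e'' => e (e'' ▸ e')) fun e'' => e ((e'' ▸ e').trans h.dvd)

theorem nc_of_dvd {p : ℕ} (hp : p.Prime) (h1 : p ∣ ind x / ind y) : NC p (⊤ : Subgroup G) := by
  rw [nc_iff hp, relIndex_top_right]
  exact (h1.trans (Nat.div_dvd_of_dvd h.dvd)).trans (index_dvd_of_le (center_le_centralizer _))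

theorem third {s t : ℕ} (hs : s.Prime) (ht : t.Prime) :
    ∃ w : ℕ, w.Prime ∧ w ≠ s ∧ w ≠ t ∧ NC w (⊤ : Subgroup G) := by
  by_contra e
  push Not at e
  have : Group.IsSolvable (G ⧸ center G) := H29.isSolvable_of_prime_dvd_card hs ht fun w hw hd => by
    by_contra e'
    push Not at e'
    exact e w hw e'.1 e'.2 ((nc_iff hw).2 (by rwa [relIndex_top_right]))
  have : Group.IsSolvable (center G) := Group.isSolvable_of_comm fun a b =>
    Subtype.ext (mem_center_iff.1 b.2 a)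
  exact h.ns (H2.isSolvable_of_normal_of_quotient (center G))

/-- A large centraliser with a mixed centre. -/
theorem mixed {H : Subgroup G} {p p' : ℕ} {a a' : G} (hp : p.Prime) (hp' : p'.Prime) (hne : p ≠ p')
    (a1 : PE p a) (a2 : a ∉ center G) (a3 : C a = H) (b1 : PE p' a') (b2 : a' ∉ center G)
    (b3 : C a' = H) (hi : ind a ≠ ind x) {r : ℕ} (hr : r.Prime) (hk : r ∣ ind x / ind y) {g : G}
    (hg : g ∈ H) (hrg : ¬ r ∣ orderOf g) : H ≤ C g := by
  let good : ℕ → Prop := fun t => t.Prime ∧ ∃ v : G, PE t v ∧ v ∉ center G ∧ C v = H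
  have h0 : ∀ t, good t → ∀ b ∈ H, ¬ H ≤ C b → ¬ t ∣ orderOf b →
      ∃ c : G, ind c = ind x ∧ C c = H ⊓ C b ∧
        ∀ n : ℕ, ¬ t ∣ n → (orderOf b).Coprime n → (orderOf c).Coprime n := by
    rintro t ⟨ht, v, v1, v2, rfl⟩ b hb h1 h2
    have hc := v1.coprime ht h2
    exact ⟨v * b, (h.le_or v2 hb hc).resolve_left h1, cent_mul hb hc, fun n e1 e2 =>
      ((v1.coprime ht e1).mul_left e2).coprime_dvd_left
        (Commute.orderOf_mul_dvd_mul_orderOf (mem_cent_iff.1 hb).symm)⟩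
  have h1 : ∀ t, good t → ∀ b ∈ H, ∀ d ∈ H, ¬ H ≤ C b → d ∈ C b → ¬ t ∣ orderOf b →
      ¬ t ∣ orderOf d → (orderOf b).Coprime (orderOf d) → H ⊓ C b ≤ C d :=
    fun t ht b hb d hd e1 e2 e3 e4 e5 => by
      obtain ⟨c, c1, c2, c3⟩ := h0 t ht b hb e1 e3
      exact c2 ▸ h.min_le c1 (c2.ge ⟨hd, e2⟩) (c3 _ e4 e5)
  have oth : ∀ s : ℕ, ∃ t, good t ∧ t ≠ s := fun s => by
    by_cases e : p = s
    · exact ⟨p', ⟨hp', a', b1, b2, b3⟩, e ▸ hne.symm⟩
    · exact ⟨p, ⟨hp, a, a1, a2, a3⟩, e⟩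
  have key : ∀ (s t : ℕ) (b d : G), s.Prime → t.Prime → s ≠ t → PE s b → PE t d → b ∈ H → d ∈ H →
      ¬ H ≤ C b → d ∈ C b → H ⊓ C b ≤ C d := by
    intro s t b d hs ht hst e1 e2 hb hd hbZ hbd
    by_cases hv : ∃ v, good v ∧ v ≠ s ∧ v ≠ t
    · obtain ⟨v, hv, e3, e4⟩ := hv
      exact h1 v hv b hb d hd hbZ hbd (e1.not_dvd hv.1 hs e3) (e2.not_dvd hv.1 ht e4)
        (e1.coprime' e2 hs ht hst)
    push Not at hv
    have gt : good t := by
      obtain ⟨v, h1, h2⟩ := oth s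
      exact hv v h1 h2 ▸ h1
    have gs : good s := by
      obtain ⟨v, h1, h2⟩ := oth t
      by_contra e
      exact h2 (hv v h1 fun e' => e (e' ▸ h1))
    obtain ⟨w, hw, e3, e4, nw⟩ := h.third hs ht
    obtain ⟨c, c1, c2, -⟩ := h0 t gt b hb hbZ (e1.not_dvd ht hs hst.symm)
    obtain ⟨u, u1, u2, u3⟩ := h.nc hw nw (h.not_central c1)
    rw [c2] at u1
    have h4 := h1 t gt b hb u u1.1 hbZ u1.2 (e1.not_dvd ht hs hst.symm) (u2.not_dvd ht hw e4.symm)
      (e1.coprime' u2 hs hw e3.symm)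
    have h5 := h1 s gs u u1.1 d hd (fun e => e4 (hv w ⟨hw, u, u2, u3,
      (h.eq_of_max hi u3 (a3.trans_le e)).symm.trans a3⟩ e3)) (h4 ⟨hd, hbd⟩)
      (u2.not_dvd hs hw e3.symm) (e2.not_dvd hs ht hst) (u2.coprime' e2 hw ht e4)
    exact (le_inf inf_le_left h4).trans h5
  have h2 : ∀ z : H, ind z = 1 ∨ ind z = ind x / ind y := fun z => by
    by_cases hz : (z : G) ∈ centralizer (H : Set G)
    · exact Or.inl (ind_eq_one_iff.2 (mem_center_iff.2 fun g => Subtype.ext (hz g g.2)))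
    obtain ⟨s, e, f, hs, hef, e1, e2, e3⟩ := exists_decomp_not_mem hz
    rw [← le_cent_iff_mem_centralizer] at e3
    have cm : ∀ i j : ℕ, (z : G) ^ i ∈ C ((z : G) ^ j) := fun i j =>
      mem_cent_iff.2 (Commute.pow_pow_self _ i j)
    have h4 : H ⊓ C ((z : G) ^ e) ≤ C ((z : G) ^ f) := fun g hg => mem_cent_comm
      (mem_of_forall_primePow_mem (H := C g) _ fun i t l ht hd hl => mem_cent_comm
        (key s t _ _ hs ht (fun e => e2 (e ▸ hd)) e1 (.of_orderOf hl) (pow_mem z.2 e)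
          (pow_mem (pow_mem z.2 f) i) e3 (by rw [← pow_mul]; exact cm _ _) hg))
    obtain ⟨t, gt, hts⟩ := oth s
    obtain ⟨c, c1, c2, -⟩ := h0 t gt _ (pow_mem z.2 e) e3 (e1.not_dvd gt.1 hs hts)
    refine Or.inr ?_
    rw [← h.relIndex_eq a2 hi c1 (c2.trans_le (inf_le_left.trans a3.ge)), a3, c2, ind,
      H18.index_centralizer_coe, ← inf_relIndex_left]
    congr 1
    conv_lhs => rw [← hef, cent_mul (cm f e) (e1.coprime hs e2), ← inf_assoc, inf_eq_left.2 h4]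
  have := nilpotent_of_two_sizes h2
  have := Fact.mk hr
  obtain ⟨S⟩ : Nonempty (Sylow r H) := inferInstance
  have h3 := (h2 ⟨g, hg⟩).resolve_right fun e => not_dvd_ind_of_mem_centralizer_sylow S
    (fun z hz => H26.commute_of_coprime_orderOf ((PE.of_mem S.isPGroup' hz).coprime hr
      (by rwa [orderOf_mk]))) (e ▸ hk)
  exact fun z hz =>
    mem_cent_iff.2 (congrArg Subtype.val (mem_center_iff.1 (ind_eq_one_iff.1 h3) ⟨z, hz⟩))

end NF2

end H5.CS
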