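/- A non-solvable group with two non-trivial class sizes has no centraliser of a non-central
element properly inside another one. -/
import Cfsg.Agent.H5.CS5

set_option autoImplicit false

namespace H5.CS
open Cfsg Subgroup H4

universe u
variable {G : Type u} [Group G] [Finite G]

local notation "C " x:max => Subgroup.centralizer ({x} : Set _)

/-- `a` is a `p`-element with a large centraliser whose centre is a `p`-group modulo `Z(G)`. -/
structure Pure (x : G) (p : ℕ) (a : G) : Prop where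
  pe : PE p a
  nc : a ∉ center G
  big : ind a ≠ ind x
  pure : ∀ (t : ℕ) (v : G), t.Prime → t ≠ p → PE t v → C a ≤ C v → v ∈ center G

omit [Finite G] in
theorem coprime_mul {a b c : G} (h : b ∈ C a) (h1 : (orderOf a).Coprime (orderOf c))
    (h2 : (orderOf b).Coprime (orderOf c)) : (orderOf (a * b)).Coprime (orderOf c) :=
  (h1.mul_left h2).coprime_dvd_left (Commute.orderOf_mul_dvd_mul_orderOf (mem_cent_iff.1 h).symm)

namespace NF2
variable {x y : G} (h : NF2 x y)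
include h

theorem le_of_not_pure {p : ℕ} {a : G} (hp : p.Prime) (a1 : PE p a) (a2 : a ∉ center G)
    (hi : ind a ≠ ind x) (hn : ¬ Pure x p a) {r : ℕ} (hr : r.Prime) (hk : r ∣ ind x / ind y)
    {g : G} (hg : g ∈ C a) (hrg : ¬ r ∣ orderOf g) : C a ≤ C g := by
  by_contra e
  refine hn ⟨a1, a2, hi, fun t v ht htp hv hle => by_contra fun v1 => e ?_⟩
  exact h.mixed hp ht htp.symm a1 a2 rfl hv v1 (h.eq_of_max hi v1 hle).symm hi hr hk hg hrg

theorem ind_mul {p t : ℕ} {a b : G} (hp : p.Prime) (ha : Pure x p a) (ht : t.Prime) (htp : t ≠ p)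
    (hb : b ∈ C a) (b1 : PE t b) (b2 : b ∉ center G) : ind (a * b) = ind x :=
  (h.le_or ha.nc hb (ha.pe.coprime' b1 hp ht htp.symm)).resolve_left
    fun e => b2 (ha.pure t b ht htp b1 e)

/-- Inside the centraliser of a pure element. -/
theorem inf_eq {p r t : ℕ} {a u b : G} (hp : p.Prime) (ha : Pure x p a) (hr : r.Prime)
    (ht : t.Prime) (hrp : r ≠ p) (htp : t ≠ p) (hrt : r ≠ t) (hu : u ∈ C a) (u1 : PE r u)
    (u2 : u ∉ center G) (hb : b ∈ C a ⊓ C u) (b1 : PE t b) (b2 : b ∉ center G) :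
    C a ⊓ C u = C a ⊓ C b := by
  have h1 := cent_mul hu (ha.pe.coprime' u1 hp hr hrp.symm)
  have h2 := cent_mul hb.1 (ha.pe.coprime' b1 hp ht htp.symm)
  have h3 := h.min_le (h.ind_mul hp ha hr hrp hu u1 u2) (h1.ge hb)
    (coprime_mul hu (ha.pe.coprime' b1 hp ht htp.symm) (u1.coprime' b1 hr ht hrt))
  rw [← h1, ← h2]
  exact h.eq_of_min (h.ind_mul hp ha ht htp hb.1 b1 b2)
    (h2.ge.trans' (le_inf (h1.trans_le inf_le_left) h3))

theorem inf_eq' {p r t : ℕ} {a u b : G} (hp : p.Prime) (ha : Pure x p a) (hr : r.Prime)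
    (ht : t.Prime) (hrp : r ≠ p) (htp : t ≠ p) (hrt : r ≠ t) (nt : NC t (⊤ : Subgroup G))
    (hu : u ∈ C a) (u1 : PE r u) (u2 : u ∉ center G) (hb : b ∈ C a ⊓ C u)
    (b1 : PE r b ∨ PE t b) (b2 : b ∉ center G) : C a ⊓ C u = C a ⊓ C b := by
  rcases b1 with b1 | b1
  · obtain ⟨w, w1, w2, w3⟩ := h.nc ht nt (h.not_central (h.ind_mul hp ha hr hrp hu u1 u2))
    rw [cent_mul hu (ha.pe.coprime' u1 hp hr hrp.symm)] at w1
    have h1 := h.inf_eq hp ha hr ht hrp htp hrt hu u1 u2 w1 w2 w3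
    exact h1.trans (h.inf_eq hp ha ht hr htp hrp hrt.symm w1.1 w2 w3 (h1.le hb) b1 b2)
  · exact h.inf_eq hp ha hr ht hrp htp hrt hu u1 u2 hb b1 b2

theorem eq_of_pure {p r t : ℕ} {a : G} (hp : p.Prime) (ha : Pure x p a) (hr : r.Prime)
    (ht : t.Prime) (hrp : r ≠ p) (htp : t ≠ p) (dr : r ∣ ind x / ind y) (dt : t ∣ ind x / ind y) :
    r = t := by
  by_contra hrt
  obtain ⟨u, hu, u1, u2⟩ := h.nc hr (h.nc_of_dvd hr dr) ha.nc
  have h1 := cent_mul hu (ha.pe.coprime' u1 hp hr hrp.symm)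
  have h2 := h.ind_mul hp ha hr hrp hu u1 u2
  have h3 := h.relIndex_eq ha.nc ha.big h2 (h1.trans_le inf_le_left)
  rw [h1] at h3
  refine false_of_component (H := C a) (K := C a ⊓ C u) inf_le_left hr ht hrt
    (fun b hb b2 b1 => ?_) ⟨u, ⟨hu, self_mem_cent u⟩, u1, u2⟩
    (h1 ▸ h.nc ht (h.nc_of_dvd ht dt) (h.not_central h2)) (h3 ▸ dr) (h3 ▸ dt)
  rw [inf_comm]
  exact (h.inf_eq' hp ha hr ht hrp htp hrt (h.nc_of_dvd ht dt) hu u1 u2 hb b1 b2).symm

theorem one_lt : 1 < ind x / ind y := by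
  have h1 := Nat.mul_div_cancel' h.dvd
  have h2 := h.ind_lt
  by_contra e
  have := Nat.mul_le_mul_left (ind y) (not_lt.1 e)
  omega

theorem exists_pure : ∃ (q r : ℕ) (a : G), q.Prime ∧ r.Prime ∧ r ≠ q ∧ r ∣ ind x / ind y ∧
    Pure x q a := by
  by_contra e
  push Not at e
  obtain ⟨p, hp, hk⟩ := Nat.exists_prime_and_dvd h.one_lt.ne'
  have h1 : ∀ r : ℕ, r.Prime → r ∣ ind x / ind y → r = p := fun r hr hd => by
    by_contra hrp
    obtain ⟨q, a, hq, a1, a2, a3⟩ := h.exists_pe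
    have hi : ind a ≠ ind x := (congrArg index a3).trans_ne h.ind_lt.ne
    have hn : ¬ Pure x q a := fun ha => by
      by_cases e' : r = q
      · exact e q p a hq hp (e' ▸ Ne.symm hrp) hk ha
      · exact e q r a hq hr e' hd ha
    have hx : x ∈ C a := a3.ge (h.lt.le (self_mem_cent x))
    refine h.lt.not_ge (a3.ge.trans fun g hg => mem_cent_comm
      (mem_of_forall_primePow_mem x fun i t l ht _ hl => mem_cent_comm ?_))
    by_cases e' : t = r
    · exact h.le_of_not_pure hq a1 a2 hi hn hp hk (pow_mem hx i)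
        (not_dvd_of_pow hp ht (e' ▸ Ne.symm hrp) hl) hg
    · exact h.le_of_not_pure hq a1 a2 hi hn hr hd (pow_mem hx i)
        (not_dvd_of_pow hr ht (Ne.symm e') hl) hg
  obtain ⟨r, hr, hrp, -, nr⟩ := h.third hp hp
  obtain ⟨t, ht, htp, htr, nt⟩ := h.third hp hr
  have h2 : ∀ (s : ℕ) (a g : G), s.Prime → s ≠ p → PE s a → a ∉ center G → ind a ≠ ind x →
      g ∈ C a → ¬ p ∣ orderOf g → C a ≤ C g := fun s a g hs hsp a1 a2 hi hg h2 =>
    h.le_of_not_pure hs a1 a2 hi (e s p a hs hp hsp.symm hk) hp hk hg h2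
  have h3 : ∀ (s s' : ℕ) (a b : G), s.Prime → s'.Prime → s ≠ p → s' ≠ p → s ≠ s' → PE s a →
      PE s' b → a ∉ center G → b ∉ center G → b ∈ C a → C a = C b :=
    fun s s' a b hs hs' e1 e2 e3 a1 b1 a2 b2 hb => by
      by_cases ha : ind a = ind x
      · by_cases hb' : ind b = ind x
        · exact h.eq_of_min hb' (h.min_le ha hb (a1.coprime' b1 hs hs' e3))
        · exact (h.eq_of_min ha (h2 s' b a hs' e2 b1 b2 hb' (mem_cent_comm hb)
            (a1.not_dvd hp hs e1.symm))).symm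
      · exact h.eq_of_max ha b2 (h2 s a b hs e1 a1 a2 ha hb (b1.not_dvd hp hs' e2.symm))
  obtain ⟨u, -, u1, u2⟩ := id nr
  obtain ⟨w, hw, w1, w2⟩ := h.nc ht nt u2
  have h4 := h3 r t u w hr ht hrp htp htr.symm u1 w1 u2 w2 hw
  have h5 : ∀ s : ℕ, s.Prime → s ≠ p → NC s (⊤ : Subgroup G) → s ∣ (C u).relIndex ⊤ :=
    fun s hs hsp ns => by
      rw [relIndex_top_right]
      have h6 := h.dvd_ind hs ns
      rcases h.all u u2 with e | e
      · exact h6.trans e.symm.dvd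
      · rw [← Nat.mul_div_cancel' h.dvd] at h6
        exact (((Nat.Prime.dvd_mul hs).1 h6).resolve_right fun e => hsp (h1 s hs e)).trans
          e.symm.dvd
  refine false_of_component (H := ⊤) (K := C u) le_top hr ht htr.symm (fun b hb b2 b1 => ?_)
    ⟨u, self_mem_cent u, u1, u2⟩ ⟨w, hw, w1, w2⟩ (h5 r hr hrp nr) (h5 t ht htp nt)
  rw [inf_top_eq]
  rcases b1 with b1 | b1
  · exact (h4.trans (h3 t r w b ht hr htp hrp htr w1 b1 w2 b2 (h4.le hb))).symm
  · exact (h3 r t u b hr ht hrp htp htr.symm u1 b1 u2 b2 hb).symm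

theorem false : False := by
  obtain ⟨q, r, a, hq, hr, hrq, hrk, ha⟩ := h.exists_pure
  obtain ⟨s, hs, hsq, hsr, ns⟩ := h.third hq hr
  have nr := h.nc_of_dvd hr hrk
  have hsk : ¬ s ∣ ind x / ind y := fun e => hsr (h.eq_of_pure hq ha hs hr hsq hrq e hrk)
  obtain ⟨u, hu, u1, u2⟩ := h.nc hs ns ha.nc
  have hc := cent_mul hu (ha.pe.coprime' u1 hq hs hsq.symm)
  have hi := h.ind_mul hq ha hs hsq hu u1 u2
  obtain ⟨A, hA⟩ : ∃ A, A = C (a * u) := ⟨_, rfl⟩
  rw [← hA] at hc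
  have haA : a ∈ A := hc.ge ⟨self_mem_cent a, mem_cent_comm hu⟩
  have huA : u ∈ A := hc.ge ⟨hu, self_mem_cent u⟩
  have nA : ∀ p : ℕ, p.Prime → NC p (⊤ : Subgroup G) → NC p A := fun p hp np =>
    hA ▸ h.nc hp np (h.not_central hi)
  obtain ⟨w, hw, w1, w2⟩ := nA r hr nr
  have h1 : ∀ b ∈ A, PE s b ∨ PE r b → b ∉ center G → A = C a ⊓ C b := fun b hb b1 b2 =>
    hc.trans (h.inf_eq' hq ha hs hr hsq hrq hsr nr hu u1 u2 (hc.le hb) b1 b2)
  have hmin : ∀ c : G, A ≤ C c → ind c = ind x → A = C c := fun c e e' =>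
    hA.trans (h.eq_of_min e' (hA.ge.trans e))
  have hcomm : ∀ b ∈ A, A ≤ C b := fun b hb g hg => mem_cent_comm
    (mem_of_forall_primePow_mem b fun i t l ht _ hl => mem_cent_comm (by
      have h2 := pow_mem hb i
      have h3 := PE.of_orderOf hl
      by_cases z : b ^ i ∈ center G
      · exact mem_cent_iff.2 (mem_center_iff.1 z g)
      by_cases e1 : t = s
      · exact ((h1 _ h2 (.inl (e1 ▸ h3)) z).le hg).2
      by_cases e2 : t = r
      · exact ((h1 _ h2 (.inr (e2 ▸ h3)) z).le hg).2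
      have h4 : w ∈ C u := (hc.le hw).2
      have h5 := cent_mul h4 (u1.coprime' w1 hs hr hsr)
      have h6 : A ≤ C (u * w) := h5.ge.trans' (le_inf (hc.trans_le inf_le_right)
        ((h1 w hw (.inr w1) w2).trans_le inf_le_right))
      by_cases e3 : ind (u * w) = ind x
      · exact h.min_le e3 (h6 h2) (coprime_mul h4 (u1.coprime' h3 hs ht (Ne.symm e1))
          (w1.coprime' h3 hr ht (Ne.symm e2))) (h6 hg)
      · have h7 := h.eq_of_max e3 u2 (h5.trans_le inf_le_left)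
        have h8 := h.eq_of_max e3 w2 (h5.trans_le inf_le_right)
        exact h.mixed hs hr hsr u1 u2 h7.symm w1 w2 h8.symm ((congrArg index h7).symm.trans_ne e3)
          hr hrk (h6 h2) (h3.not_dvd hr ht (Ne.symm e2)) (h6 hg)))
  have hCA : centralizer (A : Set G) = A := le_antisymm
    (fun g hg => hA.ge (mem_cent_iff.2 (hg _ (mul_mem haA huA)).symm))
    fun g hg b hb => mem_cent_iff.1 (hcomm g hg hb)
  have F1 : ∀ (p p' : ℕ) (b b' : G), p.Prime → p'.Prime → p ≠ p' → b ∈ A → b' ∈ A → PE p b →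
      PE p' b' → b ∉ center G → b' ∉ center G → C b ⊓ C b' = A := by
    intro p p' b b' hp hp' hne hb hb' b1 b1' b2 b2'
    have h2 := cent_mul (hcomm b hb hb') (b1.coprime' b1' hp hp' hne)
    have h3 : A ≤ C (b * b') := h2.ge.trans' (le_inf (hcomm b hb) (hcomm b' hb'))
    refine h2.symm.trans (hmin _ h3 (by_contra fun e => ?_)).symm
    have h7 := h.eq_of_max e b2 (h2.trans_le inf_le_left)
    have h8 := h.eq_of_max e b2' (h2.trans_le inf_le_right)
    have h9 := h.eq_of_max e ha.nc (h.mixed hp hp' hne b1 b2 h7.symm b1' b2' h8.symm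
      ((congrArg index h7).symm.trans_ne e) hr hrk (h3 haA) (ha.pe.not_dvd hr hq hrq))
    by_cases e' : p = q
    · exact b2' (ha.pure p' b' hp' (e' ▸ hne.symm) b1' (h9.symm.trans h8).le)
    · exact b2 (ha.pure p b hp e' b1 (h9.symm.trans h7).le)
  have F2 : ∀ b ∈ A, b ∉ center G → A.relIndex (C b) ∣ ind x / ind y := fun b hb b2 => by
    by_cases e : ind b = ind x
    · rw [← hmin b (hcomm b hb) e, relIndex_self]; exact one_dvd _
    · rw [← h.relIndex_eq b2 e hi (hA.ge.trans (hcomm b hb)), hA]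
  have F3 : ∀ (p : ℕ) (b g : G), p.Prime → b ∈ A → PE p b → b ∉ center G → g ∈ C b → g ∉ A →
      Pure x p b := fun p b g hp hb b1 b2 hg hgA =>
    ⟨b1, b2, fun e => hgA ((hmin b (hcomm b hb) e).ge hg), fun t v ht htp v1 hle => by
      by_contra v2
      exact hgA ((F1 p t b v hp ht htp.symm hb (hCA.le fun c hc => mem_cent_iff.1
        (hle (hcomm b hb hc))) b1 v1 b2 v2).le ⟨hg, hle hg⟩)⟩
  have : IsMulCommutative A := ⟨⟨fun a b => Subtype.ext (mem_cent_iff.1 (hcomm b b.2 a.2))⟩⟩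
  let _ : CommGroup A := { mul_comm := IsMulCommutative.is_comm.comm }
  let M := normalizer (A : Set G)
  have ne1 : ∀ g : M, (⟨_, g, rfl⟩ : (H8.conjHom A M le_rfl).range) = 1 ↔ (g : G) ∈ A :=
    fun g => by rw [conj_eq_one_iff, hCA]
  have sig : ∀ p p' : ℕ, p.Prime → p'.Prime → p ≠ p' → NC p (⊤ : Subgroup G) →
      NC p' (⊤ : Subgroup G) → ¬ p ∣ ind x / ind y → p' ≠ r →
      ∃ σ : (H8.conjHom A M le_rfl).range, σ ≠ 1 ∧ PE p σ := by
    intro p p' hp hp' hne np np' hpk hp'r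
    have := Fact.mk hp'
    have := Fact.mk hp
    have hpr : r ≠ p := fun e => hpk (e ▸ hrk)
    obtain ⟨T, hT⟩ := H98.exists_isSyl p A
    obtain ⟨T', hT'⟩ := H98.exists_isSyl p' A
    obtain ⟨b, hb, b1, b2⟩ := nA p hp np
    obtain ⟨b', hb', b1', b2'⟩ := nA p' hp' np'
    have hbT := mem_syl_of_central hT hb b1 (hcomm b hb)
    have hbT' := mem_syl_of_central hT' hb' b1' (hcomm b' hb')
    obtain ⟨g, -, g2, g3, g4⟩ := exists_pe_normalizer hp hT le_top
      (by rw [relIndex_top_right, hA]; exact (h.dvd_ind hp np).trans hi.symm.dvd)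
    have hAL : A ≤ centralizer (T : Set G) := hCA.ge.trans (centralizer_le hT.le)
    have hL : centralizer (T : Set G) ≤ C b := fun c hc => mem_cent_iff.2 (hc b hbT).symm
    have h2 : A.relIndex (centralizer (T : Set G)) ∣ ind x / ind y :=
      (Dvd.intro _ (relIndex_mul_relIndex _ _ _ hAL hL)).trans (F2 b hb b2)
    have h3 : H98.IsSyl p' T' (centralizer (T : Set G)) := by
      refine H98.isSyl_of_not_dvd_relIndex (hT'.le.trans hAL) hT'.isPGroup fun e => ?_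
      rw [← relIndex_mul_relIndex _ _ _ hT'.le hAL] at e
      have h3 := ((Nat.Prime.dvd_mul hp').1 e).resolve_left hT'.not_dvd_relIndex
      obtain ⟨c, c1, c2⟩ := SetLike.not_le_iff_exists.1 fun e : centralizer (T : Set G) ≤ A =>
        hp'.one_lt.ne' (Nat.dvd_one.1 (relIndex_eq_one.2 e ▸ h3))
      exact hp'r (h.eq_of_pure hp (F3 p b c hp hb b1 b2 (hL c1) c2) hp' hr hne.symm hpr
        (h3.trans h2) hrk)
    obtain ⟨c, c1, l, l1, e⟩ := h3.frattini_mem (H13.normalizer_le_normalizer_centralizer _ g2)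
    have l2 := centralizer_le_normalizer _ l1
    have c2 : c ∈ normalizer (T : Set G) := by
      rw [eq_mul_inv_of_mul_eq e.symm]; exact mul_mem g2 (inv_mem l2)
    have c3 : c ∈ M := H98.cj_eq_self_iff.1 (by
      conv_lhs => rw [← F1 p p' b b' hp hp' hne hb hb' b1 b1' b2 b2', H98.cj_inf, ← cent_conj,
        ← cent_conj]
      exact F1 p p' _ _ hp hp' hne (hT.le ((mem_normalizer_iff.1 c2 b).1 hbT))
        (hT'.le ((mem_normalizer_iff.1 c1 b').1 hbT')) (b1.conj c) (b1'.conj c)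
        (conj_not_central b2 c) (conj_not_central b2' c))
    refine exists_pe_of_dvd (a := ⟨_, ⟨c, c3⟩, rfl⟩) hp (by_contra fun hd => g3 ?_)
    let ψ := H8.conjHom T (normalizer (T : Set G)) le_rfl
    have h4 : ∀ z : normalizer (T : Set G), ψ z = 1 ↔ (z : G) ∈ centralizer (T : Set G) :=
      fun z => by rw [← MonoidHom.mem_ker, H8.ker_conjHom, mem_subgroupOf]
    have h5 : ψ ⟨g, g2⟩ = ψ ⟨c, c2⟩ := by
      rw [show (⟨g, g2⟩ : normalizer (T : Set G)) = ⟨c, c2⟩ * ⟨l, l2⟩ from Subtype.ext e, map_mul,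
        (h4 ⟨l, l2⟩).2 l1, mul_one]
    have h6 := (h4 ⟨g, g2⟩).1 (((pe_coe.1 g4 : PE p (⟨g, g2⟩ : normalizer (T : Set G))).map ψ).eq_one
      hp hd (by
        rw [h5, ← map_pow, h4]
        refine hAL ((ne1 (⟨c, c3⟩ ^ _)).1 (Subtype.ext ?_))
        exact (map_pow _ _ _).trans (congrArg Subtype.val (pow_orderOf_eq_one
          (⟨_, ⟨c, c3⟩, rfl⟩ : (H8.conjHom A M le_rfl).range)))))
    have h7 : H98.IsSyl p T (centralizer (T : Set G)) :=
      H98.isSyl_of_not_dvd_relIndex (hT.le.trans hAL) hT.isPGroup fun e => by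
        rw [← relIndex_mul_relIndex _ _ _ hT.le hAL] at e
        exact ((Nat.Prime.dvd_mul hp).1 e).elim hT.not_dvd_relIndex fun e => hpk (e.trans h2)
    exact hT.le (h7.le_of_le_normalizer' g4.isPGroup (zpowers_le.2 h6) (zpowers_le.2 g2)
      (mem_zpowers g))
  obtain ⟨T, hT⟩ := H98.exists_isSyl r A
  obtain ⟨g, g1, g2, g3, g4⟩ := exists_pe_normalizer hr hT (hcomm a haA)
    (by rw [hA, h.relIndex_eq ha.nc ha.big hi (hA.ge.trans (hcomm a haA))]; exact hrk)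
  have g5 : g ∈ M := H98.cj_eq_self_iff.1 (by
    conv_lhs => rw [h1 w hw (.inr w1) w2, H98.cj_inf, ← cent_conj, ← cent_conj, mem_cent_iff.1 g1,
      mul_inv_cancel_right]
    exact (h1 _ (hT.le ((mem_normalizer_iff.1 g2 w).1 (mem_syl_of_central hT hw w1 (hcomm w hw))))
      (.inr (w1.conj g)) (conj_not_central w2 g)).symm)
  have nq : NC q (⊤ : Subgroup G) := ⟨a, mem_top a, ha.pe, ha.nc⟩
  have ex : ∀ p : ℕ, NC p A → ∃ b : A, PE p b ∧ b ∉ (center G).subgroupOf A :=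
    fun p ⟨b, hb, b1, b2⟩ => ⟨⟨b, hb⟩, pe_coe.1 b1, b2⟩
  refine false_of_three (k := ind x / ind y) (conj_center (M := M) le_rfl) hq hr hs hrq.symm
    hsq.symm hsr.symm (ex q (nA q hq nq)) (ex r (nA r hr nr)) (ex s (nA s hs ns)) ?_ ?_ ?_ hrk hsk
    (ρ := ⟨_, ⟨g, g5⟩, rfl⟩) (mt (ne1 _).1 g3)
    ((pe_coe.1 g4 : PE r (⟨g, g5⟩ : M)).map (MonoidHom.rangeRestrict _))
    ((fix_iff _ _ q).2 ⟨a, haA, ha.pe, ha.nc, g1⟩) (sig s q hs hq hsq ns nq hsk hrq.symm)
    fun e => sig q s hq hs hsq.symm nq ns e hsr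
  · rintro ⟨_, c, rfl⟩ p p' c1 hp hp' e e'
    obtain ⟨b, hb, b1, b2, b3⟩ := (fix_iff _ _ _).1 e
    obtain ⟨b', hb', b1', b2', b3'⟩ := (fix_iff _ _ _).1 e'
    by_contra hne
    exact c1 ((ne1 c).2 ((F1 p p' b b' hp hp' hne hb hb' b1 b1' b2 b2').le ⟨b3, b3'⟩))
  · rintro ⟨_, c, rfl⟩ p e
    obtain ⟨b, hb, -, b2, b3⟩ := (fix_iff _ _ _).1 e
    have h2 : A ≤ C b ⊓ M := le_inf (hcomm b hb) le_normalizer
    have := normal_subgroupOf_of_le_normalizer (H := C b ⊓ M) (N := A) inf_le_right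
    have h3 : (c : G) ^ A.relIndex (C b ⊓ M) ∈ A :=
      pow_index_mem (A.subgroupOf (C b ⊓ M)) ⟨c, b3, c.2⟩
    refine (orderOf_dvd_of_pow_eq_one ?_).trans
      ((Dvd.intro _ (relIndex_mul_relIndex _ _ _ h2 inf_le_left)).trans (F2 b hb b2))
    exact Subtype.ext ((map_pow _ _ _).symm.trans (congrArg Subtype.val ((ne1 (c ^ _)).2 h3)))
  · rintro ⟨_, c, rfl⟩ p u v c1 hp e hu hv e1 e2 e3 e4
    obtain ⟨b, hb, b1, b2, b3⟩ := (fix_iff _ _ _).1 e
    exact h.eq_of_pure hp (F3 p b c hp hb b1 b2 b3 (mt (ne1 c).2 c1)) hu hv e1 e2 e3 e4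

end NF2

end H5.CS
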