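import Cfsg.Agent.Base
import Cfsg.Agent.H5.Part2
import Cfsg.Agent.H97.SymFour
import Cfsg.Agent.H3.AutP

/-! Groups with a partition: the Fitting subgroup is not contained in a component. -/

set_option autoImplicit false

open Cfsg hiding pRank
open H46 Subgroup

universe u

namespace H5

variable {G : Type u} [Group G] [Finite G]

omit [Finite G] in
theorem dvd_orderOf_of_mem {p : ℕ} (hp : p.Prime) {H : Subgroup G} (hH : IsPGroup p H) {x : G}
    (hx : x ∈ H) (h1 : x ≠ 1) : p ∣ orderOf x := by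
  have := Fact.mk hp
  rw [← orderOf_mk x hx]
  exact hH.dvd_orderOf fun e => h1 (congrArg Subtype.val e)

theorem equiv_perm_four_of_four (V : Subgroup G) [V.Normal] (hV : Nat.card V = 4)
    (h2 : ∀ v ∈ V, v ^ 2 = 1) (hC : Cent V = V) (he : 2 ∣ V.index) (hG : ¬ IsPGroup 2 G) :
    Nonempty (G ≃* Equiv.Perm (Fin 4)) := by
  have := Fact.mk Nat.prime_two
  have h1 : V.index ∣ Nat.card (MulAut V) := by
    have h3 : (MulAut.conjNormal : G →* MulAut V).ker = V := by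
      refine Eq.trans ?_ hC
      ext g
      rw [mem_cent, MonoidHom.mem_ker, MulEquiv.ext_iff]
      exact ⟨fun h v hv => (mul_inv_eq_iff_eq_mul.1 (congrArg Subtype.val (h ⟨v, hv⟩))).symm,
        fun h v => Subtype.ext (mul_inv_eq_iff_eq_mul.2 (h v v.2).symm)⟩
    rw [← congrArg index h3, index_ker]
    exact card_subgroup_dvd_card _
  rw [H3.card_mulAut_of_elementary (p := 2) (r := 2) (comm_iff_le_cent.2 hC.ge).is_comm.comm
    (fun v => Subtype.ext (h2 v v.2)) hV] at h1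
  have h4 := V.card_mul_index
  rw [hV] at h4
  refine H97.equiv_perm_four V ?_ hV hC.le
  have h5 : V.index ≠ 2 := fun e => hG (IsPGroup.of_card (n := 3) (by rw [← h4, e]; rfl))
  have h6 := Nat.le_of_dvd (by decide) h1
  simp only [Finset.prod_range_succ, Finset.prod_range_zero] at h1 h6
  rw [← h4]
  generalize V.index = m at *
  interval_cases m <;> omega

namespace Part
variable {P : Part G} {x y c k : G} {p : ℕ}

theorem commute_of_mem_nrm (h : P.Good) {F : Subgroup G} [F.Normal] (hp : p.Prime)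
    (hF : IsPGroup p F) (hc : c ∈ F) (hn : c ∈ Nrm (P.K x)) (hy : y ∈ P.K x)
    (hyp : ¬ p ∣ orderOf y) : Commute c y := by
  have h1 : y ∈ Op' p (P.K x) := mem_piCoreOf_of_hall (nil_piCoreOf_hall _ (h.nil x))
    ((pnat_compl_singleton hp).2 hyp) hy
  have h2 : c * y * c⁻¹ * y⁻¹ ∈ F ⊓ Op' p (P.K x) := ⟨by
    rw [mul_assoc, mul_assoc, ← mul_assoc y]
    exact F.mul_mem hc (Normal.conj_mem inferInstance _ (F.inv_mem hc) y),
    Subgroup.mul_mem _ (conj_mem_of_mem_nrm (nrm_le_nrm_piCoreOf _ _ hn) h1) (Subgroup.inv_mem _ h1)⟩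
  rwa [(isPi_of_isPGroup' (π := {p}) hp hF rfl).inf_eq_bot (isPi_piCoreOf _ _), mem_bot, mul_inv_eq_one,
    mul_inv_eq_iff_eq_mul] at h2

theorem eq_one_of_commute (h : P.Good) {F : Subgroup G} [F.Normal] (hp : p.Prime)
    (hF : IsPGroup p F) (hK : ∀ x, ¬ F ≤ P.K x) (hk : k ∈ F) (hc : Commute k y) {r : ℕ}
    (hr : r.Prime) (hrp : r ≠ p) (hd : r ∣ orderOf y) : k = 1 := by
  by_contra hk1
  obtain ⟨w, hw, hwr⟩ := cauchy hr (card_zpowers' y ▸ hd)
  have hw1 : w ≠ 1 := fun e => hr.ne_one (by rw [← hwr, e, orderOf_one])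
  have hwp : ¬ p ∣ orderOf w := fun e => hrp ((Nat.prime_dvd_prime_iff_eq hp hr).1 (hwr ▸ e)).symm
  have h1 : w ∈ P.K k := by_contra fun e => by
    obtain ⟨j, rfl⟩ := mem_zpowers_iff.1 hw
    exact hwp (P.orderOf_eq e hk1 (hc.zpow_right j) ▸ dvd_orderOf_of_mem hp hF hk hk1)
  obtain ⟨f, hf, hf'⟩ := SetLike.exists_of_lt (nil_lt_inf_nrm (nil_of_isPGroup hp hF)
    (inf_lt_left.2 (hK k)))
  have h2 : f ∉ P.K w := fun e => hf' ⟨hf.1, P.eq hw1 h1 ▸ e⟩
  have h3 := commute_of_mem_nrm h hp hF hf.1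
    (P.nrm_le (ne_bot_of_mem (H := F ⊓ P.K k) ⟨hk, P.mem k⟩ hk1) inf_le_right hf.2) h1 hwp
  exact hwp (P.orderOf_eq h2 hw1 h3.symm ▸
    dvd_orderOf_of_mem hp hF hf.1 fun e => h2 (e ▸ one_mem _))

theorem noMix (h : P.Good) {F : Subgroup G} [F.Normal] (hp : p.Prime)
    (hF : IsPGroup p F) (hK : ∀ x, ¬ F ≤ P.K x) : NoMix p G := by
  intro z hz r hr hd
  by_contra hrp
  have := Fact.mk hp
  obtain ⟨u, hu, hup⟩ := cauchy hp (card_zpowers' z ▸ hz)
  obtain ⟨w, hw, hwr⟩ := cauchy hr (card_zpowers' z ▸ hd)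
  have h5 : IsPGroup p ↥(F ⊔ zpowers u) := IsPGroup.to_sup_of_normal_left hF
    (IsPGroup.of_card ((card_zpowers' u).trans (hup.trans (pow_one p).symm)))
  obtain ⟨c, hc, hc1⟩ := exists_ne_one_of_ne_bot (nil_meet_cent h5.isNilpotent
    (le_normalizer_of_normal (H := F)) (by
      rw [inf_of_le_left le_sup_left]; exact fun e => hK 1 (e ▸ bot_le)))
  refine hc1 (eq_one_of_commute h hp hF hK hc.1.1 (commute_of_mem_nrm h hp hF hc.1.1
    (P.mem_nrm_of_commute (fun e => hp.ne_one (by rw [← hup, e, orderOf_one]))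
      (zpowers_le.2 (P.mem z) hu) (mem_cent.1 hc.2 u (mem_sup_right (mem_zpowers u))).symm)
    (zpowers_le.2 (P.mem z) hw) fun e => ?_) hr hrp hwr.symm.dvd)
  exact hrp ((Nat.prime_dvd_prime_iff_eq hp hr).1 (hwr ▸ e)).symm

theorem equiv_perm_four (h : P.Good) (hK : ∀ x, ¬ fittingSubgroup G ≤ P.K x) :
    Nonempty (G ≃* Equiv.Perm (Fin 4)) := by
  set F := fittingSubgroup G
  set V := Zc F with hVF
  have hFV : F ≤ Cent V := le_cent_symm inf_le_right
  have hcomm : ∀ v ∈ V, ∀ f ∈ F, Commute v f := fun v hv f hf => (mem_cent.1 hv.2 f hf).symm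
  obtain ⟨z₀, hz₀, hz₁⟩ := exists_ne_one_of_ne_bot
    (zc_ne_bot_of_nil (N := F) inferInstance fun e => hK 1 (e ▸ bot_le))
  obtain ⟨y₀, hy₀, hy₁⟩ := SetLike.not_le_iff_exists.1 (hK z₀)
  have hp := P.prime_orderOf hy₁ hz₁ (hcomm _ hz₀ _ hy₀)
  have hV : ∀ v ∈ V, v ≠ 1 → orderOf v = orderOf z₀ := fun v hv hv1 => by
    by_cases e : v ∈ P.K z₀
    · rw [← P.orderOf_eq (P.eq hv1 e ▸ hy₁) hv1 (hcomm _ hv _ hy₀),
        P.orderOf_eq hy₁ hz₁ (hcomm _ hz₀ _ hy₀)]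
    · exact P.orderOf_eq e hz₁ (hcomm _ hz₀ _ hv.1)
  generalize orderOf z₀ = p at hp hV
  have := Fact.mk hp
  have hVp : ∀ v ∈ V, v ^ p = 1 := fun v hv => by
    by_cases e : v = 1
    · rw [e, one_pow]
    · rw [← hV v hv e, pow_orderOf_eq_one]
  have hF : IsPGroup p F := isPGroup_of_forall_prime fun y hy hr => by
    obtain ⟨U, -, h1, h2, h3, h4⟩ := exists_elemAb_le_fitting hr (H46.orderOf_dvd_card hy)
    obtain ⟨v, hv, hv1⟩ := exists_ne_one_of_ne_bot h1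
    have := Fact.mk hr
    rw [← hV v ⟨h2 hv, le_cent_symm h4 hv⟩ hv1, orderOf_eq_prime (h3.2 v hv) hv1]
  have fpf := fun k y => eq_one_of_commute (k := k) (y := y) h hp hF hK
  have hG : ¬ IsPGroup p G := fun e => by
    obtain ⟨g, hg, hg'⟩ := h.nh p hp z₀
    exact hg' (P.pow_eq_one_of_commute hg hz₁
      (hcomm _ hz₀ _ (H2.le_fitting_of_isPGroup (e.to_subgroup ⊤) (mem_top g))) (hVp _ hz₀))
  have fpf' : ∀ y : G, (y : G ⧸ F) ≠ 1 → ¬ p ∣ orderOf (y : G ⧸ F) → ∀ k ∈ F, Commute k y → k = 1 :=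
    fun y hy hyp k hk hc =>
      let ⟨_, hr, hd⟩ := Nat.exists_prime_and_dvd (orderOf_eq_one_iff.not.2 hy)
      fpf k y hk hc hr (fun e => hyp (e ▸ hd)) (hd.trans (orderOf_map_dvd (QuotientGroup.mk' F) y))
  have hpF : p ∣ F.index := by
    by_contra e
    obtain ⟨H, hH⟩ := exists_frob_of_fpf F (fun e => hK 1 (e ▸ bot_le))
      (fun e => hG ((e ▸ hF).of_equiv topEquiv)) fun y hy => fpf' y
        (fun e => hy ((QuotientGroup.eq_one_iff y).1 e)) fun h =>
          e (h.trans (_root_.orderOf_dvd_natCard _))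
    exact h.nf H hH
  obtain ⟨a, ha⟩ := exists_prime_orderOf_dvd_card' (G := G ⧸ F) p hpF
  have hsurj := QuotientGroup.mk'_surjective F
  have h5 : IsPGroup p ((zpowers a).comap (QuotientGroup.mk' F)) :=
    (IsPGroup.of_card ((card_zpowers' a).trans (ha.trans (pow_one p).symm))).comap_of_ker_isPGroup
      _ (by rwa [QuotientGroup.ker_mk'])
  obtain ⟨z, hz, hz1⟩ := exists_ne_one_of_ne_bot (nil_meet_cent h5.isNilpotent
    (le_normalizer_of_normal (H := V)) (ne_bot_of_mem ⟨hz₀, show (z₀ : G ⧸ F) ∈ zpowers a from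
      (QuotientGroup.eq_one_iff z₀).2 hz₀.1 ▸ one_mem _⟩ hz₁))
  obtain ⟨x, rfl, hx⟩ : ∃ x : G, (x : G ⧸ F) = a ∧ x ∉ P.K z := by
    obtain ⟨x, rfl⟩ := QuotientGroup.mk_surjective a
    obtain ⟨f, hf, hf'⟩ := SetLike.not_le_iff_exists.1 (hK z)
    by_cases e : x ∈ P.K z
    · exact ⟨f * x, by rw [QuotientGroup.mk_mul, (QuotientGroup.eq_one_iff f).2 hf, one_mul],
        fun e' => hf' ((mul_mem_cancel_right e).1 e')⟩
    · exact ⟨x, rfl, e⟩
  have hzx : Commute z x := (mem_cent.1 hz.2 x (mem_zpowers _)).symm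
  have hzV := hz.1.1
  have hxp := P.pow_eq_one_of_commute hx hz1 hzx (hVp z hzV)
  let _ : CommGroup V := { (inferInstance : Group V) with mul_comm := (comm_zc F).is_comm.comm }
  let φ := quotAct V F hFV
  let N : V → V := fun v => ∏ i ∈ Finset.range p, φ ((x : G ⧸ F) ^ i) v
  have hN : ∀ v : V, N v ≠ 1 → (v : G) * x ∈ P.K z := fun v hv => by_contra fun e =>
    hv (norm_eq_one (comm_zc F) hxp v (P.pow_eq_one_of_commute e hz1
      ((hcomm _ hzV _ v.2.1).mul_right hzx) (hVp z hzV)) _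
        fun i => by rw [← QuotientGroup.mk_pow]; rfl)
  obtain ⟨v₀, hv₀⟩ : ∃ v, N v ≠ 1 := by
    by_contra e
    push Not at e
    have : Nontrivial V := (nontrivial_iff_ne_bot V).2 (ne_bot_of_mem hzV hz1)
    obtain ⟨M, hM, hM1, hMp⟩ := exists_normal_isPGroup hp (fun v => Subtype.ext (hVp v v.2)) φ
      ((noMix h hp hF hK).of_surjective _ hsurj) (fun y hy hyp v hv => by
        obtain ⟨y, rfl⟩ := QuotientGroup.mk_surjective y
        exact Subtype.ext (fpf' y hy hyp v v.2.1 (mul_inv_eq_iff_eq_mul.1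
          (show y * v * y⁻¹ = v from congrArg Subtype.val hv)).symm)) ha e
    refine hM1 ?_
    rw [← map_comap_eq_self_of_surjective hsurj M, Subgroup.map_eq_bot_iff, QuotientGroup.ker_mk']
    exact H2.le_fitting_of_isPGroup (hMp.comap_of_ker_isPGroup _ (by rwa [QuotientGroup.ker_mk']))
  have h6 : ∀ v : V, N v ≠ 1 → (v : G) * (v₀ : G)⁻¹ ∈ P.K z := fun v hv => by
    simpa [mul_assoc] using mul_mem (hN v hv) (inv_mem (hN v₀ hv₀))
  have h7 : ∀ v ∈ V, v ∉ P.K z → v * (v₀ : G)⁻¹ ∈ P.K z := fun v hv hv' => h6 ⟨v, hv⟩ fun e =>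
    hv' (by simpa using h6 (⟨v, hv⟩ * v₀) (by
      simp only [N, map_mul, Finset.prod_mul_distrib] at e hv₀ ⊢; rwa [e, one_mul]))
  have h8 : (v₀ : G)⁻¹ ∉ P.K z := fun e => hx ((mul_mem_cancel_left (inv_mem_iff.1 e)).1 (hN _ hv₀))
  set W := V ⊓ P.K z
  have h9 : Nat.card W * 2 = Nat.card V := by
    rw [← card_inf_mul_relIndex (P.K z) V, inf_comm, relIndex_eq_two_iff.2 ⟨_, inv_mem v₀.2,
      fun b hb => ?_⟩]
    by_cases e : b ∈ P.K z
    · exact Or.inr ⟨e, fun e' => h8 ((mul_mem_cancel_left e).1 e')⟩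
    · exact Or.inl ⟨h7 b hb e, e⟩
  obtain rfl : 2 = p := by
    obtain ⟨j, hj⟩ := IsPGroup.iff_card.1 (hF.to_le (inf_le_left : V ≤ F))
    exact (Nat.prime_dvd_prime_iff_eq Nat.prime_two hp).1
      (Nat.prime_two.dvd_of_dvd_pow (hj ▸ h9 ▸ dvd_mul_left _ _))
  obtain ⟨y, hy, hy2⟩ : ∃ y : G, (orderOf y).Prime ∧ orderOf y ≠ 2 := by
    by_contra e
    push Not at e
    exact hG ((isPGroup_of_forall_prime (M := ⊤) fun y _ => e y).of_equiv topEquiv)
  have hyD : y ∉ Nrm (P.K z) := fun e => by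
    have h1 : Semiregular V (zpowers y) := semiregular_of_prime (card_zpowers' y ▸ hy)
      (eq_bot_iff.2 fun v hv => fpf v y hv.1.1 (mem_cent1.1 (cent_zpowers y ▸ hv.2)) hy hy2 dvd_rfl)
    have h2 := h1.dvd_pred le_normalizer_of_normal
    have h3 := (h1.mono (inf_le_left : W ≤ V) le_rfl).dvd_pred
      (nrm_inf le_normalizer_of_normal (zpowers_le.2 e))
    have h4 := card_pos' W
    rw [card_zpowers'] at h2 h3
    have h5 := (Nat.dvd_sub h2 (h3.mul_right 2))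
    rw [show Nat.card V - 1 - (Nat.card W - 1) * 2 = 1 by omega] at h5
    exact hy.not_dvd_one h5
  have hD : ∀ f ∈ P.K z, f ∈ cj y (P.K z) → f = 1 := fun f h1 h2 => by_contra fun e =>
    hyD (inv_mem_iff.1 (P.mem_nrm e h1 (by simpa using mem_cj.1 h2)))
  have h10 : Nat.card V = 4 := by
    have h1 : cj y W ≤ V := (cj_mono y inf_le_left).trans
      (cj_of_mem_nrm (le_normalizer_of_normal (mem_top y))).le
    have h2 := card_sup_of_disjoint (h1.trans (nrm_of_comm (comm_zc F) (inf_le_left : W ≤ V)))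
      (eq_bot_iff.2 fun f hf => hD f hf.1.2 (cj_mono y inf_le_right hf.2))
    have h3 := card_dvd_of_le (sup_le (inf_le_left : W ≤ V) h1)
    rw [h2, card_cj, ← h9] at h3
    have h4 := Nat.le_of_dvd two_pos (Nat.dvd_of_mul_dvd_mul_left (card_pos' W) h3)
    have h5 := one_lt_card.2 (ne_bot_of_mem (H := W) ⟨hzV, P.mem z⟩ hz1)
    omega
  have h11 : ∀ f ∈ F, f ^ 2 = 1 := fun f hf => by
    by_cases e : f ∈ P.K z
    · by_cases e' : f ∈ cj y (P.K z)
      · rw [hD f e e', one_pow]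
      · have h1 : y * z * y⁻¹ ∈ V := Normal.conj_mem inferInstance z hzV y
        exact P.pow_eq_one_of_commute (P.conj y z ▸ e') (by simpa using hz1) (hcomm _ h1 _ hf)
          (hVp _ h1)
    · exact P.pow_eq_one_of_commute e hz1 (hcomm _ hzV _ hf) (hVp z hzV)
  have h12 : V = F := inf_eq_left.2 (comm_iff_le_cent.1 ⟨⟨Commute.of_orderOf_dvd_two fun f =>
    orderOf_dvd_of_pow_eq_one (Subtype.ext (h11 f f.2))⟩⟩)
  refine equiv_perm_four_of_four V h10 hVp (le_antisymm (le_trans (H2.le_fitting_of_isPGroup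
    (isPGroup_of_forall_prime (p := 2) fun w hw hr => by_contra fun e => hz1
      (fpf z w hzV.1 (mem_cent.1 hw z hzV) hr e dvd_rfl))) h12.ge) (h12.le.trans hFV))
    (h12 ▸ hpF) hG

end Part

end H5
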