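import Cfsg.Agent.Base
import Cfsg.Agent.H5.Part2
import Cfsg.Agent.H88.PLine

/-! Groups with a partition: recognition of `PGL(2, q)`. -/

set_option autoImplicit false

open Cfsg hiding pRank
open H46 Subgroup MulAction
open scoped MatrixGroups

universe u

namespace H5

variable {G : Type u} [Group G] [Finite G]

omit [Finite G] in
theorem sylow_semireg {p : ℕ} [Fact p.Prime] {N : Subgroup G}
    (hc : ∀ A : Sylow p G, ∀ x ∈ (A : Subgroup G), x ≠ 1 → N ⊓ Cent1 x = A) {A B : Sylow p G}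
    (hAB : B ≠ A) {x : G} (hx : x ∈ (A : Subgroup G)) (h : x • B = B) : x = 1 := by
  by_contra e
  have h1 : x ∈ (A : Subgroup G) ⊓ normalizer (B : Set G) :=
    ⟨hx, Sylow.smul_eq_iff_mem_normalizer.1 h⟩
  rw [A.isPGroup'.inf_normalizer_sylow B] at h1
  exact hAB (Sylow.ext ((hc B x h1.2 e).symm.trans (hc A x hx e)))

theorem sylow_reg {p : ℕ} [Fact p.Prime] {N : Subgroup G}
    (hc : ∀ A : Sylow p G, ∀ x ∈ (A : Subgroup G), x ≠ 1 → N ⊓ Cent1 x = A) (A : Sylow p G)
    (hΩ : Nat.card (Sylow p G) = Nat.card (A : Subgroup G) + 1) (y z : Sylow p G) (hy : y ≠ A)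
    (hz : z ≠ A) : ∃! u : (A : Subgroup G), (u : G) • y = z := by
  let f : ↥(A : Subgroup G) → {w : Sylow p G // w ≠ A} := fun u => ⟨(u : G) • y, fun e => hy
    (smul_left_cancel (u : G) (e.trans (Sylow.smul_eq_iff_mem_normalizer.2 (le_normalizer u.2)).symm))⟩
  have hinj : Function.Injective f := fun a b e => by
    have e1 : (a : G) • y = (b : G) • y := congrArg Subtype.val e
    exact Subtype.ext (inv_mul_eq_one.mp (sylow_semireg hc hy (mul_mem (inv_mem b.2) a.2)
      (by rw [mul_smul, e1, inv_smul_smul]))).symm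
  have hbij := hinj.bijective_of_nat_card_le (by
    have := Fintype.ofFinite (Sylow p G)
    classical
    rw [Nat.card_eq_fintype_card, Fintype.card_subtype_compl, Fintype.card_subtype_eq,
      ← Nat.card_eq_fintype_card, hΩ]; omega)
  obtain ⟨u, hu⟩ := hbij.2 ⟨z, hz⟩
  exact ⟨u, congrArg Subtype.val hu, fun v hv => hinj ((Subtype.ext hv).trans hu.symm)⟩

namespace Part
variable {P : Part G} {j u : G}

/-- Every involution is centralised by an element outside its component. -/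
def Star (P : Part G) : Prop := ∀ j, orderOf j = 2 → ∃ u, u ∉ P.K j ∧ Commute j u

omit [Finite G] in
theorem inv_of_commute (hj : orderOf j = 2) (hu : u ∉ P.K j) (hc : Commute j u) :
    orderOf u = 2 ∧ (∀ k ∈ P.K j, u * k * u⁻¹ = k⁻¹) ∧ ∀ a ∈ P.K j, ∀ b ∈ P.K j, Commute a b := by
  have hj1 : j ≠ 1 := fun e => by simp [e] at hj
  have h1 := (P.orderOf_eq hu hj1 hc).trans hj
  have h2 : u ^ 2 = 1 := h1 ▸ pow_orderOf_eq_one u
  have h3 : ∀ k ∈ P.K j, u * k * u⁻¹ = k⁻¹ := fun k hk => by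
    have h4 := P.mul_pow_eq_one hu (P.mem_nrm_of_commute hj1 (P.mem j) hc.symm) h2 hk
    rw [pow_two] at h2 h4
    rw [inv_eq_of_mul_eq_one_right h2, eq_inv_iff_mul_eq_one, ← mul_left_inj u, one_mul]
    calc u * k * u * k * u = u * (k * u * (k * u)) := by group
      _ = u := by rw [h4, mul_one]
  refine ⟨h1, h3, fun a ha b hb => inv_injective ?_⟩
  rw [← h3 _ (mul_mem ha hb), mul_inv_rev, ← h3 a ha, ← h3 b hb]
  group

theorem equiv_pgl (hs : P.Star) (hF : fittingSubgroup G = ⊥) {N : Subgroup G} [N.Normal]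
    (hN : N.index = 2) {p : ℕ} [hp : Fact p.Prime] (T : Sylow p G) {q : ℕ}
    (hq : Nat.card (T : Subgroup G) = q) (ho : Odd q) (h1 : 1 < q)
    (hc : ∀ x ∈ (T : Subgroup G), x ≠ 1 → N ⊓ Cent1 x = T) (hΩ : Nat.card (Sylow p G) = q + 1)
    (hG : Nat.card G = (q + 1) * (q * (q - 1))) (F : Type*) [Field F] [Fintype F]
    (hFq : Fintype.card F = q) : Nonempty (G ≃* PGL(2, F)) := by
  have hcard : ∀ A : Sylow p G, Nat.card (A : Subgroup G) = q := fun A => by
    rw [← hq, A.card_eq_multiplicity, T.card_eq_multiplicity]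
  replace hc : ∀ A : Sylow p G, ∀ x ∈ (A : Subgroup G), x ≠ 1 → N ⊓ Cent1 x = A := fun A x hx e => by
    obtain ⟨g, rfl⟩ := exists_smul_eq G T A
    change x ∈ cj g T at hx
    change _ = cj g T
    rw [← hc _ (mem_cj.1 hx) (fun e' => e (by simpa [mul_assoc] using congrArg (fun w => g * w) e')), cj_inf, cj_cent1,
      cj_of_mem_nrm (le_normalizer_of_normal (mem_top g))]
    simp [mul_assoc]
  have reg := fun A => sylow_reg hc A (by rw [hΩ, hcard])
  have odd : ∀ A : Sylow p G, ∀ x ∈ (A : Subgroup G), x ^ 2 = 1 → x = 1 := fun A x hx e =>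
    orderOf_eq_one_iff.1 (Nat.eq_one_of_dvd_coprimes ho.coprime_two_left
      (orderOf_dvd_of_pow_eq_one e) (hcard A ▸ H46.orderOf_dvd_card hx))
  have comm : ∀ A : Sylow p G, ∀ x ∈ (A : Subgroup G), ∀ y ∈ (A : Subgroup G), Commute x y :=
    fun A x hx y hy => by
      by_cases e : y = 1
      · rw [e]; exact Commute.one_right x
      · exact mem_cent1.1 ((hc A y hy e).ge hx).2
  have fix : ∀ (A : Sylow p G) {x}, x ∈ (A : Subgroup G) → x • A = A := fun A x hx =>
    Sylow.smul_eq_iff_mem_normalizer.2 (le_normalizer hx)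
  have conj : ∀ (A : Sylow p G) {g x}, g • A = A → x ∈ (A : Subgroup G) →
      g * x * g⁻¹ ∈ (A : Subgroup G) := fun A g x hg hx =>
    conj_mem_of_mem_nrm (Sylow.smul_eq_iff_mem_normalizer.1 hg) hx
  have cent : ∀ A : Sylow p G, ∀ x ∈ (A : Subgroup G), x ≠ 1 → ∀ y, Commute y x →
      y ∈ (A : Subgroup G) := by
    intro A x hx hx1 y hy
    by_contra hyA
    have hyN : y ∉ N := fun e => hyA ((hc A x hx hx1).le ⟨e, mem_cent1.2 hy⟩)
    have h2 : y ^ 2 ∈ (A : Subgroup G) :=
      (hc A x hx hx1).le ⟨hN ▸ N.pow_index_mem y, mem_cent1.2 (hy.pow_left 2)⟩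
    have h3 : y ^ q ∉ N := fun e => by
      obtain ⟨m, rfl⟩ := ho
      rw [pow_succ, pow_mul] at e
      exact hyN ((mul_mem_cancel_left (pow_mem (hN ▸ N.pow_index_mem y) m)).1 e)
    have h4 : orderOf (y ^ q) = 2 := orderOf_eq_prime (by
      rw [← pow_mul, mul_comm, pow_mul, ← hcard A]
      exact orderOf_dvd_iff_pow_eq_one.1 (H46.orderOf_dvd_card h2)) fun e => h3 (e ▸ one_mem _)
    have h5 : Commute (y ^ q) x := hy.pow_left q
    generalize y ^ q = g at h3 h4 h5
    have uniq : ∀ x ∈ (A : Subgroup G), x ≠ 1 → Commute g x → ∀ n : G, Commute (n * g * n⁻¹) x →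
        Commute n g := by
      intro x hx hx1 h5 n h6
      have h7 : ∀ w, orderOf w = 2 → Commute w x → w ∈ P.K x := fun w hw e => by_contra fun e' =>
        hx1 (odd A x hx (by rw [← hw, P.orderOf_eq e' hx1 e.symm, pow_orderOf_eq_one]))
      have h8 := (H46.orderOf_conj n g).trans h4
      obtain ⟨u, hu, hu'⟩ := hs g h4
      have h9 := (inv_of_commute h4 hu hu').2.2 _ (P.mem g) (n * g * n⁻¹)
        (P.eq (y := g) (fun e => h3 (e ▸ one_mem _)) (h7 g h4 h5) ▸ h7 _ h8 h6)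
      have h10 := odd A (g * (n * g * n⁻¹)) ((hc A x hx hx1).le
        ⟨(mul_mem_iff_of_index_two hN).2 (iff_of_false h3 fun e => h3 (by
          simpa using Normal.mem_comm inferInstance e)),
          mem_cent1.2 (h5.mul_left h6)⟩)
        (by rw [h9.mul_pow, ← h4, pow_orderOf_eq_one, h4, ← h8, pow_orderOf_eq_one, mul_one])
      have h11 : g * g = 1 := by rw [← pow_two, ← h4, pow_orderOf_eq_one]
      exact mul_inv_eq_iff_eq_mul.1 (mul_left_cancel (h10.trans h11.symm))
    have h6 : ∀ v ∈ (A : Subgroup G), Commute v g := fun v hv => uniq x hx hx1 h5 v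
      (((comm A v hv x hx).mul_left h5).mul_left (comm A _ (inv_mem hv) x hx))
    have h7 : ∀ n : G, n • A = A → Commute n g := fun n hn => uniq x hx hx1 h5 n (by
      have h8 := h6 _ (conj A (inv_smul_eq_iff.2 hn.symm) hx)
      calc n * g * n⁻¹ * x = n * (g * (n⁻¹ * x * n⁻¹⁻¹)) * n⁻¹ := by group
        _ = x * (n * g * n⁻¹) := by rw [← h8.eq]; group)
    have h8 : g • A = A := Sylow.smul_eq_iff_mem_normalizer.2
      (cent_le_nrm (A : Subgroup G) (mem_cent.2 h6))
    have := Fact.mk Nat.prime_two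
    obtain ⟨B, hB, hAB⟩ := (IsPGroup.of_card (G := zpowers g) (p := 2) (n := 1) (by
      rw [card_zpowers', h4, pow_one])).exists_fixed_point_of_prime_dvd_card_of_fixed_point
      (Sylow p G) (hΩ ▸ ho.add_one.two_dvd) (a := A)
      fun w => (zpowers_le (H := stabilizer G A)).2 h8 w.2
    have h9 : g ∈ (toPermHom G (Sylow p G)).ker := Equiv.ext fun C => by
      change g • C = C
      by_cases e : C = A
      · rw [e, h8]
      obtain ⟨v, rfl, -⟩ := reg A B C hAB.symm e
      rw [← mul_smul, ← (h6 v v.2).eq, mul_smul, show g • B = B from hB ⟨g, mem_zpowers g⟩]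
    have := comm_zc (toPermHom G (Sylow p G)).ker
    exact h3 ((hF ▸ H2.le_fitting_of_isMulCommutative (Zc (toPermHom G (Sylow p G)).ker)
      ⟨h9, mem_cent.2 fun n hn => h7 n (Equiv.ext_iff.1 hn A)⟩ : g ∈ (⊥ : Subgroup G)) ▸ one_mem _)
  have three : ∀ (g : G) (x y z : Sylow p G), x ≠ y → y ≠ z → x ≠ z → g • x = x → g • y = y →
      g • z = z → g = 1 := by
    intro g x y z hxy hyz hxz gx gy gz
    obtain ⟨v, hv, hv'⟩ := reg x y z hxy.symm hxz.symm
    have h2 := congrArg Subtype.val (hv' ⟨_, conj x gx v.2⟩ (by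
      change (g * v * g⁻¹) • y = z
      rw [mul_smul, mul_smul, inv_smul_eq_iff.2 gy.symm, hv, gz]))
    exact sylow_semireg hc hxy.symm (cent x v v.2 (fun e => hyz (by rw [← hv, e, one_smul])) g
      (mul_inv_eq_iff_eq_mul.1 h2)) gy
  obtain ⟨b, hb⟩ : ∃ b, b ≠ T := by
    have : Nontrivial (Sylow p G) := Finite.one_lt_card_iff_nontrivial.1 (by omega)
    exact exists_ne T
  have hD := H88.card_eq_of_two_trans (G := G) hb.symm fun x y hxy => by
    obtain ⟨g, rfl⟩ := exists_smul_eq G T x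
    obtain ⟨v, hv, -⟩ := reg (g • T) (g • b) y (by simpa using hb) hxy.symm
    exact ⟨v * g, by rw [mul_smul, fix _ v.2], by rw [mul_smul, hv]⟩
  rw [hG, hΩ, Nat.add_sub_cancel, Nat.mul_right_inj (by omega), Nat.mul_right_inj (by omega)] at hD
  obtain ⟨j, hj, hj2⟩ := cauchy (H := stabilizer G T ⊓ stabilizer G b) Nat.prime_two
    (hD ▸ (Nat.Odd.sub_odd ho odd_one).two_dvd)
  have hj1 : j ≠ 1 := fun e => by simp [e] at hj2
  have hinv : ∀ w ∈ stabilizer G T ⊓ stabilizer G b, orderOf w = 2 → ∀ x ∈ (T : Subgroup G),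
      w * x * w⁻¹ = x⁻¹ := fun w hw hw2 x hx => by
    rw [eq_inv_iff_mul_eq_one]
    by_contra e
    have h2 := conj T hw.1 hx
    have h3 : w * w = 1 := by rw [← pow_two, ← hw2, pow_orderOf_eq_one]
    have h4 := sylow_semireg hc hb (cent T _ (mul_mem h2 hx) e w (by
      rw [(comm T _ h2 x hx).eq]
      calc w * (x * (w * x * w⁻¹)) = w * x * w⁻¹ * (w * w * x * (w * w)⁻¹) * w := by group
        _ = x * (w * x * w⁻¹) * w := by rw [h3, ← (comm T _ h2 x hx).eq]; group)) hw.2
    simp [h4] at hw2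
  have huniq : ∀ w ∈ stabilizer G T ⊓ stabilizer G b, orderOf w = 2 → w = j := fun w hw hw2 => by
    obtain ⟨x, hx, hx1⟩ := exists_ne_one_of_ne_bot (one_lt_card.1 (hq ▸ h1))
    refine (inv_mul_eq_one.1 (sylow_semireg hc hb (cent T x hx hx1 _ ?_)
      (mul_mem (inv_mem hj) hw).2)).symm
    calc j⁻¹ * w * x = j⁻¹ * (w * x * w⁻¹) * w := by group
      _ = x * (j⁻¹ * w) := by rw [hinv w hw hw2 x hx, ← hinv j hj hj2 x hx]; group
  have hDK : stabilizer G T ⊓ stabilizer G b ≤ P.K j := fun d hd => by_contra fun e =>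
    e (huniq d hd ((P.orderOf_eq e hj1 (Commute.symm (mul_inv_eq_iff_eq_mul.1 (huniq _
      (mul_mem (mul_mem hd hj) (inv_mem hd)) ((H46.orderOf_conj d j).trans hj2))))).trans hj2) ▸
      P.mem j)
  obtain ⟨u, hu, hu'⟩ := hs j hj2
  obtain ⟨hu2, hu3, -⟩ := inv_of_commute hj2 hu hu'
  have hfix : ∀ c : Sylow p G, j • c = c → c = T ∨ c = b := fun c hc => by
    by_contra e
    push Not at e
    exact hj1 (three j T b c hb.symm e.2.symm e.1.symm hj.1 hj.2 hc)
  have huT : u • T = b := by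
    refine (hfix _ (by rw [← mul_smul, hu'.eq, mul_smul, show j • T = T from hj.1])).resolve_left
      fun e => hu (hDK ⟨e, ?_⟩)
    exact (hfix _ (by rw [← mul_smul, hu'.eq, mul_smul, show j • b = b from hj.2])).resolve_left
      fun e' => hb (smul_left_cancel u (e'.trans e.symm))
  refine H88.PLine.nonempty_equiv_pgl (a := T) (b := b) (U := T) (s := u)
    ⟨hb.symm, fun x hx => fix T hx, fun g hg x hx => conj T hg hx, comm T, reg T, three, huT, ?_,
      fun d h1 h2 => hu3 d (hDK ⟨h1, h2⟩)⟩ (by omega) F (by omega)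
  rw [← huT, ← mul_smul, ← pow_two, ← hu2, pow_orderOf_eq_one, one_smul]

end Part

end H5
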