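import Cfsg.Agent.Base
import Cfsg.Agent.H5.Part3
import Cfsg.Agent.H5.Part4
import Cfsg.Agent.H8.TransferEval
import Cfsg.Agent.H17.TICases
import Cfsg.Agent.H28.FeitZass
import Cfsg.Agent.H30.ZTIso
import Cfsg.Agent.H83.BSWPsl
import Cfsg.Agent.H29.Burnside

/-! Groups with a partition: trivial Fitting subgroup, preparations. -/

set_option autoImplicit false

open Cfsg hiding pRank
open H46 Subgroup
open scoped MatrixGroups

universe u

namespace H5

variable {G : Type u} [Group G] [Finite G]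

/-- The non-solvable groups with a partition. -/
def PartConcl (G : Type u) [Group G] : Prop :=
  (∃ (F : Type) (_ : Field F) (_ : Fintype F), 4 ≤ Fintype.card F ∧
    Nonempty (G ≃* Matrix.ProjectiveSpecialLinearGroup (Fin 2) F)) ∨
  (∃ (F : Type) (_ : Field F) (_ : Fintype F), 5 ≤ Fintype.card F ∧ Odd (Fintype.card F) ∧
    Nonempty (G ≃* (GL (Fin 2) F ⧸ Subgroup.center (GL (Fin 2) F)))) ∨
  Lie.IsoSuzuki G

theorem ti_cases (hF : fittingSubgroup G = ⊥) {S : Sylow 2 G} {H : Subgroup G}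
    (h : H31.TIData S H) :
    H = S ∧ (((∀ x ∈ (S : Subgroup G), x * x = 1) ∧ H31.L2Even G) ∨ H31.IsZT G) := by
  rcases H17.tiCases H28.feit G S H h with h1 | h1 | h1
  · obtain ⟨z, hz, hz2, -⟩ := h.central
    have := hF ▸ H2.le_fitting_of_isPGroup S.isPGroup' hz
    simp [mem_bot.1 this] at hz2
  · exact absurd ((frobKer_eq_fitting h1.1).trans hF) (frobKer_ne_bot h1.1)
  · exact ⟨h1.1, h1.2.2⟩

theorem concl_of_ti (hF : fittingSubgroup G = ⊥) {S : Sylow 2 G} {H : Subgroup G}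
    (h : H31.TIData S H) : PartConcl G := by
  rcases (ti_cases hF h).2 with ⟨-, F, _, _, n, hn, hc, e⟩ | h1
  · exact Or.inl ⟨F, _, _, hc ▸ Nat.pow_le_pow_right two_pos hn, e⟩
  · exact Or.inr (Or.inr (H30.ztIso G h1))

theorem exists_normal_inf_eq {H M : Subgroup G} (hH : Odd H.index) (hM : M.relIndex H = 2)
    (hle : M ≤ H) (h : ∀ g, ∀ x ∈ M, g * x * g⁻¹ ∈ H → g * x * g⁻¹ ∈ M) :
    ∃ N : Subgroup G, N.Normal ∧ N ⊓ H = M := by
  obtain ⟨ϕ, hϕ⟩ := H8.exists_sign_hom (M.subgroupOf H) hM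
  have h1 : ∀ x : H, MonoidHom.transfer ϕ x = ϕ x := fun x => by
    rw [H8.transfer_eq_pow_of_forall ϕ x (ϕ x) fun k a ha => ?_]
    · rcases Int.units_eq_one_or (ϕ x) with e | e <;> rw [e]
      exacts [one_pow _, hH.neg_one_pow]
    rw [← map_pow]
    by_cases e : (x : G) ^ k ∈ M
    · rw [(hϕ (x ^ k)).1.2 e, (hϕ _).1.2 (by simpa [mem_subgroupOf] using h a⁻¹ _ e (by simpa using ha))]
    · rw [(hϕ (x ^ k)).2.2 e, (hϕ _).2.2 fun e' => e (by
        simpa [mul_assoc] using h a _ e' (by simpa [mul_assoc] using pow_mem x.2 k))]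
  refine ⟨(MonoidHom.transfer ϕ).ker, inferInstance, le_antisymm (fun x hx => ?_) fun x hx => ?_⟩
  · exact (hϕ ⟨x, hx.2⟩).1.1 ((h1 ⟨x, hx.2⟩).symm.trans hx.1)
  · exact ⟨(h1 ⟨x, hle hx⟩).trans ((hϕ ⟨x, hle hx⟩).1.2 hx), hle hx⟩

/-- Passage from a subgroup of index two of type `PSL(2, q)` to `PGL(2, q)`. -/
theorem Part.concl_of_bsw {P : Part G} (hs : P.Star) (hF : fittingSubgroup G = ⊥) {N : Subgroup G}
    [N.Normal] (hN : N.index = 2) {t s : N} {K : Subgroup N} (h : H83.BSW t K s) : PartConcl G := by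
  have := Fintype.ofFinite N
  obtain ⟨q, δ, Q, D, hn, c⟩ := h.exists_concl
  obtain ⟨p, a, hp, hpq, hq⟩ := h.exists_prime_pow hn
  have h3 := h.three_le_q hn
  have ho : Odd q := H83.BSW.odd_q hn
  have := Fact.mk hp
  have hG : Nat.card G = (q + 1) * (q * (q - 1)) := by
    rw [← N.index_mul_card, hN, ← c.cardG, c.cardN, ← c.cardD, Nat.add_sub_cancel]; ring
  have hQ : Nat.card (Q.map N.subtype) = q := (card_map_subtype Q).trans c.cardQ
  have h1 : (Q.map N.subtype).index = (q + 1) * (q - 1) := by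
    have := (Q.map N.subtype).card_mul_index
    rw [hQ, hG, mul_left_comm] at this
    exact Nat.eq_of_mul_eq_mul_left (by omega) this
  let T : Sylow p G := (IsPGroup.of_card (hQ.trans hq)).toSylow (by
    rw [h1, hp.dvd_mul, Nat.dvd_add_right hpq, Nat.dvd_sub_iff_right (by omega) hpq, or_self]
    exact hp.not_dvd_one)
  have hT : (T : Subgroup G) = Q.map N.subtype := rfl
  have h2 : Nat.card (Sylow p G) = q + 1 := by
    have h4 := frattini_arg hp (normalIn_top_iff.2 ‹_›)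
      ((isSylowOf_top T).of_le (map_subtype_le Q) le_top)
    rw [top_inf_eq] at h4
    have h5 := relIndex_sup_right_of_nrm (H := Nrm (T : Subgroup G)) (K := N) le_normalizer_of_normal
    rw [h4, relIndex_top_right, relIndex, hT, subgroupOf_normalizer_eq (map_subtype_le Q),
      subgroupOf_map_subtype_self] at h5
    have h6 := (normalizer (Q : Set N)).index_mul_card
    rw [← c.cardG] at h6
    rw [T.card_eq_index_normalizer, ← Nat.eq_of_mul_eq_mul_right Nat.card_pos h6, ← h5]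
    rfl
  have ha : a ≠ 0 := by rintro rfl; rw [pow_zero] at hq; omega
  let _ : Fintype (GaloisField p a) := Fintype.ofFinite _
  have hc : Fintype.card (GaloisField p a) = q := by
    rw [← Nat.card_eq_fintype_card, GaloisField.card p a ha, hq]
  have h5 : q ≠ 3 := fun e => by
    have : Group.IsSolvable G := H29.isSolvable_of_card_dvd_pow_mul_pow (a := 3) (b := 1)
      Nat.prime_two Nat.prime_three (by rw [hG, e]; decide)
    have : Nontrivial G := Finite.one_lt_card_iff_nontrivial.1 (by rw [hG, e]; decide)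
    exact H2.fitting_ne_bot G hF
  refine Or.inr (Or.inl ⟨GaloisField p a, inferInstance, inferInstance, ?_, hc ▸ ho,
    Part.equiv_pgl hs hF hN T hQ ho (by omega) ?_ h2 hG _ hc⟩)
  · obtain ⟨m, rfl⟩ := ho
    omega
  · rintro _ ⟨x, hx, rfl⟩ hx1
    rw [hT, ← c.cent x hx fun e => hx1 (congrArg Subtype.val e)]
    ext y
    constructor
    · exact fun hy => ⟨⟨y, hy.1⟩, mem_cent1.2 (Subtype.ext (mem_cent1.1 hy.2)), rfl⟩
    · rintro ⟨y, hy, rfl⟩
      exact ⟨y.2, mem_cent1.2 (congrArg Subtype.val (mem_cent1.1 hy))⟩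

namespace Part
variable {P : Part G} {j z t a b k : G}

omit [Finite G] in
theorem mul_mem_of_not_mem (hj : orderOf j = 2) (hk : k ∈ P.K j) (hk2 : k ^ 2 ≠ 1)
    (ha : a ∉ P.K j) (ha' : Commute j a) (hb : b ∉ P.K j) (hb' : Commute j b) : a * b ∈ P.K j := by
  by_contra e
  have hk1 : k ≠ 1 := fun e => hk2 (by rw [e, one_pow])
  have h1 : Commute k (a * b) := by
    refine (mul_inv_eq_iff_eq_mul.1 ?_).symm
    calc a * b * k * (a * b)⁻¹ = a * (b * k * b⁻¹) * a⁻¹ := by group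
      _ = k := by rw [(inv_of_commute hj hb hb').2.1 k hk,
        (inv_of_commute hj ha ha').2.1 _ (inv_mem hk), inv_inv]
  refine hk2 (orderOf_dvd_iff_pow_eq_one.1 ?_)
  rw [← P.orderOf_eq (P.eq hk1 hk ▸ e) hk1 h1, (inv_of_commute hj e (ha'.mul_right hb')).1]

omit [Finite G] in
theorem Star.comm (hs : P.Star) (hj : orderOf j = 2) : ∀ a ∈ P.K j, ∀ b ∈ P.K j, Commute a b :=
  let ⟨_, hu, hu'⟩ := hs j hj
  (inv_of_commute hj hu hu').2.2

omit [Finite G] in
theorem Star.commute (hs : P.Star) (hj : orderOf j = 2) (ht : t ∈ P.K j) (ht2 : t * t = 1)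
    (ha : Commute j a) : Commute t a := by
  by_cases e : a ∈ P.K j
  · exact hs.comm hj t ht a e
  · have := (inv_of_commute hj e ha).2.1 t ht
    rw [inv_eq_of_mul_eq_one_right ht2] at this
    exact (mul_inv_eq_iff_eq_mul.1 this).symm

theorem Star.inf_ne (hs : P.Star) (hF : fittingSubgroup G = ⊥) (hz : orderOf z = 2)
    (hodd : Odd (Cent1 z).index) (hk : k ∈ P.K z) (hk2 : k ^ 2 ≠ 1) (N : Subgroup G) [N.Normal] :
    N ⊓ Cent1 z ≠ P.K z := by
  intro hN
  have hKN : P.K z ≤ N := hN.ge.trans inf_le_left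
  have hcomm : IsMulCommutative (P.K z) := ⟨⟨fun a b => Subtype.ext (hs.comm hz a a.2 b b.2)⟩⟩
  have h1 : ¬ 2 ∣ (P.K z).relIndex N := fun e => by
    rw [← hN, inf_relIndex_left] at e
    have h2 := NormalIn.relIndex_dvd' (normalIn_top_iff.2 ‹_›) (le_top (a := Cent1 z))
    exact hodd.not_two_dvd_nat (e.trans (relIndex_top_right (Cent1 z) ▸ h2))
  obtain ⟨R, hR⟩ := exists_sylow Nat.prime_two (P.K z)
  have hRN := hR.le.trans hKN
  obtain ⟨S, hS⟩ := (hR.trans_idx hKN ((pnat_compl_singleton Nat.prime_two).2 h1)).exists_sylow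
  replace hS : (S : Subgroup N) = R.subgroupOf N := by rw [← hS, subgroupOf_map_subtype_self]
  have hz1 : z ≠ 1 := fun e => by simp [e] at hz
  have hFN : fittingSubgroup N = ⊥ := (map_eq_bot_iff_of_injective _ N.subtype_injective).1
    (eq_bot_of_le (H2.map_fitting_subtype_le N) hF)
  obtain ⟨h2, h3⟩ := ti_cases hFN (S := S) (H := (P.K z).subgroupOf N)
    ⟨hS ▸ fun x hx => hR.le hx, fun g x hx hx1 hg => by
      rw [hS, ← subgroupOf_normalizer_eq hRN]
      exact nil_hall_nrm_le (nil_of_comm hcomm) hR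
        (P.mem_nrm (fun e => hx1 (Subtype.ext e)) hx hg),
    fun t ht ht2 y hy => by
      rw [hS] at ht
      rw [← orderOf_coe] at ht2
      have h4 : (t : G) ≠ 1 := fun e => by simp [e] at ht2
      exact hN.le ⟨y.2, mem_cent1.2 (hs.commute ht2 (P.eq h4 (hR.le ht) ▸ P.mem z)
        (by rw [← pow_two, ← hz, pow_orderOf_eq_one])
        (show (t : G) * y = y * t from congrArg Subtype.val (mem_cent1.1 hy).symm)).symm⟩,
    ⟨⟨z, hKN (P.mem z)⟩, hS ▸ hR.mem_of_normal (x := z) (nrm_of_comm hcomm hR.le)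
      (by rw [IsPiElt, hz]; exact (pnat_prime Nat.prime_two).2 rfl) (P.mem z),
      (Subgroup.orderOf_mk _ _).trans hz, fun y hy => mem_cent1.2 (Subtype.ext (hs.comm hz y hy z (P.mem z)))⟩⟩
  rcases h3 with ⟨h3, -⟩ | ⟨-, -, S', ⟨u, hu, v, hv, huv⟩, -⟩
  · exact hk2 (by rw [pow_two]; exact congrArg Subtype.val (h3 ⟨k, hKN hk⟩ (h2.le hk)))
  · obtain ⟨g, rfl⟩ := MulAction.exists_smul_eq N S S'
    have h4 := hs.comm hz _ (h2.ge (mem_cj.1 hu)) _ (h2.ge (mem_cj.1 hv))
    refine huv (mul_left_cancel (a := g⁻¹) (mul_right_cancel (b := g) (Subtype.ext ?_)))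
    simpa [mul_assoc] using h4.eq

end Part

end H5
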