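import Cfsg.Agent.Base
import Cfsg.Agent.H5.Part5

/-! The classification of the finite groups with a partition (Baer, Kegel, Suzuki). -/

set_option autoImplicit false

open Cfsg hiding pRank
open H46 Subgroup

universe u

namespace H5

variable {G : Type u} [Group G] [Finite G]

theorem exists_sq_subgroup {K : Subgroup G} (hK : ∀ a ∈ K, ∀ b ∈ K, Commute a b) {z : G}
    (hz : orderOf z = 2) (hzK : z ∈ K) (hu : ∀ x ∈ K, x * x = 1 → x = 1 ∨ x = z) :
    ∃ L : Subgroup G, L ≤ K ∧ L.relIndex K = 2 ∧ ∀ x, x ∈ L ↔ ∃ j ∈ K, j * j = x := by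
  let f : K →* K := MonoidHom.mk' (fun j => j * j) fun a b => Subtype.ext (by
    simp only [coe_mul]
    rw [mul_assoc, mul_assoc, ← mul_assoc (b : G), ← (hK a a.2 b b.2).eq, mul_assoc])
  refine ⟨f.range.map K.subtype, map_subtype_le _, ?_, fun x => ⟨?_, ?_⟩⟩
  · rw [relIndex_map_subtype, index_range, ← hz, ← Subgroup.orderOf_mk z hzK, ← card_zpowers']
    congr 2
    refine le_antisymm (fun x hx => ?_) (zpowers_le.2 (Subtype.ext ?_))
    · rcases hu x x.2 (congrArg Subtype.val hx) with e | e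
      · rw [show x = 1 from Subtype.ext e]; exact one_mem _
      · rw [show x = ⟨z, hzK⟩ from Subtype.ext e]; exact mem_zpowers _
    · change z * z = 1
      rw [← pow_two, ← hz, pow_orderOf_eq_one]
  · rintro ⟨_, ⟨j, rfl⟩, rfl⟩
    exact ⟨j, j.2, rfl⟩
  · rintro ⟨j, hj, rfl⟩
    exact ⟨_, ⟨⟨j, hj⟩, rfl⟩, rfl⟩

namespace Part
variable {P : Part G} {z k : G}

theorem Star.concl (hs : P.Star) (hF : fittingSubgroup G = ⊥) (hz : orderOf z = 2)
    (hodd : Odd (Cent1 z).index) (hk : k ∈ P.K z) (hk2 : k ^ 2 ≠ 1) : PartConcl G := by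
  set K := P.K z
  set C := Cent1 z
  have sq : ∀ w : G, orderOf w = 2 → w * w = 1 := fun w hw => by
    rw [← pow_two, ← hw, pow_orderOf_eq_one]
  have hz1 : z ≠ 1 := fun e => by simp [e] at hz
  have hcomm := hs.comm hz
  have hKC : K ≤ C := fun x hx => mem_cent1.2 (hcomm x hx z (P.mem z))
  have hinv : ∀ u ∈ C, u ∉ K → orderOf u = 2 ∧ ∀ x ∈ K, u * x * u⁻¹ = x⁻¹ := fun u hu hu' =>
    let ⟨h1, h2, _⟩ := inv_of_commute hz hu' (mem_cent1.1 hu).symm
    ⟨h1, h2⟩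
  have hmul : ∀ a ∈ C, ∀ b ∈ C, a ∉ K → b ∉ K → a * b ∈ K := fun a ha b hb ha' hb' =>
    mul_mem_of_not_mem hz hk hk2 ha' (mem_cent1.1 ha).symm hb' (mem_cent1.1 hb).symm
  have hcard : Nat.card C = 2 * Nat.card K :=
    let ⟨_, hu, hu'⟩ := hs z hz
    H97.card_eq_two_mul hKC (mem_cent1.2 hu'.symm) hu hmul
  have hidx : K.relIndex C = 2 := by
    have := card_mul_relIndex hKC
    rw [hcard, mul_comm 2] at this
    exact Nat.eq_of_mul_eq_mul_left (card_pos' K) this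
  have hX := hs.inf_ne hF hz hodd hk hk2
  obtain ⟨g, t, ht, hs₁, hs₂⟩ : ∃ g, ∃ t ∈ K, g * t * g⁻¹ ∈ C ∧ g * t * g⁻¹ ∉ K := by
    by_contra e
    push Not at e
    obtain ⟨N, hN, e'⟩ := exists_normal_inf_eq hodd hidx hKC e
    exact hX N e'
  obtain ⟨hs₃, hs₄⟩ := hinv _ hs₁ hs₂
  have ht1 : t ≠ 1 := fun e => hs₂ (by simp [e])
  have uniq : ∀ x ∈ K, x * x = 1 → x = 1 ∨ x = z := fun x hx hx2 => or_iff_not_imp_left.2 fun hx1 => by
    have h1 : ∀ y ∈ K, y * y = 1 → Commute (g * t * g⁻¹) y := fun y hy hy2 => by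
      have := hs₄ y hy
      rw [inv_eq_of_mul_eq_one_right hy2] at this
      exact mul_inv_eq_iff_eq_mul.1 this
    have h2 := mul_mem_of_not_mem hs₃ (k := g * k * g⁻¹)
      (by rw [P.conj, P.eq ht1 ht]; exact conj_mem_cj.2 hk) (by simpa using hk2)
      (fun e => hx1 (P.eq_one hs₂ hx e)) (h1 x hx hx2) (P.not_mem_symm hs₂ hz1)
      (h1 z (P.mem z) (sq z hz))
    exact mul_right_cancel ((P.eq_one hs₂ (mul_mem hx (P.mem z)) h2).trans (sq z hz).symm)
  have hc₁ : IsConj z (g * t * g⁻¹) := by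
    obtain rfl := (uniq t ht (sq t ((H46.orderOf_conj g t).symm.trans hs₃))).resolve_left ht1
    exact isConj_iff.2 ⟨g, rfl⟩
  generalize g * t * g⁻¹ = s at hs₁ hs₂ hs₃ hs₄ hc₁
  have ti : ∀ g, ∀ x ∈ K, x ≠ 1 → g * x * g⁻¹ ∈ K → Commute g z := fun g x hx hx1 hg =>
    mul_inv_eq_iff_eq_mul.1 ((uniq _ (conj_mem_of_mem_nrm (P.mem_nrm hx1 hx hg) (P.mem z))
      (sq _ ((H46.orderOf_conj g z).trans hz))).resolve_left (by simpa using hz1))
  have cent : ∀ g, Commute g z → g ∈ K ∨ s * g ∈ K := fun g hg =>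
    or_iff_not_imp_left.2 (hmul s hs₁ g (mem_cent1.2 hg) hs₂)
  have conjC : ∀ x : G, orderOf x = 2 → ∃ g, g * x * g⁻¹ ∈ C := fun x hx => by
    obtain ⟨R, hR⟩ := exists_sylow Nat.prime_two C
    obtain ⟨g, -, hg⟩ := sylow_cj_le Nat.prime_two (hR.trans_idx le_top
      ((pnat_compl_singleton Nat.prime_two).2 (relIndex_top_right C ▸ hodd.not_two_dvd_nat)))
      (IsPGroup.of_card ((card_zpowers' x).trans (hx.trans (pow_one 2).symm))) le_top
    exact ⟨g, hR.le (hg (conj_mem_cj.2 (mem_zpowers x)))⟩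
  have conjK : ∀ x ∈ K, orderOf x = 2 → IsConj z x := fun x hx hx2 => by
    rw [(uniq x hx (sq x hx2)).resolve_left fun e => by simp [e] at hx2]
  by_cases hall : ∀ c ∈ C, c ∉ K → IsConj z c
  · obtain ⟨F, _, _, -, h1, e⟩ := H83.BSW.exists_field_equiv_psl (t := z) (K := K) (s := s)
      ⟨hz, hcomm, P.mem z, hs₃, hs₂, cent, hs₄, uniq, ti, fun x hx => by
        obtain ⟨g, hg⟩ := conjC x hx
        refine IsConj.trans ?_ (isConj_iff.2 ⟨g, rfl⟩).symm
        by_cases e : g * x * g⁻¹ ∈ K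
        exacts [conjK _ e ((H46.orderOf_conj g x).trans hx), hall _ hg e]⟩
    refine Or.inl ⟨F, inferInstance, inferInstance, ?_, e⟩
    have h2 := Nat.le_of_dvd (card_pos' K) (H46.orderOf_dvd_card hk)
    have h3 : ¬ orderOf k ∣ 2 := fun e => hk2 (orderOf_dvd_iff_pow_eq_one.1 e)
    have h4 := orderOf_pos k
    have h5 : orderOf k ≠ 1 := fun e => h3 (e ▸ one_dvd _)
    have h6 : orderOf k ≠ 2 := fun e => h3 (e ▸ dvd_rfl)
    omega
  push Not at hall
  obtain ⟨r, hr₁, hr₂, hr₃⟩ := hall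
  obtain ⟨L, hLK, hL, hL'⟩ := exists_sq_subgroup hcomm hz (P.mem z) uniq
  have hconj : ∀ c ∈ C, s * c ∈ L → IsConj z c := fun c hc h1 => by
    obtain ⟨j, hj, e⟩ := (hL' _).1 h1
    refine hc₁.trans (isConj_iff.2 ⟨j⁻¹, ?_⟩)
    calc j⁻¹ * s * j⁻¹⁻¹ = s⁻¹ * (s * j⁻¹ * s⁻¹ * j) * (j⁻¹ * (s * s) * j) := by group
      _ = c := by rw [hs₄ _ (inv_mem hj), inv_inv, e, sq s hs₃]; group
  have hsL : zpowers s ≤ Nrm L := zpowers_le.2 (mem_nrm_of_cj_le fun x hx => by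
    obtain ⟨y, hy, rfl⟩ := hx
    change s * y * s⁻¹ ∈ L
    rw [hs₄ y (hLK hy)]
    exact inv_mem hy)
  have hzs : ∀ y ∈ zpowers s, y = 1 ∨ y = s := fun y hy => by
    classical
    have := hs₃ ▸ mem_zpowers_iff_mem_range_orderOf.1 hy
    simpa [Finset.range_add_one, eq_comm, or_comm] using this
  have hM : (L ⊔ zpowers s).relIndex C = 2 := by
    have h1 := card_mul_relIndex (sup_le (hLK.trans hKC) (zpowers_le.2 hs₁))
    rw [card_sup_of_disjoint hsL (eq_bot_iff.2 fun y hy =>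
      (hzs y hy.2).resolve_right fun e => hs₂ (e ▸ hLK hy.1)), card_zpowers', hs₃, hcard,
      ← card_mul_relIndex hLK, hL, mul_comm 2] at h1
    exact Nat.eq_of_mul_eq_mul_left (Nat.mul_pos (card_pos' L) two_pos) h1
  have hr₄ := (hinv r hr₁ hr₂).1
  obtain ⟨N, hN, hN2, hrN⟩ := H8.thompson_transfer C (L ⊔ zpowers s) hodd hM r
    (hr₄ ▸ pow_orderOf_eq_one r) fun g hg => by
      refine hr₃ (IsConj.trans ?_ (isConj_iff.2 ⟨g, rfl⟩).symm)
      obtain ⟨y, hy, l, hl, e⟩ := (mem_sup_of_nrm' hsL).1 (sup_comm L _ ▸ hg)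
      rcases hzs y hy with rfl | rfl
      · exact conjK _ (by rw [e, one_mul]; exact hLK hl) ((H46.orderOf_conj g r).trans hr₄)
      · rw [e]
        exact hconj _ (mul_mem hs₁ (hKC (hLK hl))) (by rwa [← mul_assoc, sq _ hs₃, one_mul])
  have hLN : L ≤ N := fun x hx => by
    obtain ⟨j, -, rfl⟩ := (hL' x).1 hx
    exact mul_self_mem_of_index_two hN2 j
  have hKN : ∀ x ∈ K, x ∈ N → x ∈ L := fun x hx hxN => by_contra fun e => by
    have h1 : K ≤ N := fun y hy => by_contra fun e' => e' ((mul_mem_cancel_left hxN).1 (hLN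
      ((mul_mem_iff_of_index_two (H := L.subgroupOf K) hL (a := ⟨x, hx⟩) (b := ⟨y, hy⟩)).2
        (iff_of_false e fun h => e' (hLN h)))))
    refine hX N (le_antisymm (fun c hc => by_contra fun e' => hrN ?_) (le_inf h1 hKC))
    exact (N.mul_mem_cancel_left hc.1).1 (h1 (hmul c hc.2 r hr₁ e' hr₂))
  have hsN : s ∈ N := by_contra fun e => hr₃ (hconj r hr₁ (hKN _ (hmul s hs₁ r hr₁ hs₂ hr₂)
    ((mul_mem_iff_of_index_two hN2).2 (iff_of_false e hrN))))
  have hzN : z ∈ N := by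
    obtain ⟨g, hg⟩ := isConj_iff.1 hc₁.symm
    exact hg ▸ hN.conj_mem s hsN g
  refine concl_of_bsw hs hF hN2 (t := ⟨z, hzN⟩) (s := ⟨s, hsN⟩) (K := K.subgroupOf N)
    ⟨(Subgroup.orderOf_mk _ _).trans hz, fun a ha b hb => Subtype.ext (hcomm a ha b hb), P.mem z,
      (Subgroup.orderOf_mk _ _).trans hs₃, hs₂, fun g hg => cent g (congrArg Subtype.val hg),
      fun x hx => Subtype.ext (hs₄ x hx), fun x hx e =>
        (uniq x hx (congrArg Subtype.val e)).imp Subtype.ext Subtype.ext,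
      fun g x hx hx1 hg => Subtype.ext (ti g x hx (fun e => hx1 (Subtype.ext e)) hg),
      fun x hx => ?_⟩
  rw [← orderOf_coe] at hx
  obtain ⟨g, hg⟩ := conjC x hx
  have h1 : IsConj z (g * x * g⁻¹) := by
    by_cases e : g * x * g⁻¹ ∈ K
    · exact conjK _ e ((H46.orderOf_conj g x).trans hx)
    · exact hconj _ hg (hKN _ (hmul s hs₁ _ hg hs₂ e) (mul_mem hsN (hN.conj_mem _ x.2 g)))
  obtain ⟨a, ha⟩ := isConj_iff.1 (h1.trans (isConj_iff.2 ⟨g, rfl⟩).symm)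
  by_cases e : a ∈ N
  · exact isConj_iff.2 ⟨⟨a, e⟩, Subtype.ext ha⟩
  · refine isConj_iff.2 ⟨⟨a * r, (mul_mem_iff_of_index_two hN2).2 (iff_of_false e hrN)⟩,
      Subtype.ext ?_⟩
    change a * r * z * (a * r)⁻¹ = x
    rw [← ha, mul_assoc a, mem_cent1.1 hr₁]
    group

theorem Good.concl (h : P.Good) (hF : fittingSubgroup G = ⊥) : PartConcl G := by
  have := Fact.mk Nat.prime_two
  have : Nontrivial G := by
    obtain ⟨x, -, hx⟩ := SetLike.exists_of_lt (lt_top_iff_ne_top.2 (P.ne_top 1))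
    exact ⟨x, 1, fun e => hx (by rw [e]; exact one_mem _)⟩
  have he : 2 ∣ Nat.card G := by_contra fun e => by
    have := Cfsg.Agent.S0205.result (Nat.odd_iff.2 (Nat.two_dvd_ne_zero.1 e))
    exact H2.fitting_ne_bot G hF
  have sq : ∀ w : G, orderOf w = 2 → w * w = 1 := fun w hw => by
    rw [← pow_two, ← hw, pow_orderOf_eq_one]
  have hZ : ∀ S : Sylow 2 G, ∃ z ∈ Zc (S : Subgroup G), orderOf z = 2 := fun S => by
    obtain ⟨x, hx, hx1⟩ := exists_ne_one_of_ne_bot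
      (zc_ne_bot_of_isPGroup Nat.prime_two S.isPGroup' (S.ne_bot_of_dvd_card he))
    exact cauchy Nat.prime_two ((dvd_orderOf_of_mem Nat.prime_two S.isPGroup' hx.1 hx1).trans
      (H46.orderOf_dvd_card hx))
  by_cases h1 : ∃ (S : Sylow 2 G) (x : G), (S : Subgroup G) ≤ P.K x
  · obtain ⟨S, x, hS⟩ := h1
    obtain ⟨z, hz, hz2⟩ := hZ S
    have h2 := (isSylowOf_top S).of_le hS le_top
    have h3 := nil_hall_nrm_le (h.nil x) h2
    refine concl_of_ti hF (S := S) (H := P.K x) ⟨hS, fun g y hy hy1 hg => h3 (P.mem_nrm hy1 hy hg),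
      fun t ht ht2 y hy => by_contra fun e => ?_, z, hz.1, hz2, ?_⟩
    · have ht1 : t ≠ 1 := fun e => by simp [e] at ht2
      have h4 := (P.orderOf_eq (P.eq ht1 (hS ht) ▸ e) ht1 (mem_cent1.1 hy).symm).trans ht2
      have h5 : y ∈ zpowers y ⊓ normalizer (S : Set G) :=
        ⟨mem_zpowers y, h3 (P.mem_nrm_of_commute ht1 (hS ht) (mem_cent1.1 hy))⟩
      rw [(IsPGroup.of_card ((card_zpowers' y).trans (h4.trans (pow_one 2).symm))).inf_normalizer_sylow
        S] at h5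
      exact e (hS h5.2)
    · refine le_of_forall_sylow_le fun r hr _ => ?_
      by_cases e : r = 2
      · exact ⟨S, e ▸ h2, le_cent1_iff.2 hz.2⟩
      obtain ⟨R, hR⟩ := exists_sylow hr (P.K x)
      exact ⟨R, hR, (nil_cent_of_coprime (h.nil x) hR.le hS
        (hR.isPi.coprime (h2.isPi.compl_singleton e))).trans (cent_le_cent1 hz.1)⟩
  push Not at h1
  have hs : P.Star := fun j hj => by
    obtain ⟨S, hS⟩ := (IsPGroup.of_card
      ((card_zpowers' j).trans (hj.trans (pow_one 2).symm))).exists_le_sylow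
    obtain ⟨z, hz, hz2⟩ := hZ S
    by_cases e : z ∈ P.K j
    · obtain ⟨u, hu, hu'⟩ := SetLike.not_le_iff_exists.1 (h1 S z)
      have h2 := P.eq (fun e => by simp [e] at hz2) e
      have h3 := (inv_of_commute hz2 hu' (mem_cent.1 hz.2 u hu).symm).2.1 j (h2 ▸ P.mem j)
      rw [inv_eq_of_mul_eq_one_right (sq j hj)] at h3
      exact ⟨u, h2 ▸ hu', (mul_inv_eq_iff_eq_mul.1 h3).symm⟩
    · exact ⟨z, e, mem_cent.1 hz.2 j (hS (mem_zpowers j))⟩
  by_cases h2 : ∃ z k, orderOf z = 2 ∧ Odd (Cent1 z).index ∧ k ∈ P.K z ∧ k ^ 2 ≠ 1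
  · obtain ⟨z, k, h3, h4, h5, h6⟩ := h2
    exact hs.concl hF h3 h4 h5 h6
  push Not at h2
  obtain ⟨S⟩ : Nonempty (Sylow 2 G) := inferInstance
  have h3 : ∀ t, orderOf t = 2 → (S : Subgroup G) ≤ Cent1 t → Cent1 t = S ∧
      ∀ y ∈ Cent1 t, y ^ 2 = 1 := fun t ht hS => by
    have h4 : ∀ y ∈ Cent1 t, y ^ 2 = 1 := fun y hy => by
      by_cases e : y ∈ P.K t
      · exact h2 t y ht ((H8.odd_index_sylow_two S).of_dvd_nat (index_dvd_of_le hS)) e
      · rw [← (inv_of_commute ht e (mem_cent1.1 hy).symm).1, pow_orderOf_eq_one]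
    exact ⟨S.is_maximal' (fun y => ⟨1, Subtype.ext (h4 y y.2)⟩) hS, h4⟩
  obtain ⟨z, hz, hz2⟩ := hZ S
  obtain ⟨h4, h5⟩ := h3 z hz2 (le_cent1_iff.2 hz.2)
  rw [h4] at h5
  have h6 : ∀ t ∈ (S : Subgroup G), t ≠ 1 → Cent1 t = S := fun t ht ht1 =>
    (h3 t (orderOf_eq_prime (h5 t ht) ht1) fun y hy => mem_cent1.2 (congrArg Subtype.val
      (Commute.of_orderOf_dvd_two (fun f : (S : Subgroup G) =>
        orderOf_dvd_of_pow_eq_one (Subtype.ext (h5 f f.2))) ⟨y, hy⟩ ⟨t, ht⟩))).1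
  refine concl_of_ti hF (S := S) (H := S) ⟨le_rfl, fun g x hx hx1 hg => mem_nrm_iff_cj.2 ?_,
    fun t ht ht2 => (h6 t ht fun e => by simp [e] at ht2).le, z, hz.1, hz2, h4.ge⟩
  rw [← h6 x hx hx1, cj_cent1, h6 _ hg (by simpa using hx1), h6 x hx hx1]

/-- The classification of the finite groups with a non-trivial partition. -/
theorem classification (P : Part G) : Nonempty (G ≃* Equiv.Perm (Fin 4)) ∨
    (∃ p : ℕ, p.Prime ∧ Subgroup.closure {g : G | g ^ p ≠ 1} ≠ ⊤) ∨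
    (∃ H : Subgroup G, IsFrobeniusComplement H) ∨ PartConcl G := by
  by_contra h
  simp only [not_or, not_exists] at h
  obtain ⟨h1, h2, h3, h4⟩ := h
  have h5 : P.Good := ⟨fun x => ?_, h3, fun p hp x => by_contra fun e => h2 p ⟨hp, fun e' => ?_⟩⟩
  · by_cases hF : fittingSubgroup G = ⊥
    · exact h4 (h5.concl hF)
    by_cases hK : ∀ x, ¬ fittingSubgroup G ≤ P.K x
    · exact h1 (equiv_perm_four h5 hK)
    push Not at hK
    obtain ⟨x, hx⟩ := hK
    have : (P.K x).Normal := normalizer_eq_top_iff.1 (top_le_iff.1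
      (le_normalizer_of_normal.trans (P.nrm_le hF hx)))
    have := h5.nil x
    exact false_of_fitting_eq h5 (le_antisymm (H2.le_fitting _) hx) hF
  · by_cases e : P.K x = ⊥
    · rw [e]; infer_instance
    obtain ⟨y, hy, hy1⟩ := exists_ne_one_of_ne_bot e
    rw [← P.eq hy1 hy]
    exact P.nil fun e' => h3 _ (P.frob hy1 e')
  · push Not at e
    exact P.ne_top x (top_le_iff.1 (e'.ge.trans ((closure_le _).2 fun g hg =>
      by_contra fun h => hg (e g h))))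

end Part

end H5
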