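/- Itô: a finite group with at most two non-trivial class sizes is solvable. -/
import Cfsg.Agent.H5.CS6
import Cfsg.Agent.S4248
import Cfsg.Agent.H24.SzFacts
import Cfsg.Agent.H5.Kegel
import Cfsg.Agent.H20.CN2
import Cfsg.Agent.H61.HurPair

set_option autoImplicit false

namespace H5.CS
open Cfsg Subgroup H4

universe u
variable {G : Type u} [Group G] [Finite G]

local notation "C " x:max => Subgroup.centralizer ({x} : Set _)

/-- Among three non-identity elements two admit the same number between order and centraliser. -/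
def Two (X : Type*) [Group X] : Prop := ∀ a b c : X, a ≠ 1 → b ≠ 1 → c ≠ 1 → ∃ i j k : ℕ,
  (orderOf a ∣ i ∧ i ∣ Nat.card (C a)) ∧ (orderOf b ∣ j ∧ j ∣ Nat.card (C b)) ∧
    (orderOf c ∣ k ∧ k ∣ Nat.card (C c)) ∧ (i = j ∨ i = k ∨ j = k)

theorem two_of_sizes {X : Type*} [Group X] (f : G →* X) (hf : Function.Surjective f)
    (hk : f.ker = center G) {m n : ℕ} (h : ∀ g : G, ind g = 1 ∨ ind g = m ∨ ind g = n) : Two X := by
  have : Finite X := Finite.of_surjective f hf
  have h1 : ∀ g : G, orderOf (f g) ∣ Nat.card ((C g).map f) ∧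
      Nat.card ((C g).map f) ∣ Nat.card (C (f g)) := fun g =>
    ⟨orderOf_dvd_natCard _ ⟨g, self_mem_cent g, rfl⟩, card_dvd_of_le (by
      rintro _ ⟨a, ha, rfl⟩
      rw [mem_cent_iff, ← map_mul, ← map_mul, mem_cent_iff.1 ha])⟩
  have h2 : ∀ a b : G, ind a = ind b → Nat.card ((C a).map f) = Nat.card ((C b).map f) :=
    fun a b e => by
      rw [← relIndex_ker, ← relIndex_ker, hk]
      have h1 := (relIndex_mul_index (center_le_centralizer ({a} : Set G))).trans
        (relIndex_mul_index (center_le_centralizer ({b} : Set G))).symm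
      rw [show (C a).index = (C b).index from e] at h1
      exact Nat.eq_of_mul_eq_mul_right (ind_pos b) h1
  have h3 : ∀ g : G, f g ≠ 1 → ind g = m ∨ ind g = n := fun g e =>
    (h g).resolve_left fun e' => e (MonoidHom.mem_ker.1 (hk.ge (ind_eq_one_iff.1 e')))
  intro a b c a1 b1 c1
  obtain ⟨a, rfl⟩ := hf a
  obtain ⟨b, rfl⟩ := hf b
  obtain ⟨c, rfl⟩ := hf c
  refine ⟨_, _, _, h1 a, h1 b, h1 c, ?_⟩
  have := h3 a a1
  have := h3 b b1
  have := h3 c c1
  have : ind a = ind b ∨ ind a = ind c ∨ ind b = ind c := by omega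
  exact this.imp (h2 a b) (Or.imp (h2 a c) (h2 b c))

open H61 in
theorem not_two_of_main {X Y : Type*} [Group X] [Finite X] [MulAction X Y] {p : ℕ} {h : Hur p X Y}
    {x y : Y} {q d n : ℕ} (m : H61.Main h x y q d n) (hq : 4 ≤ q) : ¬ Two X := fun h2 => by
  have par := m.params
  obtain ⟨e, e0, he⟩ := m.exists_pow
  have hp : p ∣ q := he ▸ dvd_pow_self p e0.ne'
  have hpn : ¬ p ∣ n := fun e => h.prime.one_lt.ne' (Nat.dvd_one.1 ((Nat.dvd_add_right hp).1
    (par.elim (fun e' => e'.2 ▸ e) fun e' => e'.2 ▸ e.mul_left 2)))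
  obtain ⟨a, ha⟩ := m.exists_orderOf_eq_n
  obtain ⟨b, hb⟩ := m.exists_orderOf_eq_d
  obtain ⟨c, hc, c1⟩ := (bot_or_exists_ne_one (h.Q x)).resolve_left
    (m.Q_ne_bot (MulAction.mem_orbit_self x))
  have a1 : a ≠ 1 := fun e => by rw [e, orderOf_one] at ha; omega
  obtain ⟨i, j, k, ⟨i1, i2⟩, ⟨j1, -⟩, ⟨k1, k2⟩, h3⟩ := h2 a b c a1
    (fun e => by rw [e, orderOf_one] at hb; omega) c1
  have := Fact.mk h.prime
  rw [orderOf_eq_prime hc.2 c1] at k1
  rw [h.centralizer_eq_Q hc c1, m.card_Q] at k2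
  rw [hb] at j1
  obtain ⟨s, t, hst, hat⟩ := h.exists_tor (g := a) fun e =>
    hpn (by rw [← ha, orderOf_eq_prime e a1])
  rw [h.centralizer_eq_tor hst hat fun e => by
    have := Nat.le_of_dvd two_pos (orderOf_dvd_of_pow_eq_one ((sq a).trans e))
    omega] at i2
  rw [ha] at i1
  have h4 : i = n := by
    rcases m.tor_cases hst fun e => a1 (mem_bot.1 (e ▸ hat)) with e | e
    · have := Nat.le_of_dvd m.d_pos (e.2.2 ▸ i1.trans i2)
      omega
    · exact Nat.dvd_antisymm (e.2.2.2 ▸ i2) i1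
  have h5 : ∀ u : ℕ, d ∣ d + u → 0 < u → d ≤ u := fun u e e' =>
    Nat.le_of_dvd e' ((Nat.dvd_add_right dvd_rfl).1 e)
  rcases h3 with e | e | e
  · rw [← e, h4] at j1
    rcases par with e | e
    · have := h5 2 (by rwa [show d + 2 = n by omega]) two_pos
      omega
    · have := h5 1 (by rwa [show d + 1 = n by omega]) one_pos
      omega
  · exact hpn (h4 ▸ e ▸ k1)
  · have h6 := (e ▸ j1).trans k2
    rcases par with e | e
    · have := h5 1 (by rwa [e.1]) one_pos
      omega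
    · have := Nat.le_of_dvd one_pos ((Nat.dvd_add_right (Dvd.intro_left 2 rfl)).1 (e.1 ▸ h6))
      omega

theorem not_two_of_suzuki {X : Type*} [Group X] [Finite X] (h : Lie.IsoSuzuki X) : ¬ Two X :=
    fun h2 => by
  obtain ⟨F, _, T, m, hT, ⟨M⟩⟩ := H24.exists_szModel h
  have := hT.finite
  have h8 : 2 ^ 3 ≤ Nat.card F := hT.card ▸ Nat.pow_le_pow_right two_pos (by have := hT.hm; omega)
  obtain ⟨A, -, hA, hc⟩ := M.exists_torus hT (Or.inl rfl)
  obtain ⟨a, ha, a1⟩ := (bot_or_exists_ne_one A).resolve_left fun e => by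
    have := hT.five_le (Or.inl rfl)
    rw [e, card_bot] at hA
    omega
  obtain ⟨b, hb, b1⟩ := (bot_or_exists_ne_one M.H).resolve_left fun e => by
    have := M.card_H
    rw [e, card_bot] at this
    omega
  obtain ⟨c, -, hc2⟩ := exists_orderOf_mem Nat.prime_two (K := (⊤ : Subgroup X)) (by
    rw [card_top, M.card_G, hT.card]
    exact (((dvd_pow_self 2 (by omega)).pow two_ne_zero).mul_right _).mul_right _)
  obtain ⟨i, j, k, ⟨i1, i2⟩, ⟨-, j2⟩, ⟨k1, -⟩, h3⟩ := h2 a b c a1 b1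
    (ne_one_of_prime Nat.prime_two hc2)
  rw [hc a ha a1, hA] at i2
  replace i2 := i2.trans (hT.dvd_of_torus (Or.inl rfl))
  rw [M.isCC_H b hb b1, M.card_H] at j2
  rw [hc2] at k1
  rcases h3 with e | e | e
  · exact a1 (orderOf_eq_one_iff.1 (Nat.eq_one_of_dvd_coprimes hT.coprime_sub_one
      ((e ▸ i1).trans j2) (i1.trans i2)))
  · exact absurd (Nat.eq_one_of_dvd_coprimes hT.coprime_four (by norm_num) ((e ▸ k1).trans i2))
      (by norm_num)
  · exact absurd (Nat.eq_one_of_dvd_coprimes hT.coprime_four' (by norm_num) ((e ▸ k1).trans j2))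
      (by norm_num)

theorem Two.of_equiv {X Y : Type*} [Group X] [Group Y] [Finite X] (h : Two X) (e : X ≃* Y) :
    Two Y := fun a b c a1 b1 c1 => by
  have h1 : ∀ a : Y, Nat.card (C (e.symm a)) ∣ Nat.card (C a) := fun a => by
    rw [← card_map_of_injective (f := e.toMonoidHom) e.injective]
    refine card_dvd_of_le ?_
    rintro _ ⟨g, hg, rfl⟩
    simpa [mem_cent_iff] using congrArg e (mem_cent_iff.1 hg)
  obtain ⟨i, j, k, e1, e2, e3, e4⟩ := h (e.symm a) (e.symm b) (e.symm c) (by simpa) (by simpa)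
    (by simpa)
  rw [MulEquiv.orderOf_eq] at e1 e2 e3
  exact ⟨i, j, k, ⟨e1.1, e1.2.trans (h1 a)⟩, ⟨e2.1, e2.2.trans (h1 b)⟩, ⟨e3.1, e3.2.trans (h1 c)⟩, e4⟩

open H61 in
/-- A group partitioned by abelian subgroups with the property `Two` is solvable. -/
theorem solvable_of_partition (S : Set (Subgroup G)) (hS2 : ∃ H ∈ S, ∃ K ∈ S, H ≠ K)
    (hS1 : ∀ H ∈ S, H ≠ ⊥) (hpart : ∀ g : G, g ≠ 1 → ∃! H : Subgroup G, H ∈ S ∧ g ∈ H)
    (hc : ∀ H ∈ S, ∀ a ∈ H, ∀ b ∈ H, a * b = b * a) (h2 : Two G) : Group.IsSolvable G := by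
  rcases Cfsg.Agent.S4248.result S hS2 hS1 hpart with ⟨⟨e⟩⟩ | ⟨p, hp, h⟩ | ⟨H, hH⟩ |
    ⟨F, _, _, hF, ⟨e⟩⟩ | ⟨F, _, _, hF, -, ⟨e⟩⟩ | h
  · exact isSolvable_of_card_dvd_24 (by
      rw [Nat.card_congr e.toEquiv, Nat.card_perm]; simp [Nat.factorial])
  · have := Fact.mk hp
    set K := closure {g : G | g ^ p ≠ 1}
    have h1 : ∀ g, g ∉ K → g ^ p = 1 := fun g hg => by_contra fun e => hg (subset_closure e)
    have hn : K.Normal := ⟨fun k hk g => by
      induction hk using closure_induction with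
      | mem x hx => exact subset_closure (by simpa [conj_pow] using hx)
      | one => simp
      | mul x y _ _ hx hy => simpa using mul_mem hx hy
      | inv x _ hx => simpa [mul_assoc] using inv_mem hx⟩
    obtain ⟨a, -, ha⟩ := SetLike.exists_of_lt (lt_top_iff_ne_top.2 h)
    have := H5.kegel hp (le_normalizer_of_normal (mem_top a)) fun k hk =>
      h1 _ fun e => ha ((mul_mem_cancel_left hk).1 e)
    have h3 : IsPGroup p (G ⧸ K) := fun g => by
      obtain ⟨g, rfl⟩ := QuotientGroup.mk_surjective g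
      refine ⟨1, ?_⟩
      rw [pow_one, ← QuotientGroup.mk_pow, QuotientGroup.eq_one_iff]
      by_cases e : g ∈ K
      · exact pow_mem e p
      · exact h1 g e ▸ one_mem _
    have := h3.isNilpotent
    exact H2.isSolvable_of_normal_of_quotient K
  · have := isNilpotent_of_fpf_subgroup hH.1 le_normalizer_of_normal (frobKer_inf_centralizer hH)
    obtain ⟨z, hz, hp, h1⟩ := H20.exists_center_of_fpf (frobKer_ne_bot hH) le_normalizer_of_normal
      (frobKer_inf_centralizer hH) hH.1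
    have z1 := ne_one_of_prime hp rfl
    obtain ⟨K, ⟨hK, hzK⟩, hu⟩ := hpart z z1
    have := Fact.mk hp
    have h3 : pResidual (orderOf z) H ≤ K.subgroupOf H := (closure_le _).2 fun g hg => by
      have h4 : (orderOf z).Coprime (orderOf (g : G)) := by rw [orderOf_coe]; exact hg.symm
      obtain ⟨L, ⟨hL, hgL⟩, -⟩ := hpart _ (mul_ne_one z1 h4)
      obtain ⟨i, hi⟩ := H24.exists_pow_mul_eq_of_coprime (h1 g g.2).symm h4
      have h5 := hu L ⟨hL, hi ▸ pow_mem hgL i⟩
      exact (mul_mem_cancel_left hzK).1 (h5 ▸ hgL)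
    have : Group.IsSolvable (pResidual (orderOf z) H) := Group.isSolvable_of_comm fun a b =>
      Subtype.ext (Subtype.ext (hc K hK _ (h3 a.2) _ (h3 b.2)))
    have := (H7.isPGroup_quotient_pResidual (p := orderOf z) (G := H)).isNilpotent
    have := H2.isSolvable_of_normal_of_quotient (pResidual (orderOf z) H)
    have := isSolvable_sup_of_le_normalizer (V := frobKer hH) (B := H) le_normalizer_of_normal
    rw [(frobKer_isComplement' hH).sup_eq_top] at this
    exact H2.isSolvable_of_mulEquiv topEquiv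
  · have : Fact (ringChar F).Prime := ⟨CharP.char_is_prime F _⟩
    obtain ⟨y, m⟩ := main_psl (F := F) (ringChar F)
    exact absurd (h2.of_equiv e) (not_two_of_main m (by rwa [Nat.card_eq_fintype_card]))
  · have : Fact (ringChar F).Prime := ⟨CharP.char_is_prime F _⟩
    obtain ⟨y, m⟩ := main_pgl (F := F) (ringChar F)
    exact absurd (h2.of_equiv (Y := Matrix.ProjGenLinGroup (Fin 2) F) e)
      (not_two_of_main m (by rw [Nat.card_eq_fintype_card]; omega))
  · exact absurd h2 (not_two_of_suzuki h)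

theorem solvable_of_two_sizes {m n : ℕ} (h : ∀ g : G, ind g = 1 ∨ ind g = m ∨ ind g = n) :
    Group.IsSolvable G := by
  by_contra hG
  have hF : ∀ a b : G, b ∉ center G → C a ≤ C b → C a = C b := fun a b hb hle => by
    by_contra hne
    have h1 : ind a ≠ ind b := fun e => hne (eq_of_le_of_index_le hle e.le)
    refine NF2.false (x := a) (y := b) ⟨fun g hg => ?_, lt_of_le_of_ne hle hne, hb, hG⟩
    have := h a
    have := h b
    have := h g
    have := mt ind_eq_one_iff.1 hb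
    have := mt ind_eq_one_iff.1 hg
    have := mt ind_eq_one_iff.1 (not_central_of_le hb hle)
    omega
  let f := QuotientGroup.mk' (center G)
  have h1 : ∀ a g : G, f g ∈ (centralizer (C a : Set G)).map f ↔ C a ≤ C g := fun a g => by
    rw [← mem_comap, comap_map_eq, QuotientGroup.ker_mk', sup_eq_left.2 (center_le_centralizer _),
      le_cent_iff_mem_centralizer]
  have h2 : ∀ g : G, f g = 1 ↔ g ∈ center G := fun g => QuotientGroup.eq_one_iff g
  have : Group.IsSolvable (center G) := Group.isSolvable_of_comm fun a b =>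
    Subtype.ext (mem_center_iff.1 b.2 a)
  have := solvable_of_partition {K | ∃ a ∉ center G, K = (centralizer (C a : Set G)).map f} ?_ ?_ ?_
    ?_ (two_of_sizes f (QuotientGroup.mk'_surjective _) (QuotientGroup.ker_mk' _) h)
  · exact hG (H2.isSolvable_of_normal_of_quotient (center G))
  · obtain ⟨a, b, hab⟩ : ∃ a b : G, a * b ≠ b * a := by
      by_contra e
      push Not at e
      exact hG (Group.isSolvable_of_comm e)
    refine ⟨_, ⟨a, fun e => hab (mem_center_iff.1 e b).symm, rfl⟩, _,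
      ⟨b, fun e => hab (mem_center_iff.1 e a), rfl⟩, fun e => hab ?_⟩
    exact (mem_cent_iff.1 ((h1 b a).1 (e ▸ (h1 a a).2 le_rfl) (self_mem_cent b))).symm
  · rintro _ ⟨a, ha, rfl⟩ e
    exact ha ((h2 a).1 (mem_bot.1 (e ▸ (h1 a a).2 le_rfl)))
  · intro g g1
    obtain ⟨g, rfl⟩ := QuotientGroup.mk'_surjective _ g
    have g2 := mt (h2 g).2 g1
    refine ⟨_, ⟨⟨g, g2, rfl⟩, (h1 g g).2 le_rfl⟩, ?_⟩
    rintro _ ⟨⟨a, -, rfl⟩, e⟩
    rw [hF a g g2 ((h1 a g).1 e)]
  · rintro _ ⟨a, -, rfl⟩ _ ⟨b, hb, rfl⟩ _ ⟨c, hc, rfl⟩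
    rw [← map_mul, ← map_mul, hc b (mem_cent_iff.2 (hb a (self_mem_cent a)).symm)]

end H5.CS
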