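/- IT tower (S3193), slot IT-CH: the permutation character on the cosets of a complement of a
`CC`-subgroup. -/
import Cfsg.Agent.H41.ItSpec
import Cfsg.Agent.H5.CCChar
import Cfsg.Agent.S0716
import Cfsg.Agent.S0157

set_option autoImplicit false

namespace H5.ItCH
open Cfsg Subgroup H66 H28 H36 Finset H24.BE
open scoped Classical ComplexConjugate

universe u

section
variable {G : Type*} [Group G] {A : Subgroup G}

/-- Constituents of a character whose restriction to `A` is regular. -/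
theorem cc_degree [Fintype G] (hA : IsCC A) (a : IrrCharacter G → ℕ)
    (ha : ∀ ψ : A →* ℂˣ, ∑ χ, (a χ : ℤ) * mult A χ ψ = 1) {χ : IrrCharacter G} (h0 : a χ ≠ 0)
    (h1 : mult A χ 1 = 0) {d : ℕ} (hd : (χ : G → ℂ) 1 = d) (hd0 : 0 < d) :
    d + 1 = Nat.card A ∨ Nat.card (normalizer (A : Set G)) = d * Nat.card A := by
  have h := cc_ti hA
  have nn : ∀ ψ χ', 0 ≤ (a χ' : ℤ) * mult A χ' ψ := fun ψ χ' =>
    mul_nonneg (Int.natCast_nonneg _) (mult_nonneg _ _)
  have two : ∀ ψ χ', χ' ≠ χ → (a χ : ℤ) * mult A χ ψ + (a χ' : ℤ) * mult A χ' ψ ≤ 1 :=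
    fun ψ χ' hne => by
      rw [← ha ψ, ← sum_pair (f := fun χ' => (a χ' : ℤ) * mult A χ' ψ) hne.symm]
      exact sum_le_univ_sum_of_nonneg (nn ψ)
  have a1 : (1 : ℤ) ≤ a χ := by omega
  have le1 : ∀ ψ, mult A χ ψ = 0 ∨ mult A χ ψ = 1 := fun ψ => by
    have h2 : (a χ : ℤ) * mult A χ ψ ≤ 1 :=
      ha ψ ▸ single_le_sum (f := fun χ' => (a χ' : ℤ) * mult A χ' ψ) (fun i _ => nn ψ i) (mem_univ χ)
    have := mult_nonneg χ ψ
    have : mult A χ ψ ≤ 1 := by nlinarith
    omega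
  let S : Finset (A →* ℂˣ) := {ψ | mult A χ ψ = 1}
  have hS : d = #S := by
    have h2 := h.apply_one χ
    rw [hd] at h2
    have h3 : (d : ℤ) = ∑ ψ, mult A χ ψ := by exact_mod_cast h2
    rw [sum_congr rfl (g := fun ψ => if mult A χ ψ = 1 then 1 else 0)
      (fun ψ _ => by rcases le1 ψ with e | e <;> simp [e]), sum_boole] at h3
    exact_mod_cast h3
  by_cases hall : ∀ ψ, ψ ≠ 1 → mult A χ ψ = 1
  · have h2 : S = univ.erase 1 := by
      ext ψ
      simp only [S, mem_filter, mem_univ, true_and, mem_erase, and_true]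
      exact ⟨fun e e' => by rw [e', h1] at e; omega, hall ψ⟩
    left
    rw [hS, h2, card_erase_of_mem (mem_univ _), card_univ, h.card_hom]
    have := Nat.card_pos (α := A)
    omega
  push Not at hall
  obtain ⟨ψ₂, n2, m2⟩ := hall
  replace m2 := (le1 ψ₂).resolve_right m2
  obtain ⟨χ', -, hχ'⟩ := exists_ne_zero_of_sum_ne_zero (s := univ)
    (f := fun χ' => (a χ' : ℤ) * mult A χ' ψ₂) (by rw [ha]; omega)
  have hne : χ' ≠ χ := fun e => hχ' (by rw [e, m2, mul_zero])
  have a2 : (1 : ℤ) ≤ a χ' := by have := left_ne_zero_of_mul hχ'; omega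
  have m3 : mult A χ' ψ₂ ≠ 0 := right_ne_zero_of_mul hχ'
  have m4 : ∀ ψ ∈ S, mult A χ' ψ = 0 := fun ψ hψ => by
    have h2 := two ψ χ' hne
    rw [(mem_filter.1 hψ).2] at h2
    have := mult_nonneg χ' ψ
    nlinarith
  have m5 : ∀ ψ ∈ S, ∀ χ'', χ'' ≠ χ → χ'' ≠ χ' → mult A χ'' ψ = mult A χ'' ψ₂ :=
    fun ψ hψ χ'' e1 e2 => by
      have hψ1 := (mem_filter.1 hψ).2
      have h2 := h.bessel_two (ψ := ψ) (fun e => by rw [e, h1] at hψ1; omega) n2
      have h3 := sum_le_univ_sum_of_nonneg (s := {χ'', χ, χ'})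
        (f := fun χ => (mult A χ ψ - mult A χ ψ₂) ^ 2) fun i => sq_nonneg _
      rw [sum_insert (by simp [e1, e2]), sum_pair hne.symm, hψ1, m2, m4 ψ hψ] at h3
      have h4 : 1 ≤ (0 - mult A χ' ψ₂) ^ 2 :=
        (one_le_sq_iff_one_le_abs _).2 (Int.one_le_abs (by omega))
      have h5 : (mult A χ'' ψ - mult A χ'' ψ₂) ^ 2 = 0 :=
        le_antisymm (by omega) (sq_nonneg _)
      exact sub_eq_zero.1 (pow_eq_zero_iff two_ne_zero |>.1 h5)
  obtain ⟨ψ, hψ⟩ : S.Nonempty := Finset.card_pos.1 (hS ▸ hd0)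
  have c0 : ∀ ψ', ψ' ∉ S → h.cnt ψ ψ' = 0 := fun ψ' hψ' => by
    refine Finset.card_eq_zero.2 (filter_eq_empty_iff.2 fun n _ e => hψ' ?_)
    rw [← e]
    exact mem_filter.2 ⟨mem_univ _, (h.mult_cj χ ψ n).trans (mem_filter.1 hψ).2⟩
  have c1 : ∀ ψ' ∈ S, h.cnt ψ ψ' = Nat.card A := fun ψ' hψ' => by
    have h2 := h.gram ψ' ψ₂ ψ
    rw [c0 ψ₂ (fun e => by have := (mem_filter.1 e).2; omega), sum_eq_single χ
      (fun χ'' _ e => by
        by_cases e' : χ'' = χ'
        · rw [e', m4 ψ hψ, zero_mul]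
        · rw [m5 ψ' hψ' χ'' e e', sub_self, mul_zero]) (by simp),
      (mem_filter.1 hψ).2, (mem_filter.1 hψ').2, m2] at h2
    omega
  have c2 : Nat.card (normalizer (A : Set G)) = d * Nat.card A := by
    rw [Nat.card_eq_fintype_card, ← card_univ,
      card_eq_sum_card_fiberwise (f := h.cj ψ) (t := S) fun n _ =>
        mem_filter.2 ⟨mem_univ _, (h.mult_cj χ ψ n).trans (mem_filter.1 hψ).2⟩,
      hS, ← smul_eq_mul, ← sum_const]
    exact sum_congr rfl c1
  exact Or.inr c2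

end

theorem jobCH : H41.IT.JobCH.{u} := by
  intro G _ _ A B hB hB1 _ hc
  have := Fintype.ofFinite G
  let Ω := G ⧸ A
  have cA : Nat.card A = B.index := by
    have h1 := A.card_mul_index
    rw [← B.card_mul_index, hc, mul_comm] at h1
    exact Nat.eq_of_mul_eq_mul_left (Nat.pos_of_ne_zero A.index_ne_zero_of_finite) h1
  have cΩ : Nat.card Ω = Nat.card B := hc.symm
  obtain ⟨a, ha1, ha2⟩ := (H30.isCharacter_fixChar (G := G) Ω).exists_nat_coeffs
  have hz : ∀ x : B, x ≠ 1 → H30.fixChar G Ω x = 0 := fun x hx => by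
    rw [H30.fixChar_apply, Nat.cast_eq_zero, Nat.card_eq_zero]
    refine Or.inl ⟨fun ⟨y, hy⟩ => ?_⟩
    obtain ⟨y, rfl⟩ := QuotientGroup.mk_surjective y
    have h1 : ((x : G) * y)⁻¹ * y ∈ A := QuotientGroup.eq.1 hy
    have h2 := A.orderOf_dvd_natCard (inv_mem h1)
    rw [show (((x : G) * y)⁻¹ * y)⁻¹ = y⁻¹ * x * y⁻¹⁻¹ by group, H24.orderOf_conj', cA] at h2
    exact hx (Subtype.ext (orderOf_eq_one_iff.1 (Nat.eq_one_of_dvd_coprimes (cc_coprime_index hB)
      (B.orderOf_dvd_natCard x.2) h2)))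
  have h4 : ∀ ψ : B →* ℂˣ, ∑ χ, (a χ : ℤ) * mult B χ ψ = 1 := fun ψ => by
    have h1 := card_mul_classInner (fun x : B => H30.fixChar G Ω x) fun x => (ψ x : ℂ)
    rw [sum_eq_single 1 (fun x _ hx => by rw [hz x hx, zero_mul]) (by simp)] at h1
    have h2 : (fun x : B => H30.fixChar G Ω x) =
        ∑ χ : IrrCharacter G, (a χ : ℂ) • fun x : B => (χ : G → ℂ) x := by
      funext x
      rw [ha2]
      simp [Finset.sum_apply]
    rw [h2, classInner_sum_left] at h1
    simp only [classInner_smul_left, ← coe_mult, OneMemClass.coe_one, H30.fixChar_one, map_one,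
      Units.val_one, mul_one, cΩ] at h1
    have h3 : (Nat.card B : ℤ) * ∑ χ, (a χ : ℤ) * mult B χ ψ = Nat.card B := by exact_mod_cast h1
    have h6 : (Nat.card B : ℤ) ≠ 0 := by exact_mod_cast (Nat.card_pos (α := B)).ne'
    exact mul_left_cancel₀ h6 (h3.trans (mul_one _).symm)
  let one : IrrCharacter G := ⟨_, isIrrCharacter_one⟩
  have a1 : a one = 1 := by
    have := H30.classInner_fixChar_one_of_transitive (G := G) Ω
    exact_mod_cast (ha1 one).symm.trans this
  have dg : ∀ χ : IrrCharacter G, ∃ d : ℕ, 0 < d ∧ (χ : G → ℂ) 1 = d := by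
    rintro ⟨_, n, ρ, hρ, rfl⟩
    exact ⟨_, H29.finrank_pos_of_isIrreducible ρ, ρ.char_one⟩
  choose deg d0 d1 using dg
  have h5 : ∀ χ, χ ≠ one → a χ ≠ 0 → deg χ + 1 = Nat.card B ∨
      Nat.card (normalizer (B : Set G)) = deg χ * Nat.card B := fun χ hne h0 => by
    have m1 : mult B χ 1 = 0 := by
      have h1 := sum_le_univ_sum_of_nonneg (s := {χ, one}) (f := fun χ => (a χ : ℤ) * mult B χ 1)
        fun i => mul_nonneg (Int.natCast_nonneg _) (mult_nonneg _ _)
      rw [sum_pair hne, h4, a1, mult_of_eq_one (χ := one) rfl, if_pos rfl] at h1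
      have := mult_nonneg χ (1 : B →* ℂˣ)
      have : (1 : ℤ) ≤ a χ := by omega
      push_cast at h1
      nlinarith
    exact cc_degree hB a h4 h0 m1 (d1 χ) (d0 χ)
  by_cases hx : ∃ χ, χ ≠ one ∧ a χ ≠ 0 ∧ deg χ + 1 = Nat.card B
  · left
    obtain ⟨χ, hne, h0, hd⟩ := hx
    have s1 : ∑ χ', a χ' * deg χ' = Nat.card B := by
      have h1 := H30.fixChar_one (G := G) Ω
      rw [ha2, Finset.sum_apply, cΩ] at h1
      simp only [Pi.smul_apply, smul_eq_mul, d1] at h1
      exact_mod_cast h1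
    have o1 : deg one = 1 := by
      have : (deg one : ℂ) = 1 := (d1 one).symm
      exact_mod_cast this
    have h6 : a χ = 1 := by
      have h1 := sum_le_sum_of_subset (f := fun χ' => a χ' * deg χ') (subset_univ {χ, one})
      rw [sum_pair hne, s1, a1, o1, ← hd] at h1
      have := d0 χ
      have : a χ ≤ 1 := by nlinarith
      omega
    have h7 : ∀ χ', χ' ≠ χ → χ' ≠ one → a χ' = 0 := fun χ' e1 e2 => by
      have h1 := sum_le_sum_of_subset (f := fun χ' => a χ' * deg χ') (subset_univ {χ', χ, one})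
      rw [sum_insert (by simp [e1, e2]), sum_pair hne, s1, a1, o1, h6, ← hd] at h1
      have := d0 χ'
      have h2 : a χ' * deg χ' = 0 := by omega
      exact (Nat.mul_eq_zero.1 h2).resolve_right this.ne'
    refine (Cfsg.Agent.S0157.result Ω ?_).1 ?_
    · rw [cΩ]
      have := d0 χ
      omega
    · have h8 : (fun g : G => (Nat.card (MulAction.fixedBy Ω g) : ℂ) - 1) = (χ : G → ℂ) := by
        funext g
        rw [← H30.fixChar_apply, ha2, Finset.sum_apply, ← sum_subset (subset_univ {χ, one})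
          (fun χ' _ h => by
            rw [mem_insert, mem_singleton, not_or] at h
            simp [h7 χ' h.1 h.2]), sum_pair hne, h6, a1]
        simp [one]
      rw [h8]
      exact χ.2
  · right
    obtain ⟨e, he⟩ := card_dvd_of_le (le_normalizer (H := B))
    refine ⟨e, by rw [he, mul_comm], ?_⟩
    have := Fintype.ofFinite Ω
    refine ((Cfsg.Agent.S0716.result ((1 : G) : Ω)).1 e fun χ hχ hne h0 => ?_).2
    have n1 : (⟨χ, hχ⟩ : IrrCharacter G) ≠ one := fun e => hne (congrArg Subtype.val e)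
    have n2 : a ⟨χ, hχ⟩ ≠ 0 := fun e => h0 ((ha1 ⟨χ, hχ⟩).trans (by rw [e, Nat.cast_zero]))
    have h1 := (h5 _ n1 n2).resolve_left fun e => hx ⟨_, n1, n2, e⟩
    rw [he, mul_comm] at h1
    rw [Nat.eq_of_mul_eq_mul_right Nat.card_pos h1]
    exact d1 ⟨χ, hχ⟩

end H5.ItCH
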