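/- `M₂₄` by its order: the characters of degree `45`. -/
import Cfsg.Agent.H45.M24T
import Cfsg.Agent.H77.M24P4
import Cfsg.Agent.H30.FrobSchur

set_option autoImplicit false
set_option linter.unusedSectionVars false

namespace H5.P5a
open Cfsg H28 H29 H39 H87 H45 H45.MO H45.MN H45.M24
open scoped ComplexConjugate

universe u

variable {G : Type u} [Group G] [Fintype G] {n n1 v : ℕ} {L E : List (IrrCharacter G)}
  {s : IrrCharacter G → ℤ}

/-- the complex conjugate -/
def cj (χ : IrrCharacter G) : IrrCharacter G := ⟨fun g => conj (χ.1 g), χ.2.conj⟩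

theorem dg_cj (χ : IrrCharacter G) : dg (cj χ) = dg χ :=
  charDegree_eq (by simp only [cj, ← coe_dg χ]; exact map_natCast _ _)

theorem iv_cj (χ : IrrCharacter G) (t : G) : iv (cj χ) t = iv χ t := by simp [iv, cj]

theorem split7 (hG : Nat.card G = 244823040) {g : G} (hg : 7 ∣ orderOf g) :
    ∃ x u, x ^ 7 = 1 ∧ x * u = u * x ∧ ¬ 7 ∣ orderOf u ∧ g = x * u := by
  obtain ⟨k, hk⟩ := hg
  have h1 : 7 * k ∣ 244823040 := hk ▸ hG ▸ orderOf_dvd_natCard g
  have h2 : ¬ 7 ∣ k := fun h => by
    have := (Nat.mul_dvd_mul_left 7 h).trans h1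
    omega
  obtain ⟨i, j, e⟩ : IsCoprime (7 : ℤ) k :=
    Nat.isCoprime_iff_coprime.2 ((Nat.Prime.coprime_iff_not_dvd (by norm_num)).2 h2)
  have h3 : g ^ ((7 * k : ℕ) : ℤ) = 1 := by rw [← hk, zpow_natCast, pow_orderOf_eq_one]
  refine ⟨g ^ (j * k), g ^ (i * 7), ?_, by rw [← zpow_add, ← zpow_add, add_comm], fun h => h2 (h.trans
    (orderOf_dvd_of_pow_eq_one ?_)), by rw [← zpow_add, add_comm, e, zpow_one]⟩
  · rw [← zpow_natCast, ← zpow_mul, show j * k * (7 : ℕ) = ((7 * k : ℕ) : ℤ) * j by push_cast; ring,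
      zpow_mul, h3, one_zpow]
  · rw [← zpow_natCast, ← zpow_mul, show i * 7 * k = ((7 * k : ℕ) : ℤ) * i by push_cast; ring,
      zpow_mul, h3, one_zpow]

variable {c ζ θ θ' : IrrCharacter G}

theorem exists_m (hG : Nat.card G = 244823040) (hc : dg c = 2024) (S : S7 c ζ θ θ') {g : G}
    (hg : 7 ∣ orderOf g) : ∃ m : ℤ, θ.1 g * θ'.1 g = m ∧ m % 7 = 2 := by
  obtain ⟨n, v, L, s, -, B, hL⟩ := S.bk
  have h1 := (S.sing g hg).2
  obtain ⟨m, hm⟩ := exists_int_of_forall_fixed
    ((θ.2.isCharacter.isIntegral g).mul (θ'.2.isCharacter.isIntegral g)) fun σ => by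
      have h2 := B.gal_mem (χ := θ) (by simp) σ.toRingHom
      have h3 : dg (⟨_, θ.2.gal σ.toRingHom⟩ : IrrCharacter G) = 990 :=
        charDegree_eq (by simp only [← coe_dg θ, S.dθ]; exact map_natCast σ _)
      have h4 : σ (θ.1 g) + σ (θ'.1 g) = -1 := by rw [← map_add, h1, map_neg, map_one]
      simp only [List.mem_append, hL, List.mem_cons, List.not_mem_nil, or_false] at h2
      rw [map_mul]
      rcases h2 with (e | e) | e | e
      · rw [e, hc] at h3; omega
      · rw [e, S.dζ] at h3; omega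
      · have e' : σ (θ.1 g) = θ.1 g := congrFun (congrArg Subtype.val e) g
        rw [show σ (θ'.1 g) = θ'.1 g by linear_combination h4 - h1 - e', e']
      · have e' : σ (θ.1 g) = θ'.1 g := congrFun (congrArg Subtype.val e) g
        rw [show σ (θ'.1 g) = θ.1 g by linear_combination h4 - h1 - e', e', mul_comm]
  obtain ⟨x, u, hx, hxu, hu, rfl⟩ := split7 hG hg
  have hε := Complex.isPrimitiveRoot_exp 7 (by norm_num)
  have k1 := char_acong_type (by norm_num) hε θ.2.isCharacter hx hxu
  have k2 := char_acong_type (by norm_num) hε θ'.2.isCharacter hx hxu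
  rw [(S.reg u hu).2] at k2
  have k3 := (ACong.sub_zero_iff.2 (k1.trans k2.symm)).mul_left
    ((θ.2.isCharacter.isIntegral (x * u)).sub (θ'.2.isCharacter.isIntegral (x * u)))
  rw [mul_zero, show (θ.1 (x * u) - θ'.1 (x * u)) * (θ.1 (x * u) - θ'.1 (x * u)) = ((1 - 4 * m : ℤ) : ℂ) by
    push_cast; linear_combination (θ.1 (x * u) + θ'.1 (x * u) - 1) * h1 - 4 * hm] at k3
  have := prime_dvd_of_acong (by norm_num) hε k3
  exact ⟨m, hm, by omega⟩

theorem quad (hG : Nat.card G = 244823040) (hc : dg c = 2024) (S : S7 c ζ θ θ') {g : G}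
    (hg : 7 ∣ orderOf g) : θ.1 g ^ 2 + θ.1 g + 2 = 0 := by
  obtain ⟨n, v, L, s, -, B, hL⟩ := S.bk
  obtain ⟨X, Y, δ, ε, R, -, hE, -⟩ := B.raw
  have k1 := R.inner_mul_conj_sg ((hE θ).1 (by simp))
  have k2 := R.inner_mul_conj_sg ((hE θ').1 (by simp))
  have k3 := B.sS_one
  rw [sS_apply] at k3
  let F : G → ℝ := fun g => if 7 ∣ orderOf g then ‖θ.1 g‖ ^ 2 + ‖θ'.1 g‖ ^ 2 - 4 else 0
  have h0 : ∑ g, F g = 0 := by
    have : ((∑ g, F g : ℝ) : ℂ) = ∑ g, ((θ.1 * fun g => conj (θ.1 g)) g * conj (H87.sg 7 g) +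
        (θ'.1 * fun g => conj (θ'.1 g)) g * conj (H87.sg 7 g) - 4 * ((one G).1 g * conj (H87.sg 7 g))) := by
      rw [Complex.ofReal_sum]
      refine Finset.sum_congr rfl fun g _ => ?_
      simp only [F, H87.sg, Pi.mul_apply, Complex.mul_conj']
      split_ifs <;> simp
    rw [Finset.sum_sub_distrib, Finset.sum_add_distrib, ← Finset.mul_sum, ← card_mul_classInner,
      ← card_mul_classInner, ← card_mul_classInner] at this
    have h7 : (7 : ℂ) * ((∑ g, F g : ℝ) : ℂ) = 0 := by
      rw [this]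
      norm_num at k1 k2 k3
      linear_combination (Nat.card G : ℂ) * (k1 + k2 - 4 * k3)
    exact_mod_cast (mul_eq_zero.1 h7).resolve_left (by norm_num)
  have hm : ∀ g, 7 ∣ orderOf g → ∃ m : ℤ, θ.1 g * θ'.1 g = m ∧ m % 7 = 2 ∧ 2 * |(m : ℝ)| - 4 ≤ F g :=
    fun g hg => by
      obtain ⟨m, h1, h2⟩ := exists_m hG hc S hg
      refine ⟨m, h1, h2, ?_⟩
      have := congrArg norm h1
      rw [norm_mul, Complex.norm_intCast] at this
      simp only [F, if_pos hg]
      nlinarith [sq_nonneg (‖θ.1 g‖ - ‖θ'.1 g‖)]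
  have h1 := (Finset.sum_eq_zero_iff_of_nonneg fun g _ => by
    by_cases hg : 7 ∣ orderOf g
    · obtain ⟨m, -, h2, h3⟩ := hm g hg
      have : (2 : ℝ) ≤ |(m : ℝ)| := by
        rw [← Int.cast_abs]; exact_mod_cast (by rw [le_abs]; omega : (2 : ℤ) ≤ |m|)
      linarith
    · simp only [F, if_neg hg, le_refl]).1 h0 g (Finset.mem_univ g)
  obtain ⟨m, h2, h3, h4⟩ := hm g hg
  have h5 : |m| ≤ 2 := by
    have : |(m : ℝ)| ≤ 2 := by linarith
    rw [← Int.cast_abs] at this; exact_mod_cast this
  obtain rfl : m = 2 := by rw [abs_le] at h5; omega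
  push_cast at h2
  linear_combination θ.1 g * (S.sing g hg).2 - h2

theorem conj_root {α : ℂ} (h : α ^ 2 + α + 2 = 0) : conj α = -1 - α := by
  have h1 := congrArg Complex.re h
  have h2 := congrArg Complex.im h
  simp [pow_two] at h1 h2
  have h3 : α.im ≠ 0 := fun e => by rw [e] at h1; nlinarith [sq_nonneg (α.re + 1 / 2)]
  have h4 : α.re = -1 / 2 := by
    have : α.im * (2 * α.re + 1) = 0 := by linarith
    rcases mul_eq_zero.1 this with e | e
    · exact absurd e h3
    · linarith
  apply Complex.ext <;> simp [h4]; norm_num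

theorem conj_ne {α : ℂ} (h : α ^ 2 + α + 2 = 0) : conj α ≠ α := fun e => by
  rw [conj_root h] at e
  have : α = -1 / 2 := by linear_combination -e / 2
  rw [this] at h
  norm_num at h

/-- the signed degrees for the prime `23` -/
def X23 : List ℤ := [-22, 24, -45, 70, -160, 231, -252, -528, 576, -896, 990, -1080, -1540, 1680,
  3520, -3840, 5544, -6048, -10395, -12672, 13824]

theorem X23_spec : ((List.range 15648).all fun k => k == 1 || 10644480 % k != 0 ||
    ((k % 23 != 1 || X23.contains (k : ℤ)) && (k % 23 != 22 || X23.contains (-(k : ℤ))))) = true := by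
  decide +kernel

theorem XX_spec : ∀ a ∈ X23, ∀ b ∈ X23, 10644480 % (11233 + a + b).natAbs = 0 →
    (11233 + a + b) % 23 = 11 → 244823040 < 36680041 + s2 a + s2 b + 2 * s2 (11233 + a + b) := by
  decide +kernel

theorem no_six (hG : Nat.card G = 244823040) (A : Bk 23 n 11 1 L E s) {W : List (IrrCharacter G)}
    (nd : W.Nodup) (hW : W.map dg = [990, 990, 990, 990, 990, 990, 5544, 252]) : False := by
  obtain rfl : n = 967680 := by
    have := List.all_eq_true.1 H77.P4.n23 _ (hG ▸ A.mem)
    simpa using this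
  have k : ∀ χ ∈ W, χ ∈ L ∧ s χ * iv χ 1 = if dg χ = 252 then (-252 : ℤ) else (dg χ : ℤ) := fun χ h => by
    have : dg χ ∈ [990, 990, 990, 990, 990, 990, 5544, 252] := hW ▸ List.mem_map_of_mem h
    simp only [List.mem_cons, List.not_mem_nil, or_false] at this
    refine H77.P4.mem_L A ?_ ?_ ?_ <;> split_ifs <;> omega
  obtain ⟨W', p1, p2⟩ := List.subperm_of_subset nd fun χ h => (k χ h).1
  obtain ⟨R, p3⟩ := p2.exists_perm_append
  have p4 := (p3.trans (p1.append_right R)).map fun χ => s χ * iv χ 1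
  have e : (W.map fun χ => s χ * iv χ 1) = [990, 990, 990, 990, 990, 990, 5544, -252] := by
    rw [List.map_congr_left fun χ h => (k χ h).2,
      show (fun χ : IrrCharacter G => if dg χ = 252 then (-252 : ℤ) else dg χ) =
        (fun d : ℕ => if d = 252 then (-252 : ℤ) else d) ∘ dg from rfl, ← List.map_map, hW]
    rfl
  have H := A.deg (fun _ => true) fun _ _ => rfl
  rw [List.map_append, e] at p4
  change (cl s L 1).Perm _ at p4
  generalize cl s L 1 = D at H p4
  generalize (R.map fun χ => s χ * iv χ 1) = D' at p4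
  have hl := p4.length_eq
  have hl' := H.len
  obtain ⟨a, b, rfl⟩ : ∃ a b, D' = [a, b] := List.length_eq_two.1 (by simp at hl; omega)
  have e1 : 1 + D.sum = 11233 + a + b := by rw [p4.sum_eq]; simp; ring
  have e2 : ss D = 36680040 + s2 a + s2 b := by
    rw [ss, (p4.map s2).sum_eq]; simp [s2]; ring
  have h1 := H.sum
  have h2 := H.md
  have h3 := H.dv
  rw [e1] at h1 h2 h3
  rw [e2, hG] at h1
  have m : ∀ d ∈ D, s2 d ≤ 244823040 → d ∈ X23 := fun d hd h => by
    obtain ⟨k1, k2, k3, -⟩ := H.mem d hd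
    have h' : d.natAbs * d.natAbs ≤ 244823040 := h
    have := List.all_eq_true.1 X23_spec d.natAbs (List.mem_range.2 (by nlinarith))
    simp only [Bool.or_eq_true, beq_iff_eq, bne_iff_ne, Bool.and_eq_true, List.contains_eq_mem,
      decide_eq_true_eq] at this
    rcases this with (h | h) | ⟨h4, h5⟩
    · omega
    · exact absurd (Nat.mod_eq_zero_of_dvd k1) h
    · rcases Int.natAbs_eq d with e | e
      · rw [e]; exact h4.resolve_left (by omega)
      · rw [e]; exact h5.resolve_left (by omega)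
  have := XX_spec a (m a (p4.mem_iff.2 (by simp)) (by omega)) b (m b (p4.mem_iff.2 (by simp)) (by omega))
    (Nat.mod_eq_zero_of_dvd h3) (by omega)
  omega

theorem lk_cj {χ ψ : IrrCharacter G} (h : ∀ g, conj (ψ.1 g) = ψ.1 g) (k : Lk (cj χ) ψ) : Lk χ ψ := by
  intro e
  refine k ?_
  have : classInner (pRegularPart 3 (cj χ).1) ψ.1 = conj (classInner (pRegularPart 3 χ.1) ψ.1) := by
    simp only [classInner, map_mul, map_inv₀, map_natCast, map_sum, h]
    congr 1
    refine Finset.sum_congr rfl fun g _ => ?_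
    unfold pRegularPart
    split_ifs <;> simp [cj]
  rw [this, e, map_zero]

theorem sym_irr {a b c d ρ β : IrrCharacter G} (S : S5 a b c d ρ) (h : dg β = 45) :
    IsIrrCharacter G fun g => (β.1 g ^ 2 + β.1 (g * g)) / 2 := by
  have h1 := H30.isCharacter_symSq β.2.isCharacter
  have h2 := H30.isCharacter_altSq β.2.isCharacter
  have n1 : (one G).1 ≠ c.1 := fun e => by
    have := S.dc; rw [← Subtype.ext e, dg_one] at this; omega
  have e : classInner ((fun g => (β.1 g ^ 2 + β.1 (g * g)) / 2) + fun g => (β.1 g ^ 2 - β.1 (g * g)) / 2)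
      ((fun g => (β.1 g ^ 2 + β.1 (g * g)) / 2) + fun g => (β.1 g ^ 2 - β.1 (g * g)) / 2) =
      classInner ((one G).1 + c.1) ((one G).1 + c.1) := by
    simp only [classInner]
    congr 1
    refine Finset.sum_congr rfl fun g _ => ?_
    have k := S.mul45 h g
    have k' := congrArg conj k
    simp only [map_mul, Complex.conj_conj] at k'
    simp only [Pi.add_apply]
    rw [← k', ← k, show (β.1 g ^ 2 + β.1 (g * g)) / 2 + (β.1 g ^ 2 - β.1 (g * g)) / 2 = β.1 g ^ 2 by ring,
      map_pow]
    ring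
  have p : ∀ {ξ : G → ℂ}, IsCharacter G ξ → ξ 1 ≠ 0 → ∃ k : ℕ, 0 < k ∧ classInner ξ ξ = k := fun h h1 => by
    obtain ⟨k, hk⟩ := h.classInner_nat h
    refine ⟨k, Nat.pos_of_ne_zero fun e => h1 ?_, hk⟩
    rw [e, Nat.cast_zero, classInner_self_eq_zero] at hk
    rw [hk]; rfl
  have b1 : β.1 1 = 45 := by rw [← coe_dg, h]; rfl
  obtain ⟨i, hi, e1⟩ := p h1 (by simp only [mul_one, b1]; norm_num)
  obtain ⟨j, hj, e2⟩ := p h2 (by simp only [mul_one, b1]; norm_num)
  obtain ⟨k, e3⟩ := h1.classInner_nat h2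
  obtain ⟨l, e4⟩ := h2.classInner_nat h1
  simp only [classInner_add_left, classInner_add_right] at e
  rw [e1, e2, e3, e4, (one G).2.classInner_self, c.2.classInner_self, (one G).2.classInner_of_ne c.2 n1,
    c.2.classInner_of_ne (one G).2 n1.symm] at e
  have e5 : i + l + (k + j) = 2 := by exact_mod_cast e
  exact h1.irr_of_norm_one (by rw [e1, show i = 1 by omega, Nat.cast_one])

theorem jobP5a : JobP5a.{u} := by
  rintro G _ _ _ hG ⟨n, L, E, s, A⟩ ⟨n1, L1, E1, s1, B⟩ T a b c d ρ ζ θ θ' S R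
  have q := fun g hg => quad hG S.dc R (g := g) hg
  obtain ⟨n7, v, L7, s7, hv, C, hL⟩ := R.bk
  obtain ⟨w, hw⟩ := C.exists_ord
  obtain ⟨y, -, -, hg⟩ := C.exists_both (q := 3) (by norm_num) (by norm_num)
    (by simp only [List.mem_cons, List.not_mem_nil, or_false] at hv; omega) hw
  generalize y * w = g at hg
  have qw := q w (by omega)
  have qg := q g (by omega)
  have dθ := R.dθ
  rcases tri_cases hG A B T (χ := θ) (by omega) (by omega) with ⟨x, y, z, h1, U⟩ | ⟨y, z, U⟩
  · have h2 := U.deg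
    have h3 : 990 ∈ [dg x, dg y, dg z] := dθ ▸ List.mem_map_of_mem (f := dg) h1
    have h4 : (dg x = 45 ∧ dg y = 990 ∧ dg z = 1035) ∨ (dg x = 495 ∧ dg y = 495 ∧ dg z = 990) ∨
        (dg x = 990 ∧ dg y = 4554 ∧ dg z = 5544) := by
      simp only [trs, List.mem_cons, List.not_mem_nil, or_false, Prod.mk.injEq] at h2 h3
      omega
    simp only [List.mem_cons, List.not_mem_nil, or_false] at h1
    obtain ⟨g1, g2⟩ := U.sing g (by omega)
    rcases h4 with ⟨d1, d2, d3⟩ | ⟨d1, d2, d3⟩ | ⟨d1, d2, d3⟩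
    · obtain rfl : θ = y := by rcases h1 with rfl | rfl | rfl <;> first | rfl | omega
      have hζ : ∀ g, (iv ζ g : ℂ) = ζ.1 g := C.int_of_uniq (by simp [hL]) fun ψ h e => by
        simp only [List.mem_append, hL, List.mem_cons, List.not_mem_nil, or_false] at h
        have := S.dc
        have := R.dζ
        have := R.dθ'
        rcases h with (rfl | rfl) | rfl | rfl <;> first | rfl | omega
      have rζ : ∀ g, conj (ζ.1 g) = ζ.1 g := fun g => by rw [← hζ, map_intCast]
      rw [g1] at qg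
      have cg := conj_root qg
      have ng := conj_ne qg
      have ζg := (R.sing g (by omega)).1
      have n1 : ζ ≠ z := fun e => by
        rw [e, g2, neg_inj] at ζg
        rw [ζg] at qg; norm_num at qg
      have n2 : ζ ≠ cj z := fun e => by
        have : conj (z.1 g) = -1 := by rw [e] at ζg; exact ζg
        rw [g2, map_neg, neg_inj, cg] at this
        rw [show x.1 g = -2 by linear_combination -this] at qg; norm_num at qg
      have dζ := R.dζ
      have nl : ∀ χ ∈ [x, θ, z], ¬ Lk χ ζ := fun χ h k => by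
        have := (U.lk χ h ζ).2 k
        simp only [List.mem_cons, List.not_mem_nil, or_false] at this
        rcases this with rfl | rfl | e
        exacts [by omega, by omega, n1 e]
      have o2 : orderOf (g * g) = 21 := by
        rw [← pow_two, Nat.Coprime.orderOf_pow (by rw [hg]; norm_num), hg]
      have q2 := q (g * g) (by omega)
      rw [(U.sing (g * g) (by omega)).1] at q2
      have q3 : x.1 (g * g) = x.1 g ∨ x.1 (g * g) = -1 - x.1 g := by
        have : (x.1 (g * g) - x.1 g) * (x.1 (g * g) - (-1 - x.1 g)) = 0 := by linear_combination q2 - qg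
        exact (mul_eq_zero.1 this).imp sub_eq_zero.1 sub_eq_zero.1
      have dx := dg_cj x
      have dz := dg_cj z
      have x1 : x.1 1 = 45 := by rw [← coe_dg, d1]; rfl
      refine ⟨x, cj x, z, cj z, ⟨_, sym_irr S d1⟩, ?_, ?_, ⟨fun e => ?_, fun e => ?_⟩, ?_, fun t ht => ?_⟩
      · have : dg (⟨_, sym_irr S d1⟩ : IrrCharacter G) = 1035 :=
          charDegree_eq (by simp only [mul_one, x1]; norm_num)
        simp [*]
      · have m1 : x ≠ cj x := fun e => ng (congrFun (congrArg Subtype.val e) g).symm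
        have m2 : z ≠ cj z := fun e => ng (by
          have : z.1 g = conj (z.1 g) := congrFun (congrArg Subtype.val e) g
          rwa [g2, map_neg, neg_inj, eq_comm] at this)
        have m3 : ∀ χ ψ : IrrCharacter G, dg χ = 45 → dg ψ = 1035 → χ ≠ ψ := fun χ ψ h h' e => by
          rw [e] at h; omega
        simp [m1, m2, n1, n2, m3, d1, d3, dx, dz, dζ]
      · have : (x.1 g ^ 2 + x.1 (g * g)) / 2 = z.1 g := congrFun (congrArg Subtype.val e) g
        rw [g2] at this
        rcases q3 with e' | e' <;> rw [e'] at this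
        · rw [show x.1 g = 1 by linear_combination this - qg / 2] at qg; norm_num at qg
        · exact absurd (show (3 : ℂ) = 0 by linear_combination qg - 2 * this) (by norm_num)
      · have : (x.1 g ^ 2 + x.1 (g * g)) / 2 = conj (z.1 g) := congrFun (congrArg Subtype.val e) g
        rw [g2, map_neg, cg] at this
        rcases q3 with e' | e' <;> rw [e'] at this
        · rw [show x.1 g = -2 by linear_combination qg / 2 - this] at qg; norm_num at qg
        · rw [show x.1 g = -5 / 4 by linear_combination qg / 4 - this / 2] at qg; norm_num at qg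
      · simp only [List.forall_mem_cons, List.not_mem_nil, false_imp_iff, implies_true, and_true]
        exact ⟨nl x (by simp), fun k => nl x (by simp) (lk_cj rζ k), nl z (by simp),
          fun k => nl z (by simp) (lk_cj rζ k)⟩
      · have i := ic_inv ht
        have e1 := U.reg t (reg2 (by norm_num) (by norm_num) ht)
        rw [← i, ← i, ← i] at e1
        have e2 := i ⟨_, sym_irr S d1⟩
        simp only [ht, x1, ← i x] at e2
        refine ⟨iv_cj x t, by exact_mod_cast e1.symm, iv_cj z t, ?_⟩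
        have : (2 : ℂ) * (iv ⟨_, sym_irr S d1⟩ t : ℂ) = (iv x t : ℂ) ^ 2 + 45 := by rw [e2]; ring
        exact_mod_cast this
    · obtain rfl : θ = z := by rcases h1 with rfl | rfl | rfl <;> first | rfl | omega
      have mE : ∀ χ : IrrCharacter G, dg χ = 495 → χ ∈ E := fun χ h =>
        A.mem_E (by omega) (by omega) fun h1 => by
          obtain ⟨d, h2, h3⟩ := List.mem_map.1 h1
          have := ((A.deg (fun _ => true) fun _ _ => rfl).mem d h2).2.1
          omega
      have e1 := A.uni x (mE x d1) y (mE y d2) w (by omega)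
      have e2 := U.reg w (by omega)
      have e3 : (2 : ℂ) * (x.1 w * conj (x.1 w)) = 1 := by
        have := conj_root qw
        rw [← e2, ← e1] at qw this
        rw [map_add] at this
        linear_combination x.1 w * this - qw / 2
      have := ACong.int_dvd (m := 2) (n := 1) ⟨_, (x.2.isCharacter.isIntegral w).mul
        (x.2.isCharacter.conj.isIntegral w), by push_cast; linear_combination -e3⟩
      omega
    · obtain rfl : θ = x := by rcases h1 with rfl | rfl | rfl <;> first | rfl | omega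
      rw [C.zero (χ := z) (by omega) (by omega), eq_comm, neg_eq_zero] at g2
      rw [g2] at qg; norm_num at qg
  · obtain ⟨e1, e2⟩ := U.reg w (by omega)
    have nw := conj_ne qw
    have da := S.da
    have dρ := S.dρ
    have dy := U.dy
    have dz := U.dz
    have inj : ∀ χ ψ : IrrCharacter G, cj χ = cj ψ ↔ χ = ψ := fun χ ψ => ⟨fun e => Subtype.ext
      (funext fun g => (starRingEnd ℂ).injective (congrFun (congrArg Subtype.val e) g)), congrArg cj⟩
    have m : ∀ χ ψ : IrrCharacter G, χ.1 w = θ.1 w → ψ.1 w = θ.1 w → χ ≠ cj ψ := fun χ ψ h h' e => nw (by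
      have : χ.1 w = conj (ψ.1 w) := congrFun (congrArg Subtype.val e) w
      rw [← h', ← this, h, h'])
    have m' : ∀ χ ψ : IrrCharacter G, dg χ ≠ dg ψ → χ ≠ ψ := fun χ ψ h e => h (congrArg dg e)
    have nd := U.nd
    refine (no_six hG A (W := [θ, y, z, cj θ, cj y, cj z, a, ρ]) ?_ (by simp [dg_cj, *])).elim
    simp only [List.nodup_cons, List.mem_cons, List.not_mem_nil, or_false, not_or, inj,
      List.nodup_nil, not_false_eq_true, and_true] at nd ⊢
    refine ⟨⟨nd.1.1, nd.1.2, m _ _ rfl rfl, m _ _ rfl e1, m _ _ rfl e2, ?_, ?_⟩,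
      ⟨nd.2, m _ _ e1 rfl, m _ _ e1 e1, m _ _ e1 e2, ?_, ?_⟩,
      ⟨m _ _ e2 rfl, m _ _ e2 e1, m _ _ e2 e2, ?_, ?_⟩, ⟨nd.1.1, nd.1.2, ?_, ?_⟩, ⟨nd.2, ?_, ?_⟩,
      ⟨?_, ?_⟩, ?_⟩ <;> refine m' _ _ ?_ <;> (try rw [dg_cj]) <;> omega

end H5.P5a
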