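import Cfsg.Agent.H48.DC4Spec
import Cfsg.Agent.H11.FBSpec

/-! The second parabolic in the `L₃(2)` configuration. -/

set_option autoImplicit false

namespace H5.DPSU

open Subgroup Cfsg H98 H48.DP H57.DPC H48.DP2
open scoped commutatorElement

universe u

section conj

variable {G : Type u} [Group G]

theorem exS (g : G) (B : Subgroup G) : ∃ B₀, cj g B₀ = B := ⟨_, cj_cj_inv g B⟩

theorem exE (g x : G) : ∃ x₀, g * x₀ * g⁻¹ = x := ⟨g⁻¹ * x * g, by group⟩

theorem cj_zp (g x : G) : cj g (zpowers x) = zpowers (g * x * g⁻¹) := MonoidHom.map_zpowers _ _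

theorem ord_cj (g x : G) : orderOf (g * x * g⁻¹) = orderOf x := (MulAut.conj g).orderOf_eq x

theorem cj_C1 (g x : G) : cj g (C1 x) = C1 (g * x * g⁻¹) := by
  ext a
  rw [mem_cj, mem_centralizer_singleton_iff, mem_centralizer_singleton_iff]
  constructor
  · intro h
    calc a * (g * x * g⁻¹) = g * (g⁻¹ * a * g * x) * g⁻¹ := by group
      _ = g * x * g⁻¹ * a := by rw [h]; group
  · intro h
    calc g⁻¹ * a * g * x = g⁻¹ * (a * (g * x * g⁻¹)) * g := by group
      _ = x * (g⁻¹ * a * g) := by rw [h]; group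

theorem e27_cj {B : Subgroup G} (h : E27 B) (g : G) : E27 (cj g B) := by
  obtain ⟨⟨h1, h2⟩, h3⟩ := h
  refine ⟨⟨inferInstance, ?_⟩, by rwa [card_cj]⟩
  rintro _ ⟨b, hb, rfl⟩
  rw [← map_pow, h2 b hb, map_one]

theorem e27_of {B : Subgroup G} {g : G} (h : E27 (cj g B)) : E27 B := by
  simpa only [cj_inv_cj] using e27_cj h g⁻¹

theorem inU_cj {M A : Subgroup G} (h : InU M A) (g : G) : InU (cj g M) (cj g A) := by
  obtain ⟨B, h1, h2, h3⟩ := h
  exact ⟨cj g B, cj_mono g h1, e27_cj h2 g, cj_mono g h3⟩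

theorem inU_of {M A : Subgroup G} {g : G} (h : InU (cj g M) (cj g A)) : InU M A := by
  simpa only [cj_inv_cj] using inU_cj h g⁻¹

theorem good_of {x g : G} (h : Good (g * x * g⁻¹)) : Good x := by
  obtain ⟨B, h1, h2⟩ := h
  obtain ⟨B, rfl⟩ := exS g B
  exact ⟨B, e27_of h1, conj_mem_cj_iff.1 h2⟩

theorem pg_of {p : ℕ} {B : Subgroup G} {g : G} (h : IsPGroup p (cj g B)) : IsPGroup p B := by
  have := isPGroup_cj g⁻¹ h
  rwa [cj_inv_cj] at this

theorem ua_cj {M Q : Subgroup G} (h : Ua M Q) (g : G) : Ua (cj g M) (cj g Q) where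
  toHyp2 := h.toHyp2
  h1 := h.h1
  no := by rw [← h.no, cj_normalizer]
  o2 := by rw [← h.o2, cj_pCoreOf]
  nt := fun e => h.nt (cj_eq_bot_iff.1 e)
  cq := by
    have := cj_mono g h.cq
    rwa [cj_centralizer] at this
  e27 := by
    obtain ⟨B, h1, h2⟩ := h.e27
    exact ⟨cj g B, cj_mono g h1, e27_cj h2 g⟩
  t27 := by
    intro B k h1 h2 h3
    obtain ⟨B, rfl⟩ := exS g B
    obtain ⟨k, rfl⟩ := exE g k
    refine conj_mem_cj (h.t27 B k (e27_of h1) (cj_le_cj_iff.1 h2) (cj_le_cj_iff (g := g).1 ?_))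
    rwa [cj_cj, inv_mul_cancel_right, ← cj_cj] at h3
  n9 := by
    intro A h1 h2
    obtain ⟨A, rfl⟩ := exS g A
    rw [card_cj] at h2
    have := cj_mono g (h.n9 A (inU_of h1) h2)
    rwa [cj_normalizer] at this
  dq := by
    intro x h1 h2
    obtain ⟨x, rfl⟩ := exE g x
    rw [ord_cj] at h1
    rw [← cj_zp] at h2
    have := congrArg (cj g) (h.dq x h1 (inU_of h2))
    rwa [cj_pCoreOf, cj_inf, cj_C1] at this

theorem ub_cj {M Q : Subgroup G} (h : Ub M Q) (g : G) : Ub (cj g M) (cj g Q) where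
  toUa := ua_cj h.toUa g
  loc := by
    intro H B h1 h2 h3
    obtain ⟨H, rfl⟩ := exS g H
    obtain ⟨B, rfl⟩ := exS g B
    rw [← cj_inf] at h3
    exact cj_mono g (h.loc H B (fun e => h1 (by rw [e, cj_top])) (e27_of h2) (cj_le_cj_iff.1 h3))
  tg := by
    intro x k h1 h2 h3 h4
    obtain ⟨x, rfl⟩ := exE g x
    obtain ⟨k, rfl⟩ := exE g k
    rw [ord_cj] at h1
    refine conj_mem_cj (h.tg x k h1 (good_of h2) (conj_mem_cj_iff.1 h3)
      ((conj_mem_cj_iff (g := g)).1 ?_))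
    convert h4 using 1
    group

theorem bd_cj {M Q : Subgroup G} {y z u : G} (h : Bd M Q y z u) (g : G) :
    Bd (cj g M) (cj g Q) (g * y * g⁻¹) (g * z * g⁻¹) (g * u * g⁻¹) where
  toUb := ub_cj h.toUb g
  syl := by
    obtain ⟨P, h1, h2, h3, h4, h5, h6, h7⟩ := h.syl
    have e : ((g • P : Sylow 3 G) : Subgroup G) = cj g P := by
      rw [Sylow.coe_subgroup_smul, cj_eq_smul]
    refine ⟨g • P, ?_⟩
    rw [e, ← cj_C1, ← cj_C1, ← cj_zp, ← cj_zp, ← cj_sup]
    refine ⟨cj_mono g h1, conj_mem_cj h2, conj_mem_cj h3, conj_mem_cj h4, cj_mono g h5, ?_, ?_⟩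
    · have := cj_mono g h6
      rwa [cj_normalizer] at this
    · intro R r1 r2 r3
      obtain ⟨R, rfl⟩ := exS g R
      rw [← cj_inf] at r2
      exact cj_mono g (h7 R (pg_of r1) (cj_le_cj_iff.1 r2) (cj_le_cj_iff.1 r3))
  y3 := by rw [ord_cj, h.y3]
  z3 := by rw [ord_cj, h.z3]
  u3 := by rw [ord_cj, h.u3]
  uy := by
    calc _ = g * (u * y * u⁻¹) * g⁻¹ := by group
      _ = _ := by rw [h.uy]; group
  bad := fun e => h.bad (good_of e)
  uU := by
    rw [← cj_zp, ← cj_zp, ← cj_sup]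
    exact inU_cj h.uU g
  iso := by
    intro X h1 h2 h3 h4
    obtain ⟨X, rfl⟩ := exS g X
    simp only [No, ← cj_normalizer, conj_mem_cj_iff] at h3 h4
    exact cj_mono g (h.iso X (cj_le_cj_iff.1 h1) (pg_of h2) h3 h4)

end conj

section pull

variable {G : Type u} [Group G] {L J : Subgroup G} {Λ : Type} [Group Λ] (f : L →* Λ)

/-- The preimage in `G` of a subgroup of the quotient. -/
def pb (U : Subgroup Λ) : Subgroup G := (U.comap f).map L.subtype

/-- The image in the quotient. -/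
abbrev im (S : Subgroup G) : Subgroup Λ := (S.subgroupOf L).map f

variable {f}

theorem mem_pb {U : Subgroup Λ} (g : L) : (g : G) ∈ pb f U ↔ f g ∈ U :=
  ⟨fun ⟨a, ha, e⟩ => (Subtype.ext e : a = g) ▸ ha, fun h => ⟨g, h, rfl⟩⟩

theorem pb_le (U : Subgroup Λ) : pb f U ≤ L := map_subtype_le _

theorem pb_mono {U V : Subgroup Λ} (h : U ≤ V) : pb f U ≤ pb f V := map_mono (comap_mono h)

theorem pb_im (hk : f.ker = J.subgroupOf L) {S : Subgroup G} (h1 : J ≤ S) (h2 : S ≤ L) :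
    pb f (im f S) = S := by
  rw [pb, comap_map_eq_self (hk ▸ comap_mono h1), map_subgroupOf_eq_of_le h2]

theorem im_pb (hs : Function.Surjective f) (U : Subgroup Λ) : im f (pb f U) = U := by
  rw [im, pb, subgroupOf, comap_map_eq_self_of_injective L.subtype_injective,
    map_comap_eq_self_of_surjective hs]

theorem pb_bot (hk : f.ker = J.subgroupOf L) (hJ : J ≤ L) : pb f ⊥ = J := by
  rw [pb, MonoidHom.comap_bot, hk, map_subgroupOf_eq_of_le hJ]

theorem pb_sup_zp (hs : Function.Surjective f) (U : Subgroup Λ) (g : L) :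
    pb f (U ⊔ zpowers (f g)) = pb f U ⊔ zpowers (g : G) := by
  have : (U ⊔ zpowers (f g)).comap f = U.comap f ⊔ zpowers g := by
    rw [← comap_map_eq_self (f := f) (H := U.comap f ⊔ zpowers g)
      ((ker_le_comap f U).trans le_sup_left), Subgroup.map_sup, map_comap_eq_self_of_surjective hs,
      MonoidHom.map_zpowers]
  rw [pb, this, Subgroup.map_sup, MonoidHom.map_zpowers]
  rfl

theorem pb_cj (U : Subgroup Λ) (g : L) : cj (g : G) (pb f U) = pb f (cj (f g) U) := by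
  ext x
  rw [mem_cj]
  constructor
  · intro h
    have hx : x ∈ L := by
      have := L.mul_mem (L.mul_mem g.2 (pb_le U h)) (L.inv_mem g.2)
      simpa [mul_assoc] using this
    lift x to L using hx
    have := (mem_pb (g⁻¹ * x * g)).1 h
    rw [map_mul, map_mul, map_inv] at this
    exact (mem_pb x).2 (mem_cj.2 this)
  · intro h
    lift x to L using pb_le _ h
    refine (mem_pb (g⁻¹ * x * g)).2 ?_
    rw [map_mul, map_mul, map_inv]
    exact mem_cj.1 ((mem_pb x).1 h)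

theorem pb_no (hs : Function.Surjective f) (U : Subgroup Λ) (g : L) :
    (g : G) ∈ No (pb f U) ↔ f g ∈ No U := by
  rw [← cj_eq_self_iff, ← cj_eq_self_iff, pb_cj]
  refine ⟨fun e => ?_, fun e => by rw [e]⟩
  have := congrArg (im f) e
  rwa [im_pb hs, im_pb hs] at this

theorem pb_idx (hs : Function.Surjective f) (hk : f.ker = J.subgroupOf L) (hJ : J ≤ L)
    (U : Subgroup Λ) : J.relIndex (pb f U) = Nat.card U := by
  rw [← pb_bot hk hJ, pb, pb, relIndex_map_map_of_injective _ _ L.subtype_injective,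
    relIndex_comap, map_comap_eq_self_of_surjective hs, relIndex_bot_left]

theorem pb_pg (hk : f.ker = J.subgroupOf L) (hJ : IsPGroup 2 J) {U : Subgroup Λ}
    (h : IsPGroup 2 U) : IsPGroup 2 (pb f U) :=
  (h.comap_of_ker_isPGroup f (hk ▸ hJ.comap_subtype)).map _

end pull

/-- Adjusting an element that inverts `x` modulo a 2-group. -/
theorem adjust {G : Type u} [Group G] [Finite G] {J : Subgroup G} (hJ : IsPGroup 2 J) {x x' : G}
    (h3 : orderOf x = 3) (h3' : orderOf x' = 3) (hx : x ∈ No J) (hj : x * x' ∈ J) :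
    ∃ c ∈ J, c * x' * c⁻¹ ∈ zpowers x := by
  have : Fact (Nat.Prime 3) := ⟨Nat.prime_three⟩
  have : Fact (Nat.Prime 2) := ⟨Nat.prime_two⟩
  have pg : ∀ w : G, orderOf w = 3 → IsPGroup 3 (zpowers w) := fun w hw =>
    IsPGroup.of_card (n := 1) (by rw [Nat.card_zpowers, hw, pow_one])
  have dec : ∀ g ∈ zpowers x ⊔ J, ∃ a ∈ zpowers x, ∃ c ∈ J, a * c = g := fun g hg => by
    rw [← SetLike.mem_coe, coe_mul_of_left_le_normalizer_right _ _ (zpowers_le.2 hx)] at hg
    exact hg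
  have sy : IsSyl 3 (zpowers x) (zpowers x ⊔ J) := by
    refine ⟨le_sup_left, pg x h3, fun R r1 r2 r3 => le_antisymm (fun r hr => ?_) r2⟩
    obtain ⟨a, ha, c, hc, rfl⟩ := dec r (r3 hr)
    have m : c ∈ R := by simpa using R.mul_mem (R.inv_mem (r2 ha)) hr
    have : c = 1 := disjoint_def.1 (IsPGroup.disjoint_of_ne 3 2 (by decide) R J r1 hJ) m hc
    rwa [this, mul_one]
  have m : x' ∈ zpowers x ⊔ J := by
    simpa using mul_mem (mem_sup_left (inv_mem (mem_zpowers x))) (mem_sup_right (S := zpowers x) hj)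
  obtain ⟨g, hg, e⟩ := sy.exists_cj_le (pg x' h3') (zpowers_le.2 m)
  obtain ⟨a, ha, c, hc, rfl⟩ := dec g hg
  refine ⟨c, hc, ?_⟩
  have := mul_mem (mul_mem (inv_mem ha) (e (conj_mem_cj (mem_zpowers x')))) ha
  convert this using 1
  group

theorem job : JSU.{u} := by
  intro G _ _ M Q J L y z u h
  obtain ⟨f, z, hs, hk, rfl, h7, -, o3⟩ := h.md
  have JL := h.lt.JL
  have eB : pb f (im f (Q ⊓ L)) = Q ⊓ L := pb_im hk (le_inf h.lt.JQ JL) inf_le_right
  set B := im f (Q ⊓ L)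
  have kerJ : ∀ g : L, f g = 1 ↔ (g : G) ∈ J := fun g => by
    rw [← MonoidHom.mem_ker, hk, mem_subgroupOf]
  have inM : ∀ g : L, (g : G) ∈ M ↔ f g ∈ No B := fun g => by
    rw [← pb_no hs, eB]
    exact ⟨fun e => (h.p2.le ⟨g.2, e⟩).2, fun e => (h.p2.ge ⟨g.2, e⟩).2⟩
  have nB : ¬ ⊤ ≤ No B := fun e => by
    have := h7.idx
    rw [top_le_iff.1 e, index_top] at this
    exact absurd this (by decide)
  have lift : ∀ a : P7, ∃ l : L, (l : G) ∈ C1 y ∧ f l = a := fun a => by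
    obtain ⟨l, rfl⟩ := hs a
    have m := h.l0 l.2
    rw [← SetLike.mem_coe, coe_mul_of_right_le_normalizer_left _ _
      (inf_le_left.trans h.lt.LN)] at m
    obtain ⟨j, hj, c, hc, e⟩ := m
    refine ⟨⟨c, hc.1⟩, hc.2, ?_⟩
    have : l = ⟨j, JL hj⟩ * ⟨c, hc.1⟩ := Subtype.ext e.symm
    rw [this, map_mul, (kerJ ⟨j, JL hj⟩).2 hj, one_mul]
  obtain ⟨A, cA, zA, AB, two, l', s', -, -, sx, sN, c8, BS, SN, gen, le8⟩ := h7.oth
  obtain ⟨P, PM, yP, zP, -, Pz, -⟩ := h.bd.syl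
  have zy : (z : G) ∈ C1 y :=
    mem_centralizer_singleton_iff.2 (mem_centralizer_singleton_iff.1 (Pz yP)).symm
  obtain ⟨l, ly, rfl⟩ := lift l'
  obtain ⟨s0, s0y, rfl⟩ := lift s'
  set x : L := l * z * l⁻¹ with hx
  have fx : f l * f z * (f l)⁻¹ = f x := by rw [hx, map_mul, map_mul, map_inv]
  rw [fx] at sx gen
  have xy : (x : G) ∈ C1 y := mul_mem (mul_mem ly zy) (inv_mem ly)
  have x3 : orderOf (x : G) = 3 := (ord_cj (l : G) z).trans h.bd.z3
  obtain ⟨c, hc, hcx⟩ := adjust (J := J ⊓ C1 y) (x := x) (x' := (s0 : G) * x * (s0 : G)⁻¹)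
    (h.j2.to_le inf_le_left) x3 ((ord_cj _ _).trans x3)
    (inf_normalizer_le_normalizer_inf ⟨h.lt.LN x.2, le_normalizer xy⟩)
    ⟨(kerJ (x * (s0 * x * s0⁻¹))).1 (by
        rw [map_mul f x, map_mul f (s0 * x), map_mul f s0, map_inv, sx, mul_inv_cancel]),
      (C1 y).mul_mem xy ((C1 y).mul_mem ((C1 y).mul_mem s0y xy) ((C1 y).inv_mem s0y))⟩
  set s : L := ⟨c, JL hc.1⟩ * s0 with hs0
  have fs : f s0 = f s := by rw [hs0, map_mul, (kerJ ⟨c, JL hc.1⟩).2 hc.1, one_mul]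
  rw [fs] at sx sN c8 BS SN gen
  have sy : (s : G) ∈ C1 y := mul_mem hc.2 s0y
  have sinv : (s : G) * x * (s : G)⁻¹ = (x : G)⁻¹ := by
    have m1 : (s : G) * x * (s : G)⁻¹ * x ∈ zpowers (x : G) := by
      refine mul_mem ?_ (mem_zpowers _)
      convert hcx using 1
      change c * s0 * x * (c * s0)⁻¹ = _
      group
    have m2 : (s : G) * x * (s : G)⁻¹ * x ∈ J := (kerJ (s * x * s⁻¹ * x)).1 (by
      rw [map_mul f _ x, map_mul f (s * x), map_mul f s, map_inv, sx, inv_mul_cancel])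
    have : Fact (Nat.Prime 3) := ⟨Nat.prime_three⟩
    have : Fact (Nat.Prime 2) := ⟨Nat.prime_two⟩
    exact eq_inv_of_mul_eq_one_left (disjoint_def.1 (IsPGroup.disjoint_of_ne 3 2 (by decide) _ J
      (IsPGroup.of_card (n := 1) (by rw [Nat.card_zpowers, x3, pow_one])) h.j2) m1 m2)
  have JX : ∀ U : Subgroup P7, J ≤ pb f U := fun U => pb_bot hk JL ▸ pb_mono bot_le
  have eS := (pb_sup_zp hs (cj (f l) A) s).symm
  have ly' : (l : G) * y * (l : G)⁻¹ = y := by
    rw [mem_centralizer_singleton_iff.1 ly, mul_inv_cancel_right]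
  refine ⟨pb f (cj (f l) A), l, s, l.2, ly' ▸ bd_cj h.bd l, ⟨?_, ?_, (pb_no hs _ s).2 sN, ?_⟩, JX _,
    sinv, mem_centralizer_singleton_iff.1 sy, fun e => nB ?_, ?_, ?_, ?_, ?_, fun e => nB ?_, ?_,
    ?_, ?_⟩
  · refine mem_normalizer_fintype fun g hg => ?_
    have := mul_mem (JX _ (h.lt.yL g (pb_le _ hg))) hg
    rwa [commutatorElement_def, inv_mul_cancel_right] at this
  · refine (pb_no hs _ x).2 ?_
    rw [← fx, No, ← cj_normalizer]
    exact conj_mem_cj zA
  · rw [eS]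
    exact pb_pg hk h.j2 (IsPGroup.of_card (n := 3) c8)
  · rw [← AB]
    refine sup_le (fun a ha => ?_) le_normalizer
    obtain ⟨b, hb, rfl⟩ := H11.FB.exists_comm (h := f z)
      (fun x hx => (mem_normalizer_iff.1 zA x).1 hx) (fun x hx e => by
        have m : x ∈ zpowers (f z) := h7.cz ▸ mem_centralizer_singleton_iff.2 e.symm
        have d1 := orderOf_dvd_natCard _ m
        have d2 := orderOf_dvd_natCard _ hx
        rw [Nat.card_zpowers, o3] at d1
        rw [cA] at d2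
        exact orderOf_eq_one_iff.1 (Nat.eq_one_of_dvd_coprimes (by decide) d1 d2)) ha
    obtain ⟨b, rfl⟩ := hs b
    have m : (l : G) * b * (l : G)⁻¹ ∈ pb f (cj (f l) A) :=
      pb_cj A l ▸ conj_mem_cj ((mem_pb b).2 hb)
    have m2 := mem_cj.1 (e (commutator_mem_commutator m (mem_zpowers _)))
    have := (inM (b * (z * b⁻¹ * z⁻¹))).1 (by
      convert m2 using 1
      simp only [coe_mul, InvMemClass.coe_inv, commutatorElement_def]
      group)
    simpa only [map_mul, map_inv] using this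
  · rw [eS]
    intro g hg
    lift g to L using pb_le _ hg
    exact ⟨g.2, (inM g).2 (SN ((mem_pb g).1 hg))⟩
  · rw [eS, ← eB]
    exact pb_mono BS
  · rw [eS, pb_idx hs hk JL, c8]
  · rw [pb_idx hs hk JL, card_cj, cA]
  · rw [← gen]
    exact sup_le (sup_le SN (zpowers_le.2 ((inM x).1 e))) (zpowers_le.2 ((inM z).1 (PM zP)))
  · intro g hg
    have := (mem_pb (f := f) ⟨g, hg⟩).2 (gen ▸ mem_top _)
    rwa [pb_sup_zp hs, pb_sup_zp hs, pb_sup_zp hs] at this
  · intro S s1 s2 s3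
    rw [eS] at s3 ⊢
    have a1 : cj (f l) A ⊔ zpowers (f s) ≤ im f S :=
      (im_pb hs _).ge.trans (map_mono (comap_mono s3))
    rw [eq_of_le_of_card_ge a1 (c8 ▸ le8 _ (s1.comap_subtype.map f)),
      pb_im hk ((JX _).trans s3) s2]
  · intro S s1 s2 s3 s4
    have eI := pb_im hk ((JX _).trans s3) s2
    have a1 : cj (f l) A ≤ im f S :=
      (im_pb hs _).ge.trans (map_mono (comap_mono s3))
    have a2 : f x ∈ No (im f S) := (pb_no hs _ x).1 (eI.symm ▸ s4)
    have a3 : IsPGroup 2 (im f S) := s1.comap_subtype.map f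
    obtain ⟨T, hT⟩ : ∃ T, cj (f l) T = im f S := ⟨_, cj_cj_inv _ _⟩
    rw [← hT] at a1 a2 a3
    rw [← fx, No, ← cj_normalizer, conj_mem_cj_iff] at a2
    have a4 := isPGroup_cj (f l)⁻¹ a3
    rw [cj_inv_cj] at a4
    rcases two T a4 a2 with t | t
    · rw [← eI, ← hT, le_antisymm t (cj_le_cj_iff.1 a1)]
    · exact (nB (AB ▸ sup_le (((cj_le_cj_iff.1 a1).trans t).trans le_normalizer)
        le_normalizer)).elim

end H5.DPSU
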