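import Cfsg.Agent.Base
import Cfsg.Agent.H47.Spec3
import Cfsg.Agent.H47.Quo
import Cfsg.Agent.H46.Nil
import Cfsg.Agent.H1.CoprimeGen

/-! BG Lemma 2.7: an elementary abelian group of order `q ^ 2` acting faithfully on an elementary
abelian group of order `p ^ 2`. -/

set_option autoImplicit false

namespace H5

open Cfsg hiding pRank
open H46 Subgroup

universe u
variable {G : Type u} [Group G] {P Q A : Subgroup G} {p q : ℕ}

theorem card_eq_of_lt_of_card_sq [Finite G] (hp : p.Prime) (hP : Nat.card P = p ^ 2) (h : A < P)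
    (h1 : A ≠ ⊥) : Nat.card A = p := by
  obtain ⟨i, hi, e⟩ := (Nat.dvd_prime_pow hp).1 (hP ▸ card_dvd_of_le h.le)
  have h2 := card_lt_of_lt h
  have h3 := one_lt_card.2 h1
  interval_cases i
  · rw [pow_zero] at e; omega
  · simpa using e
  · omega

theorem sup_zpowers_eq_of_card_sq [Finite G] (hp : p.Prime) (hP : Nat.card P = p ^ 2) (h : A ≤ P)
    (h1 : A ≠ ⊥) {x : G} (hx : x ∈ P) (hxA : x ∉ A) : A ⊔ zpowers x = P := by
  have h2 : A ⊔ zpowers x ≤ P := sup_le h (zpowers_le.2 hx)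
  have h3 : A < A ⊔ zpowers x :=
    lt_of_le_of_ne le_sup_left fun e => hxA (e ▸ mem_sup_right (mem_zpowers x))
  by_contra h4
  have h5 := card_eq_of_lt_of_card_sq hp hP (lt_of_le_of_ne h2 h4) (ne_bot_of_le le_sup_left h1)
  have h6 := card_eq_of_lt_of_card_sq hp hP (h3.trans_le h2) h1
  have := card_lt_of_lt h3
  omega

theorem exists_conj_eq_pow [Finite G] {x g : G} (h : g ∈ Nrm (zpowers x)) :
    ∃ j : ℕ, g * x * g⁻¹ = x ^ j := by
  obtain ⟨j, hj⟩ := (mem_powers_iff_mem_zpowers).2 (conj_mem_of_mem_nrm h (mem_zpowers x))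
  exact ⟨j, hj.symm⟩

theorem pow_conj_eq_pow {x g : G} {j : ℕ} (h : g * x * g⁻¹ = x ^ j) (k : ℕ) :
    g ^ k * x * (g ^ k)⁻¹ = x ^ j ^ k := by
  induction k with
  | zero => simp
  | succ k ih =>
    rw [pow_succ' g, pow_succ' j, pow_mul, ← h, conj_pow, ← ih]
    group

theorem regular_abelem2_on_abelem2 [Finite G] (hp : p.Prime) (hq : q.Prime)
    (hP : IsElementaryAbelian p P) (hQ : IsElementaryAbelian q Q) (cP : Nat.card P = p ^ 2)
    (cQ : Nat.card Q = q ^ 2) (hn : Q ≤ Nrm P) (hC : Q ⊓ Cent P = ⊥) :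
    q ∣ p - 1 ∧ ∃ a ∈ Q, a ≠ 1 ∧ ∃ r : ℕ, (∀ x ∈ P, a * x * a⁻¹ = x ^ r) ∧
      r ^ q ≡ 1 [MOD p] ∧ ¬ r ≡ 1 [MOD p] := by
  have := Fact.mk hp
  have := Fact.mk hq
  have hP1 : P ≠ ⊥ := by
    rw [← one_lt_card, cP]; exact Nat.one_lt_pow two_ne_zero hp.one_lt
  have hQ1 : Q ≠ ⊥ := by
    rw [← one_lt_card, cQ]; exact Nat.one_lt_pow two_ne_zero hq.one_lt
  have hfaith : ∀ a ∈ Q, P ≤ Cent1 a → a = 1 := fun a ha h => by
    rw [← mem_bot, ← hC]; exact ⟨ha, le_cent1_iff.1 h⟩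
  have hpq : p ≠ q := by
    rintro rfl
    have hPQ : IsPGroup p ↥(P ⊔ Q) :=
      (IsPGroup.of_card cP).to_sup_of_normal_left' (IsPGroup.of_card cQ) hn
    have hnil := hPQ.isNilpotent
    have h1 := H2.inf_inf_centralizer_ne_bot (N := P) (K := P ⊔ Q) (sup_le le_nrm_self hn)
      (by rwa [inf_of_le_left le_sup_left])
    have h2 : P ⊓ Cent Q ≠ ⊥ := ne_bot_of_le
      (le_inf (inf_le_left.trans inf_le_left) (inf_le_right.trans (cent_anti le_sup_right))) h1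
    have h3 : ¬ P ≤ Cent Q := fun h => hQ1 (by rw [← hC, inf_of_le_left (le_cent_symm h)])
    obtain ⟨x, hx, hxQ⟩ := SetLike.not_le_iff_exists.1 h3
    have h4 := sup_zpowers_eq_of_card_sq hp cP inf_le_left h2 hx fun h => hxQ h.2
    have h5 := card_lt_of_lt (nil_commutator_lt hnil le_sup_left le_sup_right hn hP1)
    have h6 : Function.Injective fun a : Q =>
        (⟨x * a * x⁻¹ * (a : G)⁻¹, commutator_mem_commutator hx a.2⟩ : (⁅P, Q⁆ : Subgroup G)) := by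
      intro a b hab
      have e : x * a * x⁻¹ * (a : G)⁻¹ = x * b * x⁻¹ * (b : G)⁻¹ := congrArg Subtype.val hab
      have h7 : (b : G)⁻¹ * a = 1 := by
        refine hfaith _ (Q.mul_mem (Q.inv_mem b.2) a.2) (h4.ge.trans (sup_le ?_ ?_))
        · exact inf_le_right.trans (cent_le_cent1 (Q.mul_mem (Q.inv_mem b.2) a.2))
        · rw [zpowers_le, mem_cent1]
          have e2 : a * x⁻¹ * (a : G)⁻¹ = b * x⁻¹ * (b : G)⁻¹ := by simpa [mul_assoc] using e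
          calc x * ((b : G)⁻¹ * a) = (b : G)⁻¹ * (b * x⁻¹ * (b : G)⁻¹)⁻¹ * a := by group
            _ = (b : G)⁻¹ * a * x := by rw [← e2]; group
      exact Subtype.ext (inv_mul_eq_one.1 h7).symm
    have := Nat.card_le_card_of_injective _ h6
    omega
  have hQc := hQ.1
  have hnc : ¬ IsCyclic Q := fun h => by
    have h1 := Nat.le_of_dvd hq.pos (H47.card_dvd_of_cyclic_of_pow h hQ.2)
    have := hq.one_lt
    nlinarith
  have hcop : (Nat.card Q).Coprime (Nat.card P) := by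
    rw [cP, cQ]; exact Nat.Coprime.pow _ _ ((Nat.coprime_primes hq hp).2 hpq.symm)
  have hgen : ∀ L : Subgroup G, ¬ P ≤ L → ∃ a ∈ Q, a ≠ 1 ∧ ¬ P ⊓ Cent1 a ≤ L := by
    intro L hL
    by_contra h
    push Not at h
    exact hL (H1.le_of_noncyclic_centralizer_le hnc hn hcop L h)
  have hlt : ∀ a ∈ Q, a ≠ 1 → P ⊓ Cent1 a < P := fun a ha ha1 =>
    lt_of_le_of_ne inf_le_left fun e => ha1 (hfaith a ha (e.ge.trans inf_le_right))
  obtain ⟨a, ha, ha1, hA⟩ := hgen ⊥ (by rwa [le_bot_iff])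
  rw [le_bot_iff] at hA
  obtain ⟨b, hb, hb1, hB⟩ := hgen _ (hlt a ha ha1).not_ge
  obtain ⟨y, hy, hyA⟩ := SetLike.not_le_iff_exists.1 hB
  obtain ⟨x, hx, hx1⟩ := exists_ne_one_of_ne_bot hA
  have hy1 : y ≠ 1 := fun e => hyA (e ▸ one_mem _)
  have eA := eq_zpowers_of_card_prime
    (card_eq_of_lt_of_card_sq hp cP (hlt a ha ha1) hA ▸ hp) hx hx1
  have eB := eq_zpowers_of_card_prime
    (card_eq_of_lt_of_card_sq hp cP (hlt b hb hb1) (ne_bot_of_mem hy hy1) ▸ hp) hy hy1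
  have hsup := sup_zpowers_eq_of_card_sq hp cP inf_le_left hA hy.1 hyA
  have hQn : ∀ c ∈ Q, Q ≤ Nrm (P ⊓ Cent1 c) := fun c hc =>
    nrm_inf hn (nrm_cent1 ((comm_iff_le_cent.1 hQc).trans (cent_le_cent1 hc)))
  obtain ⟨i, hi⟩ := exists_conj_eq_pow (x := y) (eB ▸ hQn b hb ha)
  obtain ⟨j, hj⟩ := exists_conj_eq_pow (x := x) (eA ▸ hQn a ha hb)
  have key : ∀ (z c : G) (k : ℕ), z ∈ P → z ≠ 1 → c ∈ Q → c * z * c⁻¹ = z ^ k →
      k ^ q ≡ 1 [MOD p] ∧ (k ≡ 1 [MOD p] → z ∈ Cent1 c) := by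
    intro z c k hz hz1 hc h
    have ho : orderOf z = p := orderOf_eq_prime (hP.2 z hz) hz1
    refine ⟨?_, fun h1 => ?_⟩
    · have h1 := pow_conj_eq_pow h q
      rw [hQ.2 c hc] at h1
      rw [← ho, ← pow_eq_pow_iff_modEq, ← h1]
      simp
    · rw [← ho, ← pow_eq_pow_iff_modEq, pow_one] at h1
      rw [h1, mul_inv_eq_iff_eq_mul] at h
      exact mem_cent1.2 h.symm
  obtain ⟨hi1, hi2⟩ := key y a i hy.1 hy1 ha hi
  obtain ⟨hj1, hj2⟩ := key x b j hx.1 hx1 hb hj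
  have hi3 : ¬ i ≡ 1 [MOD p] := fun h => hyA ⟨hy.1, hi2 h⟩
  have hj3 : ¬ j ≡ 1 [MOD p] := fun h => hb1 (hfaith b hb (hsup.ge.trans
    (sup_le (eA.ge.trans (zpowers_le.2 (hj2 h))) (zpowers_le.2 hy.2))))
  have cast : ∀ k : ℕ, k ≡ 1 [MOD p] ↔ (k : ZMod p) = 1 := fun k => by
    rw [← ZMod.natCast_eq_natCast_iff, Nat.cast_one]
  have hio : orderOf (i : ZMod p) = q :=
    orderOf_eq_prime (by rw [← Nat.cast_pow, ← cast]; exact hi1) (by rwa [Ne, ← cast])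
  have hprim : IsPrimitiveRoot (i : ZMod p) q := hio ▸ IsPrimitiveRoot.orderOf _
  obtain ⟨k, -, hk⟩ := hprim.eq_pow_of_pow_eq_one (ξ := (j : ZMod p))
    (by rw [← Nat.cast_pow, ← cast]; exact hj1)
  have hx' : a ^ k * b * x * (a ^ k * b)⁻¹ = x ^ j := by
    have h1 : a ^ k * x ^ j = x ^ j * a ^ k :=
      (Commute.pow_pow (show Commute x a from mem_cent1.1 hx.2) j k).symm
    calc a ^ k * b * x * (a ^ k * b)⁻¹ = a ^ k * (b * x * b⁻¹) * (a ^ k)⁻¹ := by group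
      _ = x ^ j := by rw [hj, h1, mul_inv_cancel_right]
  have hy' : a ^ k * b * y * (a ^ k * b)⁻¹ = y ^ j := by
    have h1 : y * b = b * y := mem_cent1.1 hy.2
    calc a ^ k * b * y * (a ^ k * b)⁻¹ = a ^ k * (b * y * b⁻¹) * (a ^ k)⁻¹ := by group
      _ = y ^ i ^ k := by rw [← h1, mul_inv_cancel_right, pow_conj_eq_pow hi]
      _ = y ^ j := by
        rw [pow_eq_pow_iff_modEq, orderOf_eq_prime (hP.2 y hy.1) hy1,
          ← ZMod.natCast_eq_natCast_iff, Nat.cast_pow, hk]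
  refine ⟨?_, a ^ k * b, Q.mul_mem (Q.pow_mem ha k) hb, fun e => hj3 ?_, j, fun z hz => ?_, hj1, hj3⟩
  · rw [← hio]
    refine ZMod.orderOf_dvd_card_sub_one fun h0 => ?_
    rw [h0, orderOf_zero] at hio
    · exact hq.ne_zero hio.symm
  · rw [← orderOf_eq_prime (hP.2 x hx.1) hx1, ← pow_eq_pow_iff_modEq, ← hx', e]
    simp
  · rw [← hsup, ← eA, mem_sup_of_nrm ((zpowers_le.2 hy.1).trans
      (nrm_of_comm hP.1 (zpowers_le.2 hx.1)))] at hz
    obtain ⟨_, ⟨m, rfl⟩, _, ⟨n, rfl⟩, rfl⟩ := hz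
    have hxy : Commute x y := mem_cent.1 (comm_iff_le_cent.1 hP.1 hy.1) x hx.1
    rw [(hxy.zpow_zpow m n).mul_pow, ← conj_mul, ← conj_zpow, ← conj_zpow, hx', hy']
    simp only [← zpow_natCast, ← zpow_mul, mul_comm]

instance i2_7 : H47.T2_7.{u} := ⟨regular_abelem2_on_abelem2⟩

end H5
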