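/- Centreless groups with at most three non-trivial class sizes are solvable or `PSL(2, 2 ^ n)`. -/
import Cfsg.Agent.H5.CS3

set_option autoImplicit false

namespace H5.CS
open Cfsg Subgroup H4 H66

universe u
variable {G : Type u} [Group G] [Finite G]

local notation "C " x:max => Subgroup.centralizer ({x} : Set _)

theorem exists_pow_of_mem {p : ℕ} (hp : p.Prime) {K : Subgroup G} (hK : IsPGroup p K) {a : G}
    (ha : a ∈ K) : ∃ k, orderOf a = p ^ k := by
  have := Fact.mk hp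
  obtain ⟨k, hk⟩ := IsPGroup.iff_orderOf.1 hK ⟨a, ha⟩
  exact ⟨k, by rwa [orderOf_mk] at hk⟩

namespace NF
variable {x y z : G} (h : NF x y z)
include h

theorem isCC_of_isPGroup (hG : ¬ Group.IsSolvable G) {p : ℕ} (hp : p.Prime)
    (hP : IsPGroup p (C z)) : IsCC (C z) := by
  have := Fact.mk hp
  obtain ⟨n, hn⟩ := IsPGroup.iff_card.1 hP
  have hz : ∀ a : G, ind a = ind z → IsPGroup p (C a) := fun a ha =>
    IsPGroup.of_card ((card_eq_of_ind ha).trans hn)
  have hz' : ∀ a : G, ind a = ind z → ∀ b ∈ C a, ∀ s : ℕ, s.Prime → orderOf b = s → s = p :=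
    fun a ha b hb s hs e => by
      obtain ⟨k, hk⟩ := exists_pow_of_mem hp (hz a ha) hb
      exact (Nat.prime_dvd_prime_iff_eq hs hp).1 (hs.dvd_of_dvd_pow (e.symm.trans hk).dvd)
  have h1 : ∀ r : ℕ, r.Prime → r ∣ ind y → r = p := fun r hr hd => by
    have h2 := hd.trans (index_dvd_card _)
    rw [← (C z).index_mul_card, hn] at h2
    rcases (Nat.Prime.dvd_mul hr).1 h2 with e | e
    · exact absurd (Nat.dvd_one.1 (h.cop.gcd_eq_one ▸ Nat.dvd_gcd hd e)) hr.one_lt.ne'
    · exact (Nat.prime_dvd_prime_iff_eq hr hp).1 (hr.dvd_of_dvd_pow e)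
  have h2 := Nat.eq_prime_pow_of_unique_prime_dvd (ind_pos y).ne' fun {r} hr hd => h1 r hr hd
  have h3 : p ∣ ind y := by
    obtain ⟨r, hr, hd⟩ := Nat.exists_prime_and_dvd (h.ind_ne_one h.y1)
    exact h1 r hr hd ▸ hd
  have h4 : ¬ p ∣ ind z := fun e =>
    hp.one_lt.ne' (Nat.dvd_one.1 (h.cop.gcd_eq_one ▸ Nat.dvd_gcd h3 e))
  have h5 : ∀ u : G, orderOf u = p → ¬ p ∣ ind u → ind u = ind z := fun u hu e =>
    ((h.all u (ne_one_of_prime hp hu)).resolve_left
      fun e' => e (e' ▸ h3.trans h.dvd)).resolve_left fun e' => e (e' ▸ h3)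
  have hpG : p ∣ Nat.card G := h3.trans (index_dvd_card _)
  have h6 : ∀ (w : G) (k : ℕ), orderOf w = p ^ k → ∃ u ∈ C w, ind u = ind z := fun w k hw => by
    obtain ⟨u, hu, e1, e2⟩ := exists_pcentral hp hpG (isPGroup_zpowers_of_orderOf hw)
    exact ⟨u, mem_cent_comm (e2 (mem_zpowers w)), h5 u hu e1⟩
  by_cases hy : p ∣ Nat.card (C y)
  · exfalso
    have h7 : ∀ s : ℕ, s.Prime → s ∣ ind x → s = p := fun s hs hd => by
      by_contra hsp
      have hsG : s ∣ Nat.card G := hd.trans (index_dvd_card _)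
      have hsy : ¬ s ∣ ind y := fun e => hsp (h1 s hs e)
      obtain ⟨v, hv, hv'⟩ := exists_pcentral' hs hsG
      have v1 := ne_one_of_prime hs hv
      have hvy : ind v = ind y := ((h.all v v1).resolve_left
        fun e => hv' (e ▸ hd)).resolve_right fun e => hsp (hz' v e v (self_mem_cent v) s hs hv)
      obtain ⟨w, hwv, hw⟩ := exists_orderOf_mem hp (card_eq_of_ind hvy ▸ hy)
      have w1 := ne_one_of_prime hp hw
      obtain ⟨u, huw, hu⟩ := h6 w 1 (hw.trans (pow_one p).symm)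
      rcases h.all w w1 with e | e | e
      · have h8 := cent_mul (mem_cent_comm hwv) (coprime_primes hp hs (Ne.symm hsp) hw hv)
        have h9 := (h.eq_of_min e (h8.trans_le inf_le_left)).ge.trans (h8.trans_le inf_le_right)
        exact hsp (hz' u hu v (mem_cent_comm (h9 huw)) s hs hv)
      · obtain ⟨t, ht, htZ⟩ := h.exists_central w1 hs
          (not_dvd_of_pow hs hp hsp (hw.trans (pow_one p).symm))
          (((Nat.Prime.dvd_mul hs).1 ((Nat.mul_div_cancel' (e ▸ h.dvd : ind w ∣ ind x)).symm ▸ hd)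
            ).resolve_left (e ▸ hsy))
          (((Nat.Prime.dvd_mul hs).1 ((C w).index_mul_card ▸ hsG)).resolve_left
            (show ¬ s ∣ ind w from e ▸ hsy))
        exact hsp (hz' u hu t (mem_cent_iff.2
          (congrArg Subtype.val (mem_center_iff.1 htZ ⟨u, huw⟩)).symm) s hs (by rwa [orderOf_coe]))
      · exact hsp (hz' w e v (mem_cent_comm hwv) s hs hv)
    have h8 := Nat.eq_prime_pow_of_unique_prime_dvd (ind_pos x).ne' fun {r} hr hd => h7 r hr hd
    have h9 : IsPGroup p (G ⧸ solvableRadical G) := fun g => by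
      obtain ⟨g, rfl⟩ := QuotientGroup.mk_surjective g
      obtain ⟨e, f, hef, ⟨k, hk⟩, hf⟩ := H24.exists_p_decomp hp g
      have : g ^ f ∈ solvableRadical G := by
        by_cases g1 : g ^ f = 1
        · exact g1 ▸ one_mem _
        rcases h.all _ g1 with e | e | e
        · exact kazarin hp (e.trans h8)
        · exact kazarin hp (e.trans h2)
        · obtain ⟨j, hj⟩ := exists_pow_of_mem hp (hz _ e) (self_mem_cent _)
          exact absurd (hj ▸ dvd_pow_self p fun e => g1 (orderOf_eq_one_iff.1 (by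
            rw [hj, e, pow_zero]))) hf
      refine ⟨k, ?_⟩
      rw [← hef, QuotientGroup.mk_mul, (QuotientGroup.eq_one_iff _).2 this, mul_one,
        ← QuotientGroup.mk_pow, ← hk, pow_orderOf_eq_one, QuotientGroup.mk_one]
    have := h9.isNilpotent
    exact hG (H2.isSolvable_of_normal_of_quotient (solvableRadical G))
  have h7 : ∀ (a : G) (k : ℕ), a ≠ 1 → orderOf a = p ^ k → ind a = ind z := fun a k a1 ha => by
    have h8 : p ∣ Nat.card (C a) := (ha ▸ dvd_pow_self p fun e => a1 (orderOf_eq_one_iff.1 (by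
      rw [ha, e, pow_zero]))).trans (orderOf_dvd_cent (self_mem_cent a))
    exact ((h.all a a1).resolve_left fun e => hy ((card_eq_of_ind e ▸ h8).trans
      (card_dvd_of_le h.lt.le))).resolve_left fun e => hy (card_eq_of_ind e ▸ h8)
  have h8 : ∀ a ∈ C z, a ≠ 1 → ind a = ind z := fun a ha a1 =>
    (exists_pow_of_mem hp hP ha).elim fun k hk => h7 a k a1 hk
  obtain ⟨r, V, hr, hV, -, V1, -, hVr, -⟩ := H2.exists_elementaryAbelian_normal_le
    (solvableRadical G) fun e => h.y1 (mem_bot.1 (e ▸ kazarin hp h2))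
  intro a ha a1
  refine h.no_min hG ?_
  by_cases e : r = p
  · subst e
    obtain ⟨v, hv, v1⟩ := (bot_or_exists_ne_one V).resolve_left V1
    obtain ⟨j, hj⟩ := IsPGroup.iff_card.1 hVr
    have h9 : ∀ b : G, ind b = ind z → C b ≤ C v := fun b hb c hc => by
      by_cases c1 : c = 1
      · exact c1 ▸ one_mem _
      obtain ⟨k, hk⟩ := exists_pow_of_mem hr (hz b hb) hc
      refine mem_cent_iff.2 (mem_centralizer_of_coprime_ind V ?_ v hv).symm
      rw [hj, h7 c k c1 hk]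
      exact ((Nat.Prime.coprime_iff_not_dvd hr).2 h4).pow_left j
    exact (h9 a (h8 a ha a1)).trans (h.eq_of_max h.z1 h.z_ne v1 (h9 z rfl)).ge
  · have h9 : ∀ b ∈ C z, b ≠ 1 → ∃ c : G, C b ≤ C c ∧ zpowers c ≤ C z ∧
        Nat.card (zpowers c) = p := fun b hb b1 => by
      obtain ⟨i, hi⟩ := exists_prime_pow b1
      exact ⟨_, cent_le_cent_pow b i, zpowers_le.2 (pow_mem hb i), by
        rw [Nat.card_zpowers]; exact hz' z rfl _ (pow_mem hb i) _ hi rfl⟩
    obtain ⟨c, c1, c2, c3⟩ := h9 a ha a1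
    obtain ⟨d, d1, d2, d3⟩ := h9 z (self_mem_cent z) h.z1
    have h10 := eq_of_card_eq_prime_of_fpf V1 le_normalizer_of_normal (fun b hb b1 =>
      eq_bot_iff.2 fun v hv => by
        by_contra v1
        obtain ⟨i, hi⟩ := exists_prime_pow v1
        obtain ⟨k, hk⟩ := exists_pow_of_mem hr hVr (pow_mem hv.1 i)
        exact e (((Nat.prime_dvd_prime_iff_eq hi hr).1 (hi.dvd_of_dvd_pow hk.dvd)).symm.trans
          (hz' b (h8 b hb b1) _ (pow_mem hv.2 i) _ hi rfl))) hP d2 c2 d3 c3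
    have h11 : C c ≤ C d := fun g hg => mem_cent_comm
      (zpowers_le.2 (mem_cent_comm hg) (h10.le (mem_zpowers d)))
    refine (c1.trans h11).trans (h.eq_of_max h.z1 h.z_ne (ne_one_of_prime hp ?_) d1).ge
    rwa [Nat.card_zpowers] at d3

theorem isCC (hG : ¬ Group.IsSolvable G) : IsCC (C z) :=
  (h.isCC_or hG).elim id fun ⟨_, hp, hP⟩ => h.isCC_of_isPGroup hG hp hP

theorem comm (hG : ¬ Group.IsSolvable G) {t : G} (ht : orderOf t = 2) : IsMulCommutative (C t) := by
  have hA := h.isCC hG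
  have h1 : ∀ a : G, a ≠ 1 → ¬ (orderOf a).Coprime (Nat.card (C z)) →
      ∃ g : G, g⁻¹ * a * g ∈ C z ∧ C (g⁻¹ * a * g) = C z := fun a a1 ha => by
    obtain ⟨g, hg⟩ := hA.exists_conj_mem ha
    exact ⟨g, hg, hA _ hg fun e => a1 (by
      rw [show a = g * (g⁻¹ * a * g) * g⁻¹ by group, e]; simp)⟩
  rcases Nat.even_or_odd (Nat.card (C z)) with e | e
  · obtain ⟨g, hg, h2⟩ := h1 t (ne_one_of_prime Nat.prime_two ht) (by
      rw [ht, Nat.coprime_two_left, Nat.not_odd_iff_even]; exact e)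
    have h3 : ∀ a ∈ C t, g⁻¹ * a * g ∈ C z := fun a ha => h2.le (mem_cent_iff.2 (by
      calc _ = g⁻¹ * (a * t) * g := by group
        _ = _ := by rw [mem_cent_iff.1 ha]; group))
    refine ⟨⟨fun a b => Subtype.ext ?_⟩⟩
    have h4 := hA.comm (h3 a a.2) (h3 b b.2)
    calc (a : G) * b = g * (g⁻¹ * a * g * (g⁻¹ * b * g)) * g⁻¹ := by group
      _ = _ := by rw [← h4]; simp only [Subgroup.coe_mul]; group
  exfalso
  have h2 : (orderOf y).Coprime (Nat.card (C z)) := by
    by_contra e'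
    obtain ⟨g, -, hg⟩ := h1 y h.y1 e'
    have h3 := ind_conj g⁻¹ y
    rw [inv_inv, ind, hg] at h3
    exact h.not_dvd_z h3.symm.dvd
  have h3 : ind y = Nat.card (C z) := by
    refine Nat.dvd_antisymm (h.cop.dvd_of_dvd_mul_left ?_)
      (Nat.Coprime.dvd_of_dvd_mul_right (k := Nat.card (C z)) (n := Nat.card (C y)) ?_ ?_)
    · rw [(C z).index_mul_card]; exact index_dvd_card _
    · refine Nat.coprime_of_dvd fun p hp e1 e2 => ?_
      obtain ⟨u, hu, e3⟩ := exists_orderOf_mem hp e2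
      exact (Nat.Prime.coprime_iff_not_dvd hp).1 (e3 ▸ cc_coprime_of_commute hA h.y1 h2 hu) e1
    · rw [(C y).index_mul_card]; exact card_subgroup_dvd_card _
  refine hG (Main.solvable (A := C z) (m := ind x) ⟨hA, fun e => h.z1 (mem_bot.1
    (e ▸ self_mem_cent z)), e, fun g g1 hg => ?_, h3 ▸ h.ind_lt⟩)
  rcases h.all g g1 with e | e | e
  · exact Or.inr e
  · exact Or.inl (e.trans h3)
  · exact absurd (orderOf_eq_one_iff.1 (hg.eq_one_of_dvd
      (card_eq_of_ind e ▸ orderOf_dvd_cent (self_mem_cent g)))) g1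

end NF

theorem l2Even_of_comm (hZ : center G = ⊥) (hG : ¬ Group.IsSolvable G)
    (h : ∀ t : G, orderOf t = 2 → IsMulCommutative (C t)) : H31.L2Even G := by
  obtain ⟨S⟩ : Nonempty (Sylow 2 G) := inferInstance
  rcases Cfsg.Agent.S2202.result (Nat.not_odd_iff_even.1 fun e => hG (ft e)) h with
    h1 | h1 | ⟨F, _, _, B, _, _, hF, -, ⟨e⟩⟩
  · exact absurd (H24.solvable_of_cyclic S (h1 S)) hG
  · have := h1 S
    have := S.isPGroup'.isNilpotent
    have := ft (G := G ⧸ (S : Subgroup G))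
      (Nat.not_even_iff_odd.1 fun e => S.not_dvd_index e.two_dvd)
    exact absurd (H2.isSolvable_of_normal_of_quotient (S : Subgroup G)) hG
  have h1 : ∀ g ∈ center (Matrix.SpecialLinearGroup (Fin 2) F), ∀ b : B, (g, b) = 1 :=
    fun g hg b => e.symm.injective (by
      rw [map_one, ← mem_bot, ← hZ, mem_center_iff]
      intro a
      obtain ⟨⟨a, c⟩, rfl⟩ := e.symm.surjective a
      rw [← map_mul, ← map_mul, Prod.mk_mul_mk, Prod.mk_mul_mk, mem_center_iff.1 hg, mul_comm c])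
  have : Unique B := ⟨⟨1⟩, fun b => congrArg Prod.snd (h1 1 (one_mem _) b)⟩
  have h2 : center (Matrix.SpecialLinearGroup (Fin 2) F) = ⊥ :=
    eq_bot_iff.2 fun g hg => congrArg Prod.fst (h1 g hg 1)
  have e' : G ≃* Matrix.ProjectiveSpecialLinearGroup (Fin 2) F :=
    (e.trans MulEquiv.prodUnique).trans
      ((QuotientGroup.quotientMulEquivOfEq h2).trans QuotientGroup.quotientBot).symm
  obtain ⟨n, -, hn⟩ := FiniteField.card F 2
  refine ⟨F, inferInstance, inferInstance, n, ?_, hn, ⟨e'⟩⟩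
  by_contra h3
  have := H61.isSolvable_psl (F := F) (by
    rw [Nat.card_eq_fintype_card, hn]
    calc 2 ^ (n : ℕ) ≤ 2 ^ 1 := Nat.pow_le_pow_right two_pos (by omega)
      _ ≤ 3 := by norm_num)
  exact hG (H2.isSolvable_of_mulEquiv e'.symm)

theorem three_sizes (hZ : center G = ⊥) (hG : ¬ Group.IsSolvable G)
    (h : {n : ℕ | 1 < n ∧ ∃ x : G, ind x = n}.ncard ≤ 3) : H31.L2Even G := by
  refine l2Even_of_comm hZ hG fun t ht => ?_
  by_cases hF : ∀ a b : G, b ≠ 1 → C a ≤ C b → C a = C b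
  · exact comm_of_F hF ht
  push Not at hF
  obtain ⟨x, y, y1, hle, hne⟩ := hF
  have h1 : ∀ g : G, g ≠ 1 → 1 < ind g := fun g g1 =>
    lt_of_le_of_ne (ind_pos g) fun e => g1 (mem_bot.1 (hZ ▸ ind_eq_one_iff.1 e.symm))
  have h2 : ind y ∣ ind x := ind_dvd_of_le hle
  have h3 : ind y ≠ ind x := fun e => hne (eq_of_le_of_index_le hle e.ge)
  have fin : {n : ℕ | 1 < n ∧ ∃ x : G, ind x = n}.Finite :=
    (Set.finite_range (ind (G := G))).subset fun n hn => hn.2
  have h4 : ∀ p : ℕ, p.Prime → p ∣ ind y → ∃ z : G, z ≠ 1 ∧ ¬ p ∣ ind z := fun p hp hd => by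
    obtain ⟨z, e1, e2⟩ := exists_pcentral' (G := G) hp (hd.trans (index_dvd_card _))
    exact ⟨z, ne_one_of_prime hp e1, e2⟩
  obtain ⟨p, hp, hd⟩ := Nat.exists_prime_and_dvd (h1 y y1).ne'
  obtain ⟨z, z1, hz⟩ := h4 p hp hd
  have h5 : ∀ g : G, g ≠ 1 → ind g = ind x ∨ ind g = ind y ∨ ind g = ind z := fun g g1 => by
    by_contra e
    push Not at e
    have h6 := Set.ncard_le_ncard (s := {ind g, ind x, ind y, ind z}) (by
      rintro _ (rfl | rfl | rfl | rfl)
      exacts [⟨h1 g g1, g, rfl⟩, ⟨(h1 y y1).trans_le (Nat.le_of_dvd (ind_pos x) h2), x, rfl⟩,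
        ⟨h1 y y1, y, rfl⟩, ⟨h1 z z1, z, rfl⟩]) fin
    have h7 : ind x ≠ ind z := fun e => hz (e ▸ hd.trans h2)
    have h8 : ind y ≠ ind z := fun e => hz (e ▸ hd)
    rw [Set.ncard_insert_of_notMem (by simp [e]), Set.ncard_insert_of_notMem (by simp [h3.symm, h7]),
      Set.ncard_pair h8] at h6
    omega
  refine NF.comm (x := x) (y := y) (z := z) ⟨h5, lt_of_le_of_ne hle hne,
    Nat.coprime_of_dvd fun q hq e1 e2 => ?_, hZ, y1, z1⟩ hG ht
  obtain ⟨w, w1, hw⟩ := h4 q hq e1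
  rcases h5 w w1 with e | e | e
  exacts [hw (e ▸ e1.trans h2), hw (e ▸ e1), hw (e ▸ e2)]

end H5.CS
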