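import Cfsg.Agent.H57.U2CSpec
import Cfsg.Agent.H48.DP3Kit

/-! The non-central case with both hyperplanes acting. -/

set_option autoImplicit false

namespace H5.DPVN2

open Subgroup Cfsg H98 H96 H97 H48.DP H57.DPC H48.DP2 H96.U2I H57.U2C
open scoped commutatorElement

universe u

variable {G : Type u} [Group G] [Finite G]

omit [Finite G] in
theorem st_one (V : Subgroup G) : St V 1 = Ce V := by
  ext x
  rw [mem_stab, zpowers_one_eq_bot, mem_Ce]
  simp only [mem_bot, commutatorElement_eq_one_iff_mul_comm]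
  exact ⟨fun h => h.2, fun h => ⟨by rw [normalizer_eq_top]; trivial, h⟩⟩

theorem dec {H V : Subgroup G} (h : H.relIndex V = 2) {v w : G} (hv : v ∈ V) (hv' : v ∉ H)
    (hw : w ∈ V) (hw' : w ∉ H) : v⁻¹ * w ∈ H :=
  mul_mem_of_idx h.le (V.inv_mem hv) hw (fun e => hv' (H.inv_mem_iff.1 e)) hw'

omit [Finite G] in
theorem bad {M Q K F V : Subgroup G} (h : Np M Q K F V) {g u : G} (hg : ¬ cj g Q ≤ M)
    (hu : u ∈ V) (u1 : u ≠ 1) (hc : u * g = g * u) : ¬ Gd F u := fun k => by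
  refine hg (le_trans ?_ (h.gd u hu u1 k))
  rintro _ ⟨q, hq, rfl⟩
  refine mem_C1.2 ?_
  change u * (g * q * g⁻¹) = g * q * g⁻¹ * u
  have e := mem_Ce.1 (h.QV hq) u hu
  have e2 : g⁻¹ * u = u * g⁻¹ := by
    calc g⁻¹ * u = g⁻¹ * (u * g) * g⁻¹ := by group
      _ = u * g⁻¹ := by rw [hc]; group
  calc u * (g * q * g⁻¹) = u * g * q * g⁻¹ := by group
    _ = g * (u * q) * g⁻¹ := by rw [hc]; group
    _ = g * q * (u * g⁻¹) := by rw [e]; group
    _ = g * q * g⁻¹ * u := by rw [← e2]; group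

theorem half (gf : GF2.{u}) (hy : HY.{u}) {M Q K F V M' Q' K' F' V' H H' : Subgroup G} {v v' : G}
    (h : Np M Q K F V) (h' : Np M' Q' K' F' V') (i : H.relIndex V = 2) (HK : H ≤ K')
    (hv : v ∈ V) (vH : v ∉ H) (c : V' ≤ Ce (cj v V')) (HV' : H' ≤ V') (i' : H'.relIndex V' = 2)
    (HK' : H' ≤ K) (hv' : v' ∈ V') (vH' : v' ∉ H') (n' : ¬ cj v' Q ≤ M)
    (le : (Ce V').relIndex V ≤ (Ce V).relIndex V') : (cj v' V).relIndex V ≤ 4 := by
  have ab' : V' ≤ Ce V' := fun a ha => mem_Ce.2 fun b hb =>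
    congrArg Subtype.val (h'.ea.1.is_comm.comm (⟨b, hb⟩ : V') ⟨a, ha⟩)
  have JH : Ce V ⊓ V' ≤ H' := by
    rintro w ⟨w1, w2⟩
    by_contra wH
    have m := dec i' hv' vH' w2 wH
    have e : cj w Q = cj v' Q := by
      rw [show w = v' * (v'⁻¹ * w) by group, ← cj_cj, cj_eq_self (h.KQ (HK' m))]
    have := hy G M Q K F V V h fun u hu _ u1 => bad h (e ▸ n') hu u1 (mem_Ce.1 w1 u hu)
    rw [relIndex_self] at this
    omega
  have e2 : (Ce V).relIndex V' = (Ce V).relIndex H' * 2 := by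
    rw [← inf_relIndex_right (Ce V) V', ← relIndex_mul_relIndex _ _ _ JH HV', i',
      ← inf_relIndex_right (Ce V ⊓ V') H', inf_assoc, inf_eq_right.2 HV', inf_relIndex_right]
  have com : ∀ b ∈ H', ∀ w ∈ V, ⁅b, w⁆ ∈ Ce V' ⊓ V := by
    intro b hb w hw
    have bV := HV' hb
    refine ⟨?_, V.mul_mem ((mem_normalizer_iff.1 (h.KU (HK' hb)) w).1 hw) (V.inv_mem hw)⟩
    have e : ⁅b, w⁆ = b * (w * b⁻¹ * w⁻¹) := by rw [commutatorElement_def]; group
    rw [e]
    refine mul_mem (ab' bV) ?_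
    by_cases wH : w ∈ H
    · exact ab' ((mem_normalizer_iff.1 (h'.KU (HK wH)) _).1 (V'.inv_mem bV))
    · have m := (mem_normalizer_iff.1 (h'.KU (HK (dec i hv vH hw wH))) _).1 (V'.inv_mem bV)
      have := le_centralizer_iff.1 c (conj_mem_cj (g := v) m)
      rwa [show v * (v⁻¹ * w * b⁻¹ * (v⁻¹ * w)⁻¹) * v⁻¹ = w * b⁻¹ * w⁻¹ by group] at this
  have two : IsPGroup 2 H' := fun g => ⟨1, Subtype.ext (by simpa using h'.ea.2 g (HV' g.2))⟩
  have k4 : ¬ 4 ≤ (Ce V).relIndex H' := fun k => by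
    obtain ⟨a, ha, w, hw, a1, a2⟩ := gf G K F V H' (Ce V' ⊓ V) 1 h.toMd
      ⟨HK', two, fun a ha b hb w hw => by
        rw [commutatorElement_eq_one_iff_mul_comm.2 (mem_Ce.1 (com b hb w hw).1 a (HV' ha))]
        exact one_mem _⟩ inf_le_right (one_mem _)
      (fun x hx a ha => by
        rw [commutatorElement_eq_one_iff_mul_comm.2 (mem_Ce.1 hx.1 a (HV' ha))]
        exact one_mem _)
      (by rw [st_one, inf_relIndex_right]; omega) (by rwa [st_one])
    exact bad h n' (com a ha w hw).2 (fun e => a1 (by rw [e]; exact one_mem _))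
      (mem_Ce.1 (com a ha w hw).1 v' hv').symm a2
  have k3 : (Ce V).relIndex H' ≠ 3 := fun k => by
    have : Fact (Nat.Prime 2) := ⟨Nat.prime_two⟩
    obtain ⟨n, hn⟩ := IsPGroup.iff_card.1 two
    have d := relIndex_dvd_card (Ce V) H'
    rw [k, hn] at d
    exact absurd (Nat.prime_three.dvd_of_dvd_pow d) (by decide)
  have JV : Ce V' ⊓ V ≤ cj v' V := fun u hu => mem_cj.2 (by
    rw [mul_assoc, ← mem_Ce.1 hu.1 v' hv', inv_mul_cancel_left]
    exact hu.2)
  have := relIndex_le_of_le_left JV (relIndex_ne_zero' _ V)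
  rw [inf_relIndex_right] at this
  omega

theorem jobN2 : JobN2.{u} := by
  intro gf hy G _ _ M Q K F V M' Q' K' F' V' H H' v v' h h' HV i HK hv vH c n HV' i' HK' hv' vH'
    c' n'
  rcases le_total ((Ce V').relIndex V) ((Ce V).relIndex V') with le | le
  · exact .inl (half gf hy h h' i HK hv vH c HV' i' HK' hv' vH' n' le)
  · exact .inr (half gf hy h' h i' HK' hv' vH' c' HV i HK hv vH n le)

end H5.DPVN2
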