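import Cfsg.Agent.H14.FESpec
import Cfsg.Agent.S2775

/-! Abelian, non-elementary Sylow 2-subgroup and 2-nilpotent involution centralisers: the
subgroup generated by the 2-elements is 2-nilpotent. -/

set_option autoImplicit false

namespace H5.FEG

open Cfsg Subgroup MulAction H14 H98 H1.Gold H31.S2 H14.GC H14.FE

universe u

theorem part1 {X : Type u} [Group X] [Finite X] (S : Sylow 2 X)
    (hc : ∀ a ∈ (S : Subgroup X), ∀ b ∈ (S : Subgroup X), a * b = b * a)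
    (hne : ∃ a ∈ (S : Subgroup X), a * a ≠ 1) :
    ∃ z ∈ (S : Subgroup X), z ≠ 1 ∧ z * z = 1 ∧
      ∀ k ∈ normalClosure ((S : Subgroup X) : Set X), k * z * k⁻¹ * z ∈ pPrimeCore 2 X := by
  set K := normalClosure ((S : Subgroup X) : Set X) with hK
  have hSK : (S : Subgroup X) ≤ K := le_normalClosure
  have hN : (pPrimeCore 2 K).Normal := Subgroup.sSup_normal _ (fun _ h => h.1)
  let π := QuotientGroup.mk' (pPrimeCore 2 K)
  have hker : π.ker = pPrimeCore 2 K := QuotientGroup.ker_mk' _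
  obtain ⟨-, h2, ⟨T, -, h3⟩, -⟩ := Cfsg.Agent.S2775.result S S
    ⟨⟨fun a b => Subtype.ext (hc a a.2 b b.2)⟩⟩ ⟨le_rfl, fun _ _ _ h => h⟩ K hK _ π
    (QuotientGroup.mk'_surjective _) hker
  have hle : opp 2 K ≤ pPrimeCore 2 X := by
    refine le_sSup ⟨?_, coprime_card_opp K⟩
    refine normalizer_eq_top_iff.1 (top_le_iff.1 ?_)
    refine le_trans ?_ (normalizer_le_normalizer_opp K)
    exact (normalizer_eq_top K).ge
  have two : ∀ a ∈ (S : Subgroup X), ∃ n, orderOf a = 2 ^ n := fun a ha => by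
    obtain ⟨n, hn⟩ := (IsPGroup.iff_orderOf.1 S.isPGroup') ⟨a, ha⟩
    exact ⟨n, by rw [← hn, ← orderOf_coe]⟩
  have hb : pCore 2 (K ⧸ pPrimeCore 2 K) ≠ ⊥ := by
    intro hb
    rw [hb, bot_sup_eq] at h3
    have cm : ∀ x ∈ omegaOne 2 (T : Subgroup (K ⧸ pPrimeCore 2 K)),
        ∀ y ∈ omegaOne 2 (T : Subgroup (K ⧸ pPrimeCore 2 K)), x * y = y * x := by
      rw [← h3]
      rintro _ ⟨x, hx, rfl⟩ _ ⟨y, hy, rfl⟩
      rw [← map_mul, ← map_mul]
      congr 1
      exact Subtype.ext (hc _ hx _ hy)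
    have sq : ∀ x ∈ omegaOne 2 (T : Subgroup (K ⧸ pPrimeCore 2 K)), x * x = 1 := by
      intro x hx
      induction hx using closure_induction with
      | mem x hx => rw [← pow_two]; exact hx.2
      | one => exact one_mul _
      | mul x y hx hy ex ey =>
        calc x * y * (x * y) = x * (y * x) * y := by group
          _ = x * x * (y * y) := by rw [cm y hy x hx]; group
          _ = 1 := by rw [ex, ey, one_mul]
      | inv x _ ex => rw [← mul_inv_rev, ex, inv_one]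
    obtain ⟨a, ha, a2⟩ := hne
    have e := sq (π ⟨a, hSK ha⟩) (h3 ▸ mem_map_of_mem π ha)
    rw [← map_mul, ← MonoidHom.mem_ker, hker] at e
    have m : a * a ∈ opp 2 K := mem_map_of_mem K.subtype e
    obtain ⟨n, hn⟩ := two _ ((S : Subgroup X).mul_mem ha ha)
    have d := orderOf_dvd_natCard _ m
    have c := ((coprime_card_opp (p := 2) K).symm.pow_left n).eq_one_of_dvd (hn ▸ d)
    exact a2 (orderOf_eq_one_iff.1 (hn.trans c))
  obtain ⟨y, hy, y1⟩ := (bot_or_exists_ne_one _).resolve_left hb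
  obtain ⟨a, ha, rfl⟩ : y ∈ ((S : Subgroup X).subgroupOf K).map π := h3 ▸ mem_sup_left hy
  obtain ⟨n, hn⟩ := two a ha
  have n0 : n ≠ 0 := by
    rintro rfl
    have : a = 1 := Subtype.ext (orderOf_eq_one_iff.1 hn)
    exact y1 (by rw [this, map_one])
  have o2 : orderOf ((a : X) ^ (orderOf (a : X) / 2)) = 2 :=
    orderOf_pow_orderOf_div (orderOf_pos _).ne' (hn ▸ dvd_pow_self 2 n0)
  set j := orderOf (a : X) / 2
  have zz : (a : X) ^ j * (a : X) ^ j = 1 := by rw [← pow_two, ← o2, pow_orderOf_eq_one]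
  refine ⟨(a : X) ^ j, (S : Subgroup X).pow_mem ha j, fun e => ?_, zz, fun k hk => hle ?_⟩
  · rw [e, orderOf_one] at o2
    exact absurd o2 (by decide)
  · have c : π (a ^ j) ∈ center _ := by rw [map_pow]; exact pow_mem (h2 hy) j
    have z2 : a ^ j * a ^ j = 1 := Subtype.ext zz
    have : (⟨k, hk⟩ : K) * a ^ j * (⟨k, hk⟩ : K)⁻¹ * a ^ j ∈ π.ker := by
      rw [MonoidHom.mem_ker, map_mul, map_mul, map_mul, mem_center_iff.1 c (π ⟨k, hk⟩), map_inv,
        mul_inv_cancel_right, ← map_mul, z2, map_one]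
    exact mem_map_of_mem K.subtype (hker ▸ this)

theorem conj_odd {G : Type*} [Group G] {s t : G} (hs : s * s = 1) (ht : t * t = 1)
    (h : Odd (orderOf (s * t))) : ∃ j : ℕ, (s * t) ^ j * t * ((s * t) ^ j)⁻¹ = s := by
  obtain ⟨j, hj⟩ := h
  have si : s⁻¹ = s := inv_eq_of_mul_eq_one_right hs
  have ti : t⁻¹ = t := inv_eq_of_mul_eq_one_right ht
  have e1 : t * (s * t)⁻¹ * t⁻¹ = s * t := by
    rw [mul_inv_rev, si, ti, ← mul_assoc, ht, one_mul]
  have e2 : t * ((s * t) ^ (j + 1))⁻¹ = (s * t) ^ (j + 1) * t := by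
    rw [← inv_pow, ← e1, conj_pow, e1, inv_mul_cancel_right]
  refine ⟨j + 1, ?_⟩
  have e3 : (s * t) ^ (j + 1) * (s * t) ^ (j + 1) = s * t := by
    rw [← pow_add, show j + 1 + (j + 1) = (2 * j + 1) + 1 by ring, pow_succ, ← hj,
      pow_orderOf_eq_one, one_mul]
  rw [mul_assoc, e2, ← mul_assoc, e3, mul_assoc, ht, mul_one]

theorem odd_sup {G : Type*} [Group G] [Finite G] {A B : Subgroup G} (hA : Odd (Nat.card A))
    (hB : Odd (Nat.card B)) (h : B ≤ nor A) : Odd (Nat.card (A ⊔ B : Subgroup G)) := by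
  have hn : (A.subgroupOf (A ⊔ B)).Normal :=
    normal_subgroupOf_of_le_normalizer (sup_le le_normalizer h)
  have e1 : A.relIndex (A ⊔ B) = A.relIndex B := by
    have h1 := relIndex_sup_left (B.subgroupOf (A ⊔ B)) (A.subgroupOf (A ⊔ B))
    rw [← subgroupOf_sup le_sup_left le_sup_right, subgroupOf_self, relIndex_top_right,
      relIndex_subgroupOf le_sup_right] at h1
    exact h1
  have e2 := card_mul_index (A.subgroupOf (A ⊔ B))
  rw [Nat.card_congr (subgroupOfEquivOfLe (le_sup_left : A ≤ A ⊔ B)).toEquiv] at e2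
  rw [← e2]
  refine hA.mul ?_
  change Odd (A.relIndex (A ⊔ B))
  rw [e1]
  exact hB.of_dvd_nat (relIndex_dvd_card _ _)

theorem jobG : JobG.{u} := by
  intro G _ _ Q R hR hab hel hnc
  obtain ⟨S, hS⟩ := hR.exists_sylow
  have mS : ∀ a : Q, a ∈ (S : Subgroup Q) ↔ (a : G) ∈ R := fun a => by rw [hS, mem_subgroupOf]
  obtain ⟨z, hz, z1, zz, hk⟩ := part1 S
    (fun a ha b hb => Subtype.ext (hab _ ((mS a).1 ha) _ ((mS b).1 hb))) (by
      by_contra hh
      push Not at hh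
      exact hel fun a ha => congrArg Subtype.val (hh ⟨a, hR.le ha⟩ ((mS _).2 ha)))
  have zR := (mS z).1 hz
  have zz' : (z : G) * z = 1 := congrArg Subtype.val zz
  set K := pElementClosure 2 Q with hK
  have KQ : K ≤ Q := pcl_le Q
  have RK : R ≤ K := le_pcl hR.isPGroup hR.le
  have oN : Odd (Nat.card (opp 2 Q)) := Nat.coprime_two_right.1 (coprime_card_opp Q)
  have k1 : K ≤ (normalClosure ((S : Subgroup Q) : Set Q)).map Q.subtype := by
    rw [hK, hR.pcl_eq_ncl]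
    refine iSup_le fun g => ?_
    rintro _ ⟨r, hr, rfl⟩
    refine ⟨g * ⟨r, hR.le hr⟩ * g⁻¹, ?_, rfl⟩
    exact normalClosure_normal.conj_mem _ (subset_normalClosure ((mS _).2 hr)) g
  have dec : ∀ k ∈ K, ∃ c ∈ opp 2 Q, c ∈ K ∧ c⁻¹ * k ∈ cen1 (z : G) := by
    intro k hkK
    obtain ⟨k', hk', rfl⟩ := k1 hkK
    have m : (k' : G) * z * (k' : G)⁻¹ * z ∈ opp 2 Q := mem_map_of_mem Q.subtype (hk k' hk')
    have mK : (k' : G) * z * (k' : G)⁻¹ * z ∈ K :=
      K.mul_mem (K.mul_mem (K.mul_mem hkK (RK zR)) (K.inv_mem hkK)) (RK zR)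
    obtain ⟨j, e⟩ := conj_odd (s := (k' : G) * z * (k' : G)⁻¹) (t := z)
      (by rw [conj_mul, zz', mul_one, mul_inv_cancel]) zz'
      (oN.of_dvd_nat (orderOf_dvd_natCard _ m))
    refine ⟨_, pow_mem m j, pow_mem mK j, mem_cen1.2 ?_⟩
    set c := ((k' : G) * z * (k' : G)⁻¹ * z) ^ j
    change c⁻¹ * k' * z = z * (c⁻¹ * k')
    calc c⁻¹ * k' * z = c⁻¹ * (k' * z * (k' : G)⁻¹) * k' := by group
      _ = c⁻¹ * (c * z * c⁻¹) * k' := by rw [e]
      _ = z * (c⁻¹ * k') := by group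
  obtain ⟨O, hO, nO, oO, hC⟩ := hnc z zR ⟨fun e => z1 (Subtype.ext e), zz'⟩
  have OQ : O ≤ Q := hO.trans inf_le_right
  have qN : Q ≤ nor (opp 2 Q) := self_le_normalizer_opp Q
  have oW : Odd (Nat.card (opp 2 Q ⊔ O : Subgroup G)) := odd_sup oN oO (OQ.trans qN)
  have kW : K ≤ nor (opp 2 Q ⊔ O) := by
    intro k hkK
    obtain ⟨c, hc, cK, hz'⟩ := dec k hkK
    have m : c⁻¹ * k ∈ Q := KQ (K.mul_mem (K.inv_mem cK) hkK)
    have a1 : c ∈ nor (opp 2 Q ⊔ O) := le_normalizer (mem_sup_left hc)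
    have a2 : c⁻¹ * k ∈ nor (opp 2 Q ⊔ O) :=
      normalizer_inf_normalizer_le_normalizer_sup _ _ ⟨qN m, nO ⟨hz', m⟩⟩
    simpa using mul_mem a1 a2
  have w1 : (opp 2 Q ⊔ O) ⊓ K ≤ opp 2 K :=
    le_opp_of_odd inf_le_right
      ((le_inf kW le_normalizer).trans inf_normalizer_le_normalizer_inf)
      (oW.of_dvd_nat (card_dvd_of_le inf_le_left))
  have w2 : opp 2 K ≤ opp 2 Q :=
    le_opp_of_odd ((opp_le K).trans KQ)
      ((le_normalizer_pcl le_normalizer).trans (normalizer_le_normalizer_opp K))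
      (Nat.coprime_two_right.1 (coprime_card_opp K))
  intro k hkK
  obtain ⟨c, hc, cK, hz'⟩ := dec k hkK
  have mK : c⁻¹ * k ∈ K := K.mul_mem (K.inv_mem cK) hkK
  have m := hC ⟨hz', KQ mK⟩
  have rO : R ≤ nor O := fun r hr => nO ⟨mem_cen1.2 (hab _ hr _ zR), hR.le hr⟩
  rw [← SetLike.mem_coe, coe_mul_of_left_le_normalizer_right R O rO] at m
  obtain ⟨r, hr, o, ho, e⟩ := m
  have oK : o ∈ K := by
    have : o = r⁻¹ * (c⁻¹ * k) := by rw [← e]; group
    rw [this]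
    exact K.mul_mem (K.inv_mem (RK hr)) mK
  have : k = c * (r * o) := by rw [show r * o = c⁻¹ * k from e]; group
  rw [this]
  exact mul_mem (mem_sup_right hc)
    (mul_mem (mem_sup_left hr) (mem_sup_right (w2 (w1 ⟨mem_sup_right ho, oK⟩))))

end H5.FEG
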