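/- Tower FS (S3257, S3617), job Blk: the block facts from growth and the maximal bad spans. -/
import Cfsg.Agent.H82.FSSpec
import Cfsg.Agent.H1.Coprime

set_option autoImplicit false
set_option linter.unusedSectionVars false

namespace H5.FSBlk

open H82.FS Subgroup
open scoped commutatorElement

universe u

variable {G : Type u} [Group G] [Finite G] {p r : ℕ} {A N : Subgroup G}

theorem pA (h : Lin p r A) : IsPGroup p A := IsPGroup.of_card (n := 1) (by rw [h.card, pow_one])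

theorem sp_comm (h : Lin p r A) {W : Subgroup G} (hW : IsPGroup r W) (hn : A ≤ normalizer (W : Set G)) :
    Sp r A ⁅W, A⁆ := by
  have := Fact.mk h.hp
  have := Fact.mk h.hr
  refine ⟨hW.to_le (le_normalizer_iff_commutator_le_left.1 hn), normalizer_commutator_ge_right _ _,
    H1.commutator_commutator_eq hn (IsPGroup.coprime_card_of_ne p r h.pr.symm _ _ (pA h) hW) (Or.inr ?_)⟩
  have := hW.isNilpotent
  infer_instance

theorem pow_mul_mem {R : Subgroup G} {y a : G} (hy : y ∈ R) (ha : a ∈ normalizer (R : Set G)) (n : ℕ) :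
    (y * a) ^ n * (a ^ n)⁻¹ ∈ R := by
  induction n with
  | zero => simp
  | succ n ih =>
    have := mul_mem ih ((mem_normalizer_iff.1 (pow_mem ha n) y).1 hy)
    convert this using 1
    rw [pow_succ, pow_succ]
    group

/-- A span inside `H` lies in `R(H)`. -/
theorem le_loc (h : Lin p r A) {H L R : Subgroup G} (hL : Sp r A L) (hLH : L ≤ H) (hA : A ≤ H)
    (hR : Sp r A R) (hp : ∀ g, cj g A ≤ H → ∃ y ∈ R, cj g A = cj y A) : L ≤ R := by
  have := Fact.mk h.hp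
  have := Fact.mk h.hr
  rw [← hL.2.2, commutator_le]
  intro l hl a ha
  obtain ⟨y, hy, e⟩ := hp l (by
    rintro _ ⟨b, hb, rfl⟩
    exact mul_mem (mul_mem (hLH hl) (hA hb)) (inv_mem (hLH hl)))
  obtain ⟨b, hb, e'⟩ : l * a * l⁻¹ ∈ cj y A := e ▸ ⟨a, ha, rfl⟩
  have e1 : y * b * y⁻¹ = l * a * l⁻¹ := e'
  have h1 : y * (b * y⁻¹ * b⁻¹) ∈ R := mul_mem hy ((mem_normalizer_iff.1 (hR.2.1 hb) _).1 (inv_mem hy))
  have h2 : ⁅l, a⁆ = y * (b * y⁻¹ * b⁻¹) * (b * a⁻¹) := by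
    rw [commutatorElement_def, ← e1]
    group
  have hc : b * a⁻¹ ∈ A := mul_mem hb (inv_mem ha)
  obtain ⟨k, hk⟩ := hL.1 ⟨⁅l, a⁆, hL.2.2.le (commutator_mem_commutator hl ha)⟩
  have hk' : ⁅l, a⁆ ^ r ^ k = 1 := congrArg Subtype.val hk
  have h3 := pow_mul_mem h1 (hR.2.1 hc) (r ^ k)
  rw [← h2, hk', one_mul, inv_mem_iff] at h3
  have h4 : (b * a⁻¹) ^ r ^ k = 1 :=
    disjoint_def.1 (IsPGroup.disjoint_of_ne p r h.pr.symm _ _ (pA h) hR.1) (pow_mem hc _) h3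
  have h5 : b * a⁻¹ = 1 := orderOf_eq_one_iff.1 (Nat.eq_one_of_dvd_coprimes
    (((Nat.coprime_primes h.hp h.hr).2 h.pr.symm).pow_right k)
    (h.card ▸ A.orderOf_dvd_natCard hc) (orderOf_dvd_of_pow_eq_one h4))
  rwa [h2, h5, mul_one]

theorem norm_ne_top (h : Geo p r A N) {Q : Subgroup G} (hQ : IsPGroup r Q) (h0 : Q ≠ ⊥) :
    normalizer (Q : Set G) ≠ ⊤ := fun e => by
  have := Fact.mk h.lin.hp
  have := Fact.mk h.lin.hr
  have := normalizer_eq_top_iff.1 e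
  have := h.norm
  have := h.simple
  rcases (inferInstance : (Q.subgroupOf N).Normal).eq_bot_or_eq_top with e1 | e1
  · refine h0 (le_bot_iff.1 (h.cen ▸ ?_))
    rw [← commutator_eq_bot_iff_le_centralizer, eq_bot_iff]
    exact (commutator_le_inf Q N).trans (subgroupOf_eq_bot.1 e1).le_bot
  · obtain ⟨n, hn⟩ := IsPGroup.iff_card.1 (hQ.to_le (subgroupOf_eq_top.1 e1))
    exact h.lin.pr ((Nat.prime_dvd_prime_iff_eq h.lin.hp h.lin.hr).1
      (h.lin.hp.dvd_of_dvd_pow (hn ▸ h.dvd))).symm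

/-- `R(H)`. -/
theorem exists_R (h : Geo p r A N) {H : Subgroup G} (hH : H ≠ ⊤) (hA : A ≤ H) :
    ∃ R, Sp r A R ∧ H ≤ normalizer (R : Set G) ∧ ∀ L, Sp r A L → L ≤ H → L ≤ R := by
  obtain ⟨R, hR, -, hn, hp⟩ := h.loc H hH hA
  exact ⟨R, hR, hn, fun L hL hLH => le_loc h.lin hL hLH hA hR hp⟩

theorem z_cen (h : Geo p r A N) {X : Subgroup G} (hX : Sp r A X) : ⁅X, X⁆ ≤ centralizer (A : Set G) :=
  (h.cls X hX).1.le.trans inf_le_right

theorem z_le (X : Subgroup G) : ⁅X, X⁆ ≤ X := le_normalizer_iff_commutator_le_left.1 le_normalizer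

/-- The group `T` of a pair of blocks. -/
abbrev TT (A X Y : Subgroup G) : Subgroup G :=
  ⁅X ⊓ Y, A⁆ ⊔ ⁅X, X⁆ ⊓ normalizer (Y : Set G) ⊔ ⁅Y, Y⁆ ⊓ normalizer (X : Set G)

theorem lam_le {X Y : Subgroup G} (hX : Sp r A X) : ⁅X ⊓ Y, A⁆ ≤ X :=
  (commutator_mono inf_le_left le_rfl).trans hX.2.2.le

theorem le_lam {U X Y : Subgroup G} (hU : Sp r A U) (h1 : U ≤ X) (h2 : U ≤ Y) : U ≤ ⁅X ⊓ Y, A⁆ :=
  hU.2.2.ge.trans (commutator_mono (le_inf h1 h2) le_rfl)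

theorem TT_R (h : Geo p r A N) {X Y : Subgroup G} (hX : Sp r A X) (hY : Sp r A Y)
    (h0 : ⁅X, X⁆ ⊓ normalizer (Y : Set G) ≠ ⊥) :
    normalizer (TT A X Y : Set G) ≠ ⊤ ∧ A ≤ normalizer (TT A X Y : Set G) := by
  refine ⟨norm_ne_top h ?_ fun e => h0 (le_bot_iff.1 (e ▸ le_sup_of_le_left le_sup_right)), ?_⟩
  · refine (hX.1.to_sup_of_normal_left' (hY.1.to_le (inf_le_left.trans (z_le Y))) inf_le_right).to_le
      (sup_le_sup_right (sup_le (lam_le hX) (inf_le_left.trans (z_le X))) _)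
  · refine le_trans (le_inf (le_trans (le_inf (normalizer_commutator_ge_right _ _) ?_)
      (normalizer_inf_normalizer_le_normalizer_sup _ _)) ?_) (normalizer_inf_normalizer_le_normalizer_sup _ _)
    · exact (le_centralizer_iff.1 (inf_le_left.trans (z_cen h hX))).trans (centralizer_le_normalizer _)
    · exact (le_centralizer_iff.1 (inf_le_left.trans (z_cen h hY))).trans (centralizer_le_normalizer _)

theorem zl (bg : JobBlkG.{u}) (h : Geo p r A N) (bm : BlkM r A) (X Y : Subgroup G) (hX : Blk r A X)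
    (hY : Blk r A Y) (hne : X ≠ Y) : ⁅X, X⁆ ⊓ normalizer (Y : Set G) = ⊥ := by
  by_contra h0
  obtain ⟨_, ⟨X, Y, hX, hY, hne, h0, rfl⟩, hmax⟩ := (wellFounded_gt (α := Subgroup G)).has_min
    {Λ | ∃ X Y, Blk r A X ∧ Blk r A Y ∧ X ≠ Y ∧ ⁅X, X⁆ ⊓ normalizer (Y : Set G) ≠ ⊥ ∧ Λ = ⁅X ⊓ Y, A⁆}
    ⟨_, X, Y, hX, hY, hne, h0, rfl⟩
  set Λ := ⁅X ⊓ Y, A⁆ with hΛ
  have mx : ∀ X' Y' U, Blk r A X' → Blk r A Y' → X' ≠ Y' → ⁅X', X'⁆ ⊓ normalizer (Y' : Set G) ≠ ⊥ →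
      Sp r A U → Λ < U → U ≤ X' → U ≤ Y' → False := fun X' Y' U a b c d e f g1 g2 =>
    hmax _ ⟨X', Y', a, b, c, d, rfl⟩ (f.trans_le (le_lam e g1 g2))
  have one : ∀ X' Y', Blk r A X' → Blk r A Y' → X' ≠ Y' → ⁅X', X'⁆ ⊓ normalizer (Y' : Set G) ≠ ⊥ →
      ⁅X' ⊓ Y', A⁆ = Λ → ⁅Y', Y'⁆ ⊓ normalizer (X' : Set G) = ⊥ := fun X Y hX hY hne h0 e => by
    by_contra h1
    obtain ⟨-, UY, sY, lY, uY, nY⟩ := bg G p r A N h X Y hX hY hne h0
    obtain ⟨-, UX, sX, lX, uX, nX⟩ := bg G p r A N h Y X hY hX hne.symm h1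
    rw [inf_comm Y X] at lX nX
    rw [sup_right_comm] at nX
    rw [e] at lX lY
    obtain ⟨t1, t2⟩ := TT_R h hX.1 hY.1 h0
    obtain ⟨R, hR, hn, hs⟩ := exists_R h t1 t2
    obtain ⟨W, hW, h2, h3⟩ := bm.fix R (⁅X, X⁆ ⊓ normalizer (Y : Set G) ⊔ ⁅Y, Y⁆ ⊓ normalizer (X : Set G))
      hR (fun e' => not_lt_bot (e' ▸ lY.trans_le (hs UY sY nY)))
      ((hX.1.1.to_sup_of_normal_left' (hY.1.1.to_le (inf_le_left.trans (z_le Y))) inf_le_right).to_le
        (sup_le_sup_right (inf_le_left.trans (z_le X)) _))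
      (sup_le (inf_le_left.trans (z_cen h hX.1)) (inf_le_left.trans (z_cen h hY.1)))
      (le_trans (sup_le (le_sup_of_le_left le_sup_right) le_sup_right) (le_normalizer.trans hn))
    by_cases hWX : X = W
    · subst hWX
      exact mx Y X UY hY hX hne.symm h1 sY lY uY ((hs UY sY nY).trans h2)
    · exact mx X W UX hX hW hWX (fun e' => h0 (le_bot_iff.1 (e' ▸ le_inf inf_le_left (le_sup_left.trans h3))))
        sX lX uX ((hs UX sX nX).trans h2)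
  have h1 := one X Y hX hY hne h0 rfl
  obtain ⟨-, UY, sY, lY, uY, nY⟩ := bg G p r A N h X Y hX hY hne h0
  obtain ⟨t1, t2⟩ := TT_R h hX.1 hY.1 h0
  obtain ⟨R, hR, hn, hs⟩ := exists_R h t1 t2
  have hT : TT A X Y ≤ X := sup_le (sup_le (lam_le hX.1) (inf_le_left.trans (z_le X))) (h1 ▸ bot_le)
  obtain ⟨W, hW, h2, h3⟩ := bm.fix R ⁅X, X⁆ hR (fun e' => not_lt_bot (e' ▸ lY.trans_le (hs UY sY nY)))
    (hX.1.1.to_le (z_le X)) (z_cen h hX.1)
    ((((h.cls X hX.1).2.1.trans (centralizer_le hT)).trans (centralizer_le_normalizer _)).trans hn)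
  have uW : UY ≤ W := (hs UY sY nY).trans h2
  have hXW : X ≠ W := fun e => mx X Y UY hX hY hne h0 sY lY (e ▸ uW) uY
  have hV : ⁅X, X⁆ ⊓ normalizer (W : Set G) = ⁅X, X⁆ := inf_eq_left.2 h3
  have h0' : ⁅X, X⁆ ⊓ normalizer (W : Set G) ≠ ⊥ := fun e =>
    h0 (le_bot_iff.1 (inf_le_left.trans (hV.symm.trans e).le))
  have sΛ : Sp r A Λ := sp_comm h.lin (hX.1.1.to_le inf_le_left)
    (le_trans (le_inf hX.1.2.1 hY.1.2.1) inf_normalizer_le_normalizer_inf)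
  have e : ⁅X ⊓ W, A⁆ = Λ := by
    by_contra hn'
    exact hmax _ ⟨X, W, hX, hW, hXW, h0', rfl⟩
      (lt_of_le_of_ne (le_lam sΛ (lam_le hX.1) (lY.le.trans uW)) (Ne.symm hn'))
  have h4 := one X W hX hW hXW h0' e
  obtain ⟨-, UW, sW, lW, uW', nW⟩ := bg G p r A N h X W hX hW hXW h0'
  obtain ⟨t3, t4⟩ := TT_R h hX.1 hW.1 h0'
  obtain ⟨R', hR', -, hs'⟩ := exists_R h t3 t4
  have hXn : X ≤ normalizer (TT A X W : Set G) := by
    refine le_normalizer_iff_commutator_le_right.2 (le_trans (commutator_mono (K₂ := X) le_rfl ?_) ?_)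
    · exact sup_le (sup_le (lam_le hX.1) (inf_le_left.trans (z_le X))) (h4 ▸ bot_le)
    · exact hV.ge.trans (le_sup_of_le_left le_sup_right)
  have := hX.2 R' hR' (hs' X hX.1 hXn)
  exact mx X W UW hX hW hXW h0' sW (e ▸ lW) (this ▸ hs' UW sW nW) uW'

theorem jobBlk : JobBlk.{u} := by
  intro bg G _ _ p r A N h bm
  refine ⟨zl bg h bm, fun L X Y hL h0 hX hY hne h1 h2 => ?_⟩
  obtain ⟨Λ, sΛ, hLΛ, hM, hn, X', Y', hX', hY', hne', h3, h4⟩ := bm.top L X Y hL h0 hX hY hne h1 h2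
  have hz : ⁅X, X⁆ ≠ ⊥ := fun e => by
    have := hM X hX.1 (((commutator_eq_bot_iff_le_centralizer.1 e).trans (centralizer_le h1)).trans
      (centralizer_le_normalizer _))
    exact hne' ((hX.2 X' hX'.1 (this.trans h3)).trans (hX.2 Y' hY'.1 (this.trans h4)).symm)
  refine ⟨hz, fun M sM hMn => ?_⟩
  obtain ⟨W, hW, h5, h6⟩ := bm.fix Λ ⁅X, X⁆ sΛ (fun e => h0 (le_bot_iff.1 (e ▸ hLΛ)))
    (hX.1.1.to_le (z_le X)) (z_cen h hX.1)
    ((((h.cls X hX.1).2.1.trans (centralizer_le h1)).trans (centralizer_le_normalizer _)).trans hn)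
  by_cases e : X = W
  · exact e ▸ (hM M sM hMn).trans h5
  · exact absurd ((inf_eq_left.2 h6).symm.trans (zl bg h bm X W hX hW e)) hz

end H5.FSBlk
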