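/- Tower KU (S2196), slot KU-Gl2: consequences of chamber transitivity. -/
import Cfsg.Agent.H53.KUSpec

set_option autoImplicit false

namespace H5.KUGl2

open Cfsg H59 H53.WU H53.KU Module

section Fr

variable {S : HS} {m : ℕ} {Φ Ψ : Fr S m}

theorem map_mem_W (g : S.G) {k : ℕ} {v : S.V} (hv : v ∈ Φ.W k) : g.1 v ∈ (Φ.map g).W k := by
  refine (Submodule.span_le (p := ((Φ.map g).W k).comap g.1.toLinearMap)).2 ?_ hv
  rintro _ ⟨j, hj, rfl⟩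
  exact (Φ.map g).e_mem_W hj

theorem sm_ev (h : Φ.Sm Ψ) {g : S.G} {a : Fin m → S.Fˣ} (hg : Φ.Ev g a) : Ψ.Ev g a := fun i => by
  have h1 : Ψ.e i ∈ Φ.W (i.1 + 1) := h _ ▸ Ψ.e_mem_W (Nat.lt_succ_self _)
  rw [← h]
  refine (Submodule.span_le (p := (Φ.W i.1).comap
    (g.1.toLinearMap - (a i : S.F) • LinearMap.id))).2 ?_ h1
  rintro _ ⟨j, hj, rfl⟩
  change g.1 (Φ.e j) - (a i : S.F) • Φ.e j ∈ Φ.W i.1
  rcases (Nat.lt_succ_iff.1 hj).lt_or_eq with h2 | h2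
  · exact sub_mem (hg.map_W _ (Φ.e_mem_W h2)) (Submodule.smul_mem _ _ (Φ.e_mem_W h2))
  · rw [Fin.ext h2]; exact hg i

theorem ev_map (k : S.G) {g : S.G} {a : Fin m → S.Fˣ} (hg : Φ.Ev g a) :
    (Φ.map k).Ev (k * g * k⁻¹) a := fun i => by
  have := map_mem_W k (hg i)
  convert this using 1
  simp [Fr.map]

theorem ev_sw {t : S.G} {a : Fin m → S.Fˣ} (h : Φ.Dg t a) (π : Equiv.Perm (Fin m))
    (ε : Fin m → Bool) : (Φ.sw π ε).Ev t (sw S.q π ε a) := fun i => by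
  have : t.1 ((Φ.sw π ε).e i) = (sw S.q π ε a i : S.F) • (Φ.sw π ε).e i := by
    rw [sw_apply, eig]
    simp only [Fr.sw]
    split_ifs
    · exact h.2.1 _
    · exact h.1 _
  rw [this, sub_self]
  exact zero_mem _

theorem dec (Φ : Fr S m) (v : S.V) :
    Φ.Pp (v - ∑ i, (S.B (Φ.f i) v • Φ.e i + S.B (Φ.e i) v • Φ.f i)) := by
  constructor <;> intro j
  · simp [map_sum, Φ.ee, Φ.ef]
  · simp [map_sum, Φ.ff, Φ.fe]

theorem W_one {r : ℕ} (Φ : Fr S (r + 3)) : Φ.W 1 = Submodule.span S.F {Φ.e 0} := by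
  rw [Fr.W]
  congr 1
  ext v
  simp only [Set.mem_image, Set.mem_ofPred_eq, Nat.lt_one_iff, Set.mem_singleton_iff]
  exact ⟨fun ⟨i, h, e⟩ => by rw [← e, show i = 0 from Fin.ext h], fun e => ⟨0, rfl, e.symm⟩⟩

theorem W_two {r : ℕ} (Φ : Fr S (r + 3)) : Φ.W 2 = Submodule.span S.F {Φ.e 1, Φ.e 0} := by
  rw [Fr.W]
  congr 1
  ext v
  simp only [Set.mem_image, Set.mem_ofPred_eq, Set.mem_insert_iff, Set.mem_singleton_iff]
  constructor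
  · rintro ⟨i, h, rfl⟩
    rcases (by omega : i.1 = 1 ∨ i.1 = 0) with h | h
    · exact Or.inl (by rw [show i = 1 from Fin.ext h])
    · exact Or.inr (by rw [show i = 0 from Fin.ext h])
  · rintro (rfl | rfl)
    · exact ⟨1, Nat.one_lt_two, rfl⟩
    · exact ⟨0, Nat.two_pos, rfl⟩

end Fr

theorem pe_one {S : HS} : PE (1 : S.G) := ⟨0, one_pow _⟩

theorem fr_one (ch : JobCh) (S : KS) {x : S.V} (hx : S.Iso x) : ∃ Φ : S.Fm, Φ.e 0 = x := by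
  obtain ⟨Φ, h, -⟩ := ch S.toHS (S.r + 3) 1 S.hr pe_one 1 (by omega) (fun _ => x) (fun _ _ => hx.2)
    (linearIndependent_unique_iff.2 hx.1) fun i => by simp
  exact ⟨Φ, h 0⟩

theorem fr_two (ch : JobCh) (S : KS) {x y : S.V} (h : S.TI x y) :
    ∃ Φ : S.Fm, Φ.e 0 = x ∧ Φ.e 1 = y := by
  obtain ⟨Φ, h, -⟩ := ch S.toHS (S.r + 3) 1 S.hr pe_one 2 (by omega) ![x, y]
    (fun i j => by
      fin_cases i <;> fin_cases j
      exacts [h.1.2, h.2.2.1, S.h.eq_zero_comm.1 h.2.2.1, h.2.1])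
    ((LinearIndependent.pair_iff' h.1.1).2 fun c e => h.2.2.2 c e.symm) fun i => by simp
  exact ⟨Φ, h 0, h 1⟩

theorem D_le {S : KS} (ct : S.CT) (Φ Ψ : S.Fm) : Φ.D S.K ≤ Ψ.D S.K := by
  rintro a ⟨g, hg, h⟩
  obtain ⟨k, hk, e⟩ := ct Φ Ψ
  exact ⟨_, mul_mem (mul_mem hk hg) (inv_mem hk), sm_ev e (ev_map k h)⟩

theorem jobGl2 (ch : JobCh) (fd : JobFD) : JobGl2 := by
  intro S ct
  refine ⟨fun x y x' y' h h' => ?_, fun Φ π ε a ha => ?_, fun Φ₀ hs x hx c hc => ?_⟩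
  · obtain ⟨Φ, rfl, rfl⟩ := fr_two ch S h
    obtain ⟨Ψ, rfl, rfl⟩ := fr_two ch S h'
    obtain ⟨k, hk, e⟩ := ct Φ Ψ
    have h1 : k.1 (Φ.e 0) ∈ Ψ.W 1 := e 1 ▸ (Φ.map k).e_mem_W (i := 0) Nat.one_pos
    have h2 : k.1 (Φ.e 1) ∈ Ψ.W 2 := e 2 ▸ (Φ.map k).e_mem_W (i := 1) Nat.one_lt_two
    rw [W_one, Submodule.mem_span_singleton] at h1
    rw [W_two, Submodule.mem_span_pair] at h2
    obtain ⟨a, ha⟩ := h1
    obtain ⟨b, c, hb⟩ := h2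
    have a0 : a ≠ 0 := fun e => h.1.1 (k.1.injective (by rw [← ha, e, zero_smul, map_zero]))
    have b0 : b ≠ 0 := fun e => h.2.2.2 (c * a⁻¹) (k.1.injective (by
      rw [map_smul, ← ha, ← hb, e, zero_smul, zero_add, smul_smul, inv_mul_cancel_right₀ a0]))
    exact ⟨k, hk, Units.mk0 a a0, Units.mk0 b b0, c, ha.symm, hb.symm⟩
  · obtain ⟨Ψ, -, h⟩ := fd S.toHS _ Φ S.K S.hr
    obtain ⟨t, ht, h1⟩ := h a ha
    exact D_le ct (Ψ.sw π ε) Φ ⟨t, ht, ev_sw h1 π ε⟩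
  · obtain ⟨Φ, rfl⟩ := fr_one ch S hx
    obtain ⟨Ψ, e, h⟩ := fd S.toHS _ Φ S.K S.hr
    obtain ⟨t, ht, h1, h2, h3⟩ := h _ (D_le ct Φ₀ Φ (hs 0 c hc))
    have h4 : Φ.e 0 ∈ Ψ.W 1 := (e 1).symm ▸ Φ.e_mem_W (i := 0) Nat.one_pos
    rw [W_one, Submodule.mem_span_singleton] at h4
    obtain ⟨s, hs⟩ := h4
    have s0 : s ≠ 0 := fun e => hx.1 (by rw [← hs, e, zero_smul])
    refine ⟨t, ht, Ψ.f 0, ?_, ?_, fun v v1 v2 => ?_⟩
    · rw [← hs, form_smul_left, Ψ.ef, if_pos rfl, mul_one]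
      exact S.h.conj_ne_zero s0
    · rw [← hs, map_smul, h1, Pi.mulSingle_eq_same, smul_comm]
    · rw [← hs, form_smul_left] at v1
      have v3 := (mul_eq_zero.1 v1).resolve_left (S.h.conj_ne_zero s0)
      have h5 := h3 _ (dec Ψ v)
      rw [Finset.prod_pi_mulSingle', if_pos (Finset.mem_univ _), hc, Units.val_one, one_smul,
        map_sub, map_sum] at h5
      rwa [Finset.sum_congr rfl (g := fun i => S.B (Ψ.f i) v • Ψ.e i + S.B (Ψ.e i) v • Ψ.f i)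
        fun i _ => by
          by_cases e : i = 0
          · simp [e, v2, v3]
          · simp [h1, h2, Pi.mulSingle_eq_of_ne e], sub_left_inj] at h5

end H5.KUGl2
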