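/- Tower KGV, job JHD: the Hasse-Davenport lifting relation from the Newton recurrence. -/
import Cfsg.Agent.H63.KgvSpec

set_option autoImplicit false

namespace H5.KgvHD

open Polynomial Finset H63.Kgv

theorem rec_sol {A S : ℕ → ℂ} {g : ℂ} (h0 : A 0 = 1) (h1 : A 1 = g) (h2 : ∀ n, 2 ≤ n → A n = 0)
    (h : ∀ n : ℕ, (n : ℂ) * A n = ∑ m ∈ range n, S (m + 1) * A (n - (m + 1))) (m : ℕ) :
    S (m + 1) = -(-g) ^ (m + 1) := by
  induction m with
  | zero =>
    have := h 1
    simp only [h1, range_one, sum_singleton, Nat.sub_self, h0, zero_add] at this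
    simpa using this.symm
  | succ m ih =>
    have h3 := h (m + 2)
    rw [h2 _ (by omega), mul_zero, sum_range_succ, sum_range_succ,
      sum_eq_zero fun i hi => by rw [h2 _ (by have := mem_range.1 hi; omega), mul_zero],
      show m + 2 - (m + 1) = 1 by omega, show m + 2 - (m + 1 + 1) = 0 by omega, h0, h1, ih] at h3
    rw [pow_succ _ (m + 1)]
    linear_combination -h3

theorem job : JHD := by
  intro n1 n2 p1 p2 a F L _ _ _ _ _ ψ χ hψ
  have mu : Mu (lam ψ χ 1) := (p1 F).2.1 ψ χ 1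
  obtain ⟨a0, hr⟩ := n1 F _ mu
  obtain ⟨a1, a2⟩ := a p1 F ψ χ hψ
  obtain ⟨m, hm⟩ : ∃ m, Module.finrank F L = m + 1 :=
    ⟨Module.finrank F L - 1, by have := Module.finrank_pos (R := F) (M := L); omega⟩
  have h1 := n2 F L _ mu
  rw [hm, rec_sol a0 a1 a2 hr m] at h1
  rw [hm, neg_eq_iff_eq_neg, ← h1]
  refine sum_congr rfl fun x _ => ?_
  rw [p2 p1 F L ψ χ 1 x one_pos, pow_one, mul_comm]

end H5.KgvHD
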