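import Cfsg.Agent.H23.NDSpec

/-! The basic facts (slot ND-Base of S4780). -/

set_option autoImplicit false
set_option linter.unusedSectionVars false
open Cfsg H28 H32 H44 H93.DG H55.Nd H23.ND H23.Garr MulAction

namespace H5.NDBase

universe u

variable {G : Type u} [Group G] [Finite G] {N : Subgroup G} [hN : N.Normal] {h : G} {p : ℕ}

theorem cyc (gen : N ⊔ Subgroup.zpowers h = ⊤) : IsCyclic (G ⧸ N) := by
  refine ⟨⟨(h : G ⧸ N), fun q => ?_⟩⟩
  obtain ⟨g, rfl⟩ := QuotientGroup.mk_surjective q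
  obtain ⟨x, hx, _, ⟨k, rfl⟩, rfl⟩ := dec_gen gen g
  refine ⟨k, ?_⟩
  simp only [QuotientGroup.mk_mul, (QuotientGroup.eq_one_iff x).2 hx, one_mul,
    QuotientGroup.mk_zpow]

theorem dd (gen : N ⊔ Subgroup.zpowers h = ⊤) {φ : N → ℂ} (hφ : IsIrrCharacter N φ) :
    DD φ ∈ charDegrees G := by
  have hcyc := cyc gen
  have hLT := le_inertia hφ.isClassFunction
  have hcyc' : IsCyclic (inertia φ ⧸ N.subgroupOf (inertia φ)) :=
    isCyclic_of_injective
      (QuotientGroup.map (N.subgroupOf (inertia φ)) N (inertia φ).subtype le_rfl) (by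
        rw [injective_iff_map_eq_one]
        intro x hx
        obtain ⟨x, rfl⟩ := QuotientGroup.mk_surjective x
        exact (QuotientGroup.eq_one_iff x).2 ((QuotientGroup.eq_one_iff (x : G)).1 hx))
  obtain ⟨η, hη, h1⟩ := exists_ext_of_cyclic hcyc' (isIrrCharacter_subgroupOf hLT hφ)
    (inertia_eq_top_iff.1 (by rw [inertia_subgroupOf hLT, Subgroup.subgroupOf_self]))
  have := mem_cd_of_ext hφ rfl hLT hη.isCharacter (fun n => h1 ⟨⟨n, hLT n.2⟩, n.2⟩) one_mem_cd
  rwa [one_mul] at this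

theorem kr_iff {θ : N → ℂ} (hθ : IsIrrCharacter N θ) : Kr ⁅N, N⁆ θ ↔ charDegree θ = 1 := by
  rw [Kr, comm_subgroupOf, hθ.charDegree_eq_one_iff]

theorem cc_of (gen : N ⊔ Subgroup.zpowers h = ⊤) {x : G} (hx : x ∈ N)
    (k : h * x * h⁻¹ * x⁻¹ ∈ ⁅N, N⁆) : x ∈ CC N := by
  let S : Subgroup G := (Subgroup.centralizer {(x : G ⧸ ⁅N, N⁆)}).comap (QuotientGroup.mk' _)
  have m : ∀ g, g ∈ S ↔ g * x * g⁻¹ * x⁻¹ ∈ ⁅N, N⁆ := fun g => by
    rw [Subgroup.mem_comap, Subgroup.mem_centralizer_singleton_iff, ← QuotientGroup.eq_one_iff,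
      ← mul_inv_eq_one]
    simp [mul_assoc]
  have : (⊤ : Subgroup G) ≤ S := gen ▸ sup_le (fun a ha => (m a).2 (cm_mem ha hx))
    (Subgroup.zpowers_le.2 ((m h).2 k))
  exact mem_CC.2 ⟨hx, fun g => (m g).1 (this (Subgroup.mem_top g))⟩

theorem fix (b : B0 p N h) {g : G} (hg : g ∉ N) {l : Lin N} (e : g • l = l) : h • l = l := by
  have h1 : (stabilizer G l).index ∈ charDegrees G := by
    have := dd b.gen (isIrr_ch l)
    rwa [DD, charDegree_ch, mul_one, inertia_ch] at this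
  by_cases h2 : (stabilizer G l).index = 1
  · exact mem_stabilizer_iff.1 (Subgroup.index_eq_one.1 h2 ▸ Subgroup.mem_top h)
  · have h3 := b.nd.eq h1 b.cdf h2 (Subgroup.index_dvd_of_le (le_stab l))
    have h4 : N.relIndex (stabilizer G l) = 1 := by
      have := Subgroup.relIndex_mul_index (le_stab l)
      rw [h3] at this
      exact Nat.eq_of_mul_eq_mul_right (Nat.zero_lt_of_lt b.one) (by rw [this, one_mul])
    exact absurd (Subgroup.relIndex_eq_one.1 h4 (mem_stabilizer_iff.2 e)) hg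

/-- The commutator with `g` on `N / N'`. -/
noncomputable def ph (N : Subgroup G) [N.Normal] (g : G) : Abelianization N →* Abelianization N :=
  Abelianization.map (MulAut.conjNormal g).toMonoidHom / MonoidHom.id _

theorem ph_of (g : G) (x : N) : ph N g (Abelianization.of x) =
    Abelianization.of ⟨g * x * g⁻¹ * (x : G)⁻¹, mul_mem (hN.conj_mem x x.2 g) (inv_mem x.2)⟩ := by
  rw [ph, MonoidHom.div_apply, Abelianization.map_of, MonoidHom.id_apply, ← map_div, div_eq_mul_inv]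
  rfl

theorem ker_iff (g : G) (x : N) : Abelianization.of x ∈ (ph N g).ker ↔
    g * x * g⁻¹ * (x : G)⁻¹ ∈ ⁅N, N⁆ := by
  rw [MonoidHom.mem_ker, ph_of, ← MonoidHom.mem_ker, Abelianization.ker_of, ← comm_subgroupOf]
  rfl

theorem fr (b : B0 p N h) {g : G} (hg : g ∉ N) {x : G} (hx : x ∈ N)
    (k : g * x * g⁻¹ * x⁻¹ ∈ ⁅N, N⁆) : x ∈ CC N := by
  have hs : Function.Surjective (Abelianization.of : N → Abelianization N) :=
    QuotientGroup.mk_surjective
  have : Finite (Abelianization N) := Finite.of_surjective _ hs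
  have r : (ph N h).range ≤ (ph N g).range := by
    rintro _ ⟨a, rfl⟩
    by_contra c
    obtain ⟨l, h1, h2⟩ := exists_hom_ne_one_of_commutator_le (ph N g).range
      (by rw [commutator_eq_bot]; exact bot_le) c
    obtain ⟨y, rfl⟩ := hs a
    let m : Lin N := l.comp Abelianization.of
    have e : g • m = m := smul_of_cm fun z hz => by
      rw [ev_of (mul_mem (hN.conj_mem z hz g) (inv_mem hz))]
      exact h1 _ ⟨Abelianization.of ⟨z, hz⟩, ph_of g ⟨z, hz⟩⟩
    have e2 := ev_cm (fix b hg e) y.2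
    rw [ev_of (mul_mem (hN.conj_mem y y.2 h) (inv_mem y.2))] at e2
    exact h2 (by rw [ph_of]; exact e2)
  have q : (ph N h).ker ≤ (ph N g).ker := fun a ha => by
    obtain ⟨y, rfl⟩ := hs a
    exact (ker_iff g y).2 ((mem_CC.1 (cc_of b.gen y.2 ((ker_iff h y).1 ha))).2 g)
  have c1 := (ph N h).ker.card_mul_index
  have c2 := (ph N g).ker.card_mul_index
  rw [Subgroup.index_ker] at c1 c2
  have c3 := Subgroup.card_le_of_le r
  have c4 : Nat.card (ph N g).ker ≤ Nat.card (ph N h).ker := by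
    refine Nat.le_of_mul_le_mul_right ?_ (Nat.card_pos (α := (ph N g).range))
    rw [c2, ← c1]
    exact Nat.mul_le_mul_left _ c3
  have e := Subgroup.eq_of_le_of_card_ge q c4
  exact cc_of b.gen hx ((ker_iff h ⟨x, hx⟩).1 (e ▸ (ker_iff g ⟨x, hx⟩).2 k))

theorem jobBase (LP : JobLP.{u}) : JobBase.{u} := by
  intro G _ _ p N hN h b
  cases nonempty_fintype G
  cases nonempty_fintype N
  have le : ⁅N, N⁆ ≤ N := Subgroup.commutator_le_left N N
  have lp := LP G N ⁅N, N⁆ N h b.gen le le_rfl fun θ hθ k => (kr_iff hθ).2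
    (b.nd.mul b.cdf (dd b.gen hθ) b.one.ne'
      (Nat.mul_dvd_mul_right (Subgroup.index_dvd_of_le k) _))
  refine ⟨fun θ hθ => dd b.gen hθ, fun d hd => ?_, fun g hg x hx k => fr b hg hx k,
    fun x hx hc => (lp x hx).1 fun g ⟨a, ha, y, hy, e⟩ => ?_, fun x hx => ?_, ?_⟩
  · obtain ⟨χ, hχ, rfl⟩ := exists_of_mem_cd hd
    obtain ⟨θ, hθ, ho⟩ := exists_constituent_res (H := N) hχ.isCharacter hχ.apply_one_ne_zero
    by_cases h1 : charDegree θ = 1
    · obtain ⟨k, hk, e⟩ := exists_degree_mul hχ hθ ho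
      rw [h1, mul_one] at e
      by_cases h2 : charDegree χ = 1
      · exact Or.inl h2
      · exact Or.inr (Or.inl (b.nd.eq hd b.cdf h2 (e ▸ hk)))
    · refine Or.inr (Or.inr ⟨θ, hθ, fun k => h1 ((kr_iff hθ).1 k), h1, Eq.symm ?_⟩)
      exact b.nd.eq (dd b.gen hθ) hd (fun e => h1 (Nat.eq_one_of_mul_eq_one_left e))
        (Dg.dvd hθ ⟨χ, hχ, ho, rfl⟩)
  · by_contra hg
    refine hc (fr b hg hx ?_)
    have := mul_mem (inv_mem (cm_mem hx ha))
      ((inferInstance : (⁅N, N⁆ : Subgroup G).Normal).conj_mem _ hy (x * a))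
    rw [e]
    convert this using 1
    group
  · by_contra c
    push Not at c
    have k := (lp x (CC_le N hx)).2 fun g ⟨a, ha, e⟩ => by
      by_contra hg
      refine c (a⁻¹ * g) (fun k => hg (by simpa using mul_mem ha k)) ?_
      calc a⁻¹ * g * x = a⁻¹ * (g * x * g⁻¹) * g := by group
        _ = _ := by rw [e]; group
    refine b.one.ne' (Subgroup.index_eq_one.2 (eq_top_iff.2 fun g _ => k g ⟨1, one_mem _,
      x⁻¹ * (g * x * g⁻¹ * x⁻¹) * x, ?_, by group⟩))
    exact (inferInstance : (⁅N, N⁆ : Subgroup G).Normal).conj_mem' _ ((mem_CC.1 hx).2 g) x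
  · by_contra c
    push Not at c
    obtain ⟨χ, hχ, e⟩ := exists_of_mem_cd b.cdf
    obtain ⟨θ, hθ, ho⟩ := exists_constituent_res (H := N) hχ.isCharacter hχ.apply_one_ne_zero
    obtain ⟨k, -, e2⟩ := exists_degree_mul hχ hθ ho
    have h1 : charDegree θ = 1 := by
      by_contra h1
      exact b.np (e ▸ e2 ▸ (b.dv _ (mem_cd hθ) h1).mul_left k)
    refine b.one.ne' (e ▸ hχ.charDegree_eq_one_iff.2 (le_trans ?_ ((deg_ne_one hχ hθ ho).2 h1)))
    refine Subgroup.commutator_le.2 fun g1 _ g2 _ => ?_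
    obtain ⟨x, hx, d, hd, rfl⟩ := dec_gen b.gen g1
    obtain ⟨y, hy, d', hd', rfl⟩ := dec_gen b.gen g2
    have z : ∀ x ∈ N, ∀ q : G ⧸ ⁅N, N⁆, Commute q (x : G ⧸ ⁅N, N⁆) := fun x hx q =>
      Subgroup.mem_center_iff.1 (c x hx).2 q
    have cd : Commute d d' := by
      obtain ⟨i, rfl⟩ := hd
      obtain ⟨j, rfl⟩ := hd'
      exact Commute.zpow_zpow_self h i j
    rw [← QuotientGroup.eq_one_iff]
    change QuotientGroup.mk' _ _ = 1
    rw [map_commutatorElement, commutatorElement_eq_one_iff_commute, map_mul, map_mul]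
    exact ((z x hx _).symm).mul_left (Commute.mul_right (z y hy _) (cd.map (QuotientGroup.mk' _)))

end H5.NDBase
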