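import Cfsg.Agent.H23.NDSpec

/-! The lifting principle (slot ND-LP of S4780). -/

set_option autoImplicit false
set_option linter.unusedSectionVars false
open Cfsg H28 H32 H23.ND

namespace H5.NDLP

universe u

theorem cnt {X Y : Type*} [Finite X] (π : X → Y) (hπ : Function.Surjective π) (S : X → Prop)
    (S' : Y → Prop) (h : ∀ x, S' (π x) → S x)
    (e : Nat.card {x // S x} = Nat.card {y // S' y}) :
    (∀ x, S x → S' (π x)) ∧ ∀ x x', S' (π x) → π x = π x' → x = x' := by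
  let φ : {x // S' (π x)} → {y // S' y} := fun x => ⟨π x.1, x.2⟩
  let ι : {x // S' (π x)} → {x // S x} := fun x => ⟨x.1, h _ x.2⟩
  have hφ : Function.Surjective φ := fun y => by
    obtain ⟨x, hx⟩ := hπ y.1
    exact ⟨⟨x, hx ▸ y.2⟩, Subtype.ext hx⟩
  have hι : Function.Injective ι := fun a b k =>
    Subtype.ext (congrArg (fun z : {x // S x} => z.1) k)
  have l1 := Nat.card_le_card_of_surjective φ hφ
  have l2 := Nat.card_le_card_of_injective ι hι
  have b1 := hφ.bijective_of_nat_card_le (e ▸ l2)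
  have b2 := hι.bijective_of_nat_card_le (e ▸ l1)
  refine ⟨fun x hx => ?_, fun x x' hx k => ?_⟩
  · obtain ⟨z, hz⟩ := b2.2 ⟨x, hx⟩
    have : z.1 = x := congrArg (fun z : {x // S x} => z.1) hz
    exact this ▸ z.2
  · exact congrArg (fun z : {x // S' (π x)} => z.1)
      (b1.1 (a₁ := ⟨x, hx⟩) (a₂ := ⟨x', k ▸ hx⟩) (Subtype.ext k))

/-- The stabiliser of the `N`-class of `x` lies in `T`. -/
def St {G : Type u} [Group G] (N T : Subgroup G) (x : G) : Prop :=
  ∀ g : G, (∃ a ∈ N, g * x * g⁻¹ = a * x * a⁻¹) → g ∈ T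

theorem st_iff {G : Type u} [Group G] {N T : Subgroup G} (hT : N ≤ T) (x : N) :
    (∀ z : N, ConjClasses.mk z = ConjClasses.mk x →
      ∀ g : G, (∃ a ∈ N, g * z * g⁻¹ = a * z * a⁻¹) → g ∈ T) ↔ St N T x := by
  refine ⟨fun h => h x rfl, fun h z hz g ⟨a, ha, e⟩ => ?_⟩
  obtain ⟨b, hb⟩ := isConj_iff.1 (ConjClasses.mk_eq_mk_iff_isConj.1 hz)
  have hb' : (b : G) * z * (b : G)⁻¹ = x := congrArg Subtype.val hb
  have k := h (b * g * (b : G)⁻¹) ⟨b * a * (b : G)⁻¹, mul_mem (mul_mem b.2 ha) (inv_mem b.2), by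
    rw [← hb']
    calc (b : G) * g * (b : G)⁻¹ * (b * z * (b : G)⁻¹) * ((b : G) * g * (b : G)⁻¹)⁻¹
        = b * (g * z * g⁻¹) * (b : G)⁻¹ := by group
      _ = _ := by rw [e]; group⟩
  have := mul_mem (mul_mem (inv_mem (hT b.2)) k) (hT b.2)
  simpa [mul_assoc] using this

theorem jobLP (Br : JobBr.{u}) : JobLP.{u} := by
  intro G _ _ N M T hN hM h gen hMN hNT hk
  let π := QuotientGroup.mk' M
  have hπ : Function.Surjective π := QuotientGroup.mk'_surjective M
  have hN' : (N.map π).Normal := hN.map π hπ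
  let f : N →* N.map π := π.subgroupMap N
  have hf : Function.Surjective f := π.subgroupMap_surjective N
  have fe : ∀ x : N, (f x : G ⧸ M) = π x := fun _ => rfl
  have mT : ∀ g, π g ∈ T.map π ↔ g ∈ T := fun g => by
    refine ⟨fun ⟨t, ht, e⟩ => ?_, fun k => ⟨g, k, rfl⟩⟩
    have : t⁻¹ * g ∈ M := QuotientGroup.eq.1 e
    simpa using mul_mem ht (hNT (hMN this))
  have gen' : N.map π ⊔ Subgroup.zpowers (π h) = ⊤ := by
    rw [← MonoidHom.map_zpowers, ← Subgroup.map_sup, gen]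
    exact Subgroup.map_top_of_surjective π hπ
  have b1 := Br G N T h gen hNT
  have b2 := Br (G ⧸ M) (N.map π) (T.map π) (π h) gen' (Subgroup.map_mono hNT)
  have hin : ∀ (η : N.map π → ℂ) (g : G),
      g ∈ inertia (fun x : N => η (f x)) ↔ π g ∈ inertia η := fun η g => by
    rw [mem_inertia_iff, mem_inertia_iff]
    have key : ∀ n : N, f ⟨g * n * g⁻¹, hN.conj_mem n n.2 g⟩ =
        ⟨π g * f n * (π g)⁻¹, hN'.conj_mem (f n) (f n).2 (π g)⟩ := fun n =>
      Subtype.ext (show π (g * n * g⁻¹) = π g * π n * (π g)⁻¹ by simp only [map_mul, map_inv])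
    refine ⟨fun k n => ?_, fun k n => ?_⟩
    · obtain ⟨m, rfl⟩ := hf n
      rw [← key]
      exact k m
    · rw [key]
      exact k _
  have hle : ∀ η : N.map π → ℂ,
      inertia (fun x : N => η (f x)) ≤ T ↔ inertia η ≤ T.map π := fun η => by
    refine ⟨fun k q hq => ?_, fun k g hg => (mT g).1 (k ((hin η g).1 hg))⟩
    obtain ⟨g, rfl⟩ := hπ q
    exact (mT g).2 (k ((hin η g).2 hq))
  have c1 : Nat.card {η : IrrCharacter (N.map π) // inertia η.1 ≤ T.map π} =
      Nat.card {θ : IrrCharacter N // inertia θ.1 ≤ T} := by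
    refine Nat.card_congr (Equiv.ofBijective (fun η =>
      ⟨⟨fun x => η.1.1 (f x), η.1.2.comp_surjective f hf⟩, (hle _).2 η.2⟩) ⟨?_, ?_⟩)
    · intro η η' k
      refine Subtype.ext (Subtype.ext (funext fun q => ?_))
      obtain ⟨x, rfl⟩ := hf q
      exact congrFun (congrArg (fun z => z.1.1) k) x
    · intro θ
      have hker : f.ker ≤ charKer θ.1.1 := fun x hx => hk _ θ.1.2 θ.2 (by
        have : π x = 1 := by rw [← fe, MonoidHom.mem_ker.1 hx]; rfl
        exact (QuotientGroup.eq_one_iff (N := M) (x : G)).1 this)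
      obtain ⟨η, hη, h1⟩ := θ.1.2.exists_descend f hf hker
      have e : (fun x => η (f x)) = θ.1.1 := funext h1
      exact ⟨⟨⟨η, hη⟩, (hle η).1 (e ▸ θ.2)⟩, Subtype.ext (Subtype.ext e)⟩
  have hq : ∀ x : N, St (N.map π) (T.map π) (f x) ↔
      ∀ g, (∃ a ∈ N, ∃ y ∈ M, g * x * g⁻¹ = a * (x * y) * a⁻¹) → g ∈ T := fun x => by
    refine ⟨fun k g ⟨a, ha, y, hy, e⟩ => (mT g).1 (k _ ⟨π a, ⟨a, ha, rfl⟩, ?_⟩),
      fun k q ⟨a', ⟨a, ha, ea⟩, e⟩ => ?_⟩
    · have hy1 : π y = 1 := (QuotientGroup.eq_one_iff _).2 hy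
      have := congrArg π e
      simpa [fe, hy1] using this
    · obtain ⟨g, rfl⟩ := hπ q
      subst ea
      refine (mT g).2 (k g ⟨a, ha, (x : G)⁻¹ * a⁻¹ * (g * x * g⁻¹) * a, ?_, by group⟩)
      refine (QuotientGroup.eq_one_iff _).1 ?_
      change π _ = 1
      rw [fe] at e
      simp only [map_mul, map_inv, e]
      group
  obtain ⟨r1, r2⟩ := cnt (ConjClasses.map f) (ConjClasses.map_surjective hf) _ _ (fun c hc => by
    obtain ⟨x, rfl⟩ := ConjClasses.mk_surjective c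
    refine (st_iff hNT x).2 fun g ⟨a, ha, e⟩ => ?_
    exact (hq x).1 ((st_iff (Subgroup.map_mono hNT) (f x)).1 hc) g
      ⟨a, ha, 1, one_mem _, by simpa using e⟩) (b1.symm.trans (c1.symm.trans b2))
  intro x hx
  refine ⟨fun k y hy => ?_, fun k => ?_⟩
  · have e := r2 (ConjClasses.mk ⟨x, hx⟩) (ConjClasses.mk ⟨x * y, mul_mem hx (hMN hy)⟩)
      ((st_iff (Subgroup.map_mono hNT) (f ⟨x, hx⟩)).2 ((hq ⟨x, hx⟩).2 k)) (by
        change ConjClasses.mk (f _) = ConjClasses.mk (f _)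
        congr 1
        refine Subtype.ext ?_
        have hy1 : π y = 1 := (QuotientGroup.eq_one_iff _).2 hy
        rw [fe, fe]
        simp only [map_mul, hy1, mul_one])
    obtain ⟨a, ha⟩ := isConj_iff.1 (ConjClasses.mk_eq_mk_iff_isConj.1 e)
    exact ⟨a, a.2, congrArg Subtype.val ha⟩
  · exact (hq ⟨x, hx⟩).1 ((st_iff (Subgroup.map_mono hNT) (f ⟨x, hx⟩)).1
      (r1 _ ((st_iff hNT ⟨x, hx⟩).2 k)))

end H5.NDLP
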