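import Cfsg.Agent.H4.Cover
import Cfsg.Agent.H8.AbFitting
import Cfsg.Agent.H98.Sylow
import Cfsg.Agent.H42.OddOrder

/-! Groups without class sizes divisible by `p²`; for `p = 2` they are solvable. -/

set_option autoImplicit false

open Cfsg Subgroup H98 H4 Finset

universe u

namespace H5

variable {G : Type*} [Group G] [Finite G]

theorem dvd_of_pow_dvd_of_not_sq {p j r m : ℕ} (hp : p.Prime) (h : p ^ j ∣ r * m) (hr : ¬ p ∣ r)
    (hm : ¬ p ^ 2 ∣ m) : p ^ j ∣ p := by
  have h1 : p ^ j ∣ m :=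
    (Nat.Coprime.pow_left j ((Nat.Prime.coprime_iff_not_dvd hp).mpr hr)).dvd_of_dvd_mul_left h
  have : j ≤ 1 := by
    by_contra h2
    exact hm ((pow_dvd_pow p (by omega)).trans h1)
  exact (pow_dvd_pow p this).trans (pow_one p).dvd

theorem exists_sub_of_not_sq_dvd {p : ℕ} [hp : Fact p.Prime] (P : Sylow p G) {x : G}
    (h : ¬ p ^ 2 ∣ ind x) : ∃ g : G, ∃ T : Subgroup G, T ≤ P ∧
      T ≤ centralizer ({g * x * g⁻¹} : Set G) ∧ T.relIndex P ∣ p := by
  obtain ⟨T, hT⟩ := exists_isSyl p (centralizer ({x} : Set G))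
  obtain ⟨g, -, hg⟩ := (isSyl_sylow P).exists_cj_le hT.isPGroup le_top
  refine ⟨g, cj g T, hg, ?_, ?_⟩
  · rintro _ ⟨y, hy, rfl⟩
    have := mem_cent_iff.mp (hT.le hy)
    refine mem_cent_iff.mpr ?_
    show g * y * g⁻¹ * (g * x * g⁻¹) = g * x * g⁻¹ * (g * y * g⁻¹)
    calc g * y * g⁻¹ * (g * x * g⁻¹) = g * (y * x) * g⁻¹ := by group
      _ = _ := by rw [this]; group
  · obtain ⟨j, hj⟩ := IsPGroup.index P.isPGroup' ((cj g T).subgroupOf P)
    have h1 : (cj g T).relIndex P ∣ T.index := by
      have e : (cj g T).index = T.index := by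
        apply Nat.eq_of_mul_eq_mul_left (Nat.card_pos (α := T))
        rw [card_mul_index, ← card_cj g T, card_mul_index]
      rw [← e, ← relIndex_mul_index hg]
      exact dvd_mul_right _ _
    rw [← relIndex_mul_index hT.le] at h1
    rw [relIndex, hj] at h1 ⊢
    exact dvd_of_pow_dvd_of_not_sq hp.out h1 hT.not_dvd_relIndex h

theorem mem_center_of_not_sq_dvd {p : ℕ} [Fact p.Prime] (P : Sylow p G)
    (h : ∀ x : G, ¬ p ^ 2 ∣ ind x) {u : G}
    (hu : ∀ T : Subgroup G, T ≤ P → T.relIndex P ∣ p → u ∈ T) : u ∈ center G := by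
  have : centralizer ({u} : Set G) = ⊤ := eq_top_of_forall_conj_mem fun x => by
    obtain ⟨g, T, h1, h2, h3⟩ := exists_sub_of_not_sq_dvd P (h x)
    exact ⟨g, mem_cent_iff.mpr (mem_cent_iff.mp (h2 (hu T h1 h3))).symm⟩
  exact mem_center_iff.mpr fun g => mem_cent_iff.mp (this ▸ mem_top g)

omit [Finite G] in
theorem mul_self_mem_of_relIndex_dvd_two {T P : Subgroup G} (h : T.relIndex P ∣ 2) {s : G}
    (hs : s ∈ P) : s * s ∈ T := by
  rcases (Nat.dvd_prime Nat.prime_two).mp h with h1 | h1
  · exact relIndex_eq_one.mp h1 (P.mul_mem hs hs)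
  · exact mul_self_mem_of_index_two h1 (⟨s, hs⟩ : P)

/-- The classes of involutions are few when `N(S)` does not centralize the elementary abelian
Sylow subgroup `S`. -/
theorem card_classes_le (S : Sylow 2 G) (hS : ∀ s ∈ (S : Subgroup G), s * s = 1) {y : G}
    (hy : y ∈ normalizer ((S : Subgroup G) : Set G))
    (hy' : y ∉ centralizer ((S : Subgroup G) : Set G)) :
    2 * (Nat.card {C : ConjClasses G // ∃ t : G, t ≠ 1 ∧ t * t = 1 ∧ ConjClasses.mk t = C} + 1) ≤
      Nat.card (S : Subgroup G) := by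
  classical
  have := Fintype.ofFinite G
  have hcomm : ∀ a ∈ (S : Subgroup G), ∀ b ∈ (S : Subgroup G), a * b = b * a := fun a ha b hb => by
    have h1 := hS _ ((S : Subgroup G).mul_mem ha hb)
    calc a * b = (a * b)⁻¹ := eq_inv_of_mul_eq_one_left h1
      _ = b * a := by
        rw [mul_inv_rev, inv_eq_of_mul_eq_one_right (hS a ha), inv_eq_of_mul_eq_one_right (hS b hb)]
  -- an odd power of `y` centralizes `S`
  have hodd : ∀ s ∈ (S : Subgroup G), y * y * s = s * (y * y) → y * s = s * y := by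
    intro s hs h
    obtain ⟨k, hk⟩ := H7.exists_pow_coprime (p := 2) y
    obtain ⟨j, hj⟩ : ∃ j, (y ^ orderOf (y ^ 2 ^ k)) ^ 2 ^ j = 1 :=
      ⟨k, by rw [← pow_mul, mul_comm, pow_mul, pow_orderOf_eq_one]⟩
    have h1 : y ^ orderOf (y ^ 2 ^ k) ∈ (S : Subgroup G) := by
      have := (isSyl_sylow S).le_of_le_normalizer' (isPGroup_zpowers hj) le_top
        (zpowers_le.mpr (pow_mem hy _))
      exact this (mem_zpowers _)
    obtain ⟨m, hm⟩ := Nat.coprime_two_right.mp hk
    rw [hm, pow_succ, pow_mul, pow_two] at h1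
    have h2 := hcomm _ h1 s hs
    have h3 : Commute ((y * y) ^ m) s := (show Commute (y * y) s from h).pow_left m
    rw [mul_assoc, ← mul_assoc s, ← h3.eq, mul_assoc] at h2
    exact mul_left_cancel h2
  let F : Subgroup G := (S : Subgroup G) ⊓ centralizer ({y} : Set G)
  have hF : 4 * Nat.card F ≤ Nat.card (S : Subgroup G) := by
    obtain ⟨j, hj⟩ := IsPGroup.index S.isPGroup' (F.subgroupOf S)
    have h1 : F.relIndex S * Nat.card F = Nat.card (S : Subgroup G) := by
      have := (F.subgroupOf S).index_mul_card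
      rwa [Nat.card_congr (subgroupOfEquivOfLe (inf_le_left : F ≤ S)).toEquiv] at this
    have h4 : 4 ≤ F.relIndex S := by
      have h5 : ¬ F.relIndex S ∣ 2 := fun h => hy' (mem_centralizer_iff.mpr fun s hs => by
        refine (hodd s hs ?_).symm
        have a1 : s⁻¹ * (y * s * y⁻¹) ∈ F := by
          rcases (Nat.dvd_prime Nat.prime_two).mp h with h6 | h6
          · exact relIndex_eq_one.mp h6 ((S : Subgroup G).mul_mem (inv_mem hs)
              (conj_mem_of_mem_normalizer hy hs))
          · have := (mul_mem_iff_of_index_two h6 (a := (⟨s, hs⟩ : (S : Subgroup G))⁻¹)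
              (b := ⟨y * s * y⁻¹, conj_mem_of_mem_normalizer hy hs⟩)).mpr (by
                rw [inv_mem_iff, mem_subgroupOf, mem_subgroupOf]
                refine ⟨fun e => ⟨conj_mem_of_mem_normalizer hy hs, mem_cent_iff.mpr ?_⟩,
                  fun e => ⟨hs, mem_cent_iff.mpr ?_⟩⟩
                · have e' : s * y = y * s := mem_cent_iff.mp e.2
                  show y * s * y⁻¹ * y = y * (y * s * y⁻¹)
                  rw [← e', mul_inv_cancel_right, e']
                · have e' : y * s * y⁻¹ * y = y * (y * s * y⁻¹) := mem_cent_iff.mp e.2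
                  show s * y = y * s
                  calc s * y = y⁻¹ * (y * s * y⁻¹ * y) * y := by group
                    _ = _ := by rw [e']; group)
            exact this
        have a2 := mem_cent_iff.mp a1.2
        have a3 := hS _ a1.1
        set w := s⁻¹ * (y * s * y⁻¹) with hw
        have a4 : y * s = s * w * y := by rw [hw]; group
        calc y * y * s = y * (s * w * y) := by rw [mul_assoc, a4]
          _ = (y * s) * w * y := by group
          _ = s * w * (y * w) * y := by rw [a4]; group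
          _ = s * (w * w) * y * y := by rw [← a2]; group
          _ = _ := by rw [a3]; group)
      rw [relIndex, hj] at h5 ⊢
      rcases j with _ | _ | j
      · exact absurd (one_dvd 2) h5
      · exact absurd dvd_rfl h5
      · exact Nat.pow_le_pow_right two_pos (show 2 ≤ j + 1 + 1 by omega)
    rw [← h1]
    exact Nat.mul_le_mul_right _ h4
  let A : Finset G := univ.filter fun s => s ∈ F ∧ s ≠ 1
  let B : Finset G := univ.filter fun s => s ∈ (S : Subgroup G) ∧ s ∉ F
  have hA : A.card + 1 = Nat.card F := by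
    rw [Nat.card_eq_fintype_card, Fintype.card_subtype, ← card_insert_of_notMem (a := 1) (by simp [A])]
    congr 1
    ext s
    by_cases h : s = 1 <;> simp [A, h]
  have hB : B.card + Nat.card F = Nat.card (S : Subgroup G) := by
    rw [Nat.card_eq_fintype_card, Fintype.card_subtype, Nat.card_eq_fintype_card,
      Fintype.card_subtype, ← card_union_of_disjoint (by
        rw [disjoint_filter]; exact fun s _ h => h.2)]
    congr 1
    ext s
    simp only [B, mem_union, mem_filter, mem_univ, true_and]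
    exact ⟨fun h => h.elim (fun h => h.1) (fun h => h.1), fun h => by
      by_cases h1 : s ∈ F
      · exact Or.inr h1
      · exact Or.inl ⟨h, h1⟩⟩
  have hB3 : 3 * (B.image ConjClasses.mk).card ≤ B.card := by
    refine mul_card_image_le_card B 3 fun C hC => ?_
    obtain ⟨s, hs, rfl⟩ := mem_image.mp hC
    obtain ⟨hs1, hs2⟩ := (mem_filter.mp hs).2
    have n1 : ∀ s ∈ (S : Subgroup G), s ∉ F → y * s * y⁻¹ ∉ F := fun s hs h1 h2 => h1 ⟨hs, by
      have e := mem_cent_iff.mp h2.2
      refine mem_cent_iff.mpr ?_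
      calc s * y = y⁻¹ * (y * s * y⁻¹ * y) * y := by group
        _ = _ := by rw [e]; group⟩
    have n2 : ∀ s ∈ (S : Subgroup G), s ∉ F → s ≠ y * s * y⁻¹ := fun s hs h1 h2 => h1 ⟨hs, by
      refine mem_cent_iff.mpr ?_
      nth_rewrite 1 [h2]; group⟩
    have m1 := conj_mem_of_mem_normalizer hy hs1
    have m2 := conj_mem_of_mem_normalizer hy m1
    have n3 : s ≠ y * (y * s * y⁻¹) * y⁻¹ := fun e => hs2 ⟨hs1, mem_cent_iff.mpr (hodd s hs1 (by
      nth_rewrite 2 [e]; group)).symm⟩
    rw [← card_eq_three.mpr ⟨s, y * s * y⁻¹, y * (y * s * y⁻¹) * y⁻¹, n2 s hs1 hs2, n3,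
      n2 _ m1 (n1 s hs1 hs2), rfl⟩]
    refine card_le_card fun z hz => ?_
    simp only [mem_insert, mem_singleton] at hz
    have c1 : ∀ s : G, ConjClasses.mk (y * s * y⁻¹) = ConjClasses.mk s := fun s =>
      ConjClasses.mk_eq_mk_iff_isConj.mpr (isConj_iff.mpr ⟨y, rfl⟩).symm
    rcases hz with rfl | rfl | rfl
    · exact mem_filter.mpr ⟨hs, rfl⟩
    · exact mem_filter.mpr ⟨mem_filter.mpr ⟨mem_univ _, m1, n1 s hs1 hs2⟩, c1 s⟩
    · exact mem_filter.mpr ⟨mem_filter.mpr ⟨mem_univ _, m2, n1 _ m1 (n1 s hs1 hs2)⟩,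
        (c1 _).trans (c1 s)⟩
  have hk : Nat.card {C : ConjClasses G // ∃ t : G, t ≠ 1 ∧ t * t = 1 ∧ ConjClasses.mk t = C} ≤
      A.card + (B.image ConjClasses.mk).card := by
    refine le_trans ?_ ((card_union_le (A.image ConjClasses.mk) _).trans
      (Nat.add_le_add_right card_image_le _))
    rw [← Nat.card_eq_finsetCard]
    refine Nat.card_le_card_of_injective (fun C => ⟨C.1, ?_⟩)
      fun C D e => Subtype.ext (by simpa using e)
    obtain ⟨t, h1, h2, e⟩ := C.2
    obtain ⟨g, -, hg⟩ := (isSyl_sylow S).exists_cj_le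
      (isPGroup_zpowers (x := t) (k := 1) (by rw [pow_one, pow_two, h2])) le_top
    have m := hg (conj_mem_cj (mem_zpowers t))
    have c : ConjClasses.mk (g * t * g⁻¹) = C.1 :=
      (ConjClasses.mk_eq_mk_iff_isConj.mpr (isConj_iff.mpr ⟨g, rfl⟩).symm).trans e
    rw [← image_union]
    refine mem_image.mpr ⟨_, ?_, c⟩
    by_cases h3 : g * t * g⁻¹ ∈ F
    · exact mem_union_left _ (mem_filter.mpr ⟨mem_univ _, h3, by simpa using h1⟩)
    · exact mem_union_right _ (mem_filter.mpr ⟨mem_univ _, m, h3⟩)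
  omega

theorem not_simple_of_not_four_dvd [IsSimpleGroup G] (h : ∀ x : G, ¬ 2 ^ 2 ∣ ind x) :
    Group.IsSolvable G := by
  classical
  have := Fintype.ofFinite G
  by_contra hs
  obtain ⟨S⟩ : Nonempty (Sylow 2 G) := inferInstance
  have hZ : center G = ⊥ := (IsSimpleGroup.eq_bot_or_eq_top_of_normal _ inferInstance).resolve_right
    fun e => hs (Group.isSolvable_of_comm fun a b => mem_center_iff.mp (e ▸ mem_top b) a)
  have hS : ∀ s ∈ (S : Subgroup G), s * s = 1 := fun s hs => by
    rw [← mem_bot, ← hZ]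
    exact mem_center_of_not_sq_dvd S h fun T _ hT => mul_self_mem_of_relIndex_dvd_two hT hs
  have hN : ¬ normalizer ((S : Subgroup G) : Set G) ≤ centralizer ((S : Subgroup G) : Set G) := by
    intro hN
    obtain ⟨N, hn, h1, h2⟩ := H7.hasNPC_iff_exists.mp (H8.hasNPC_of_normalizer_le_centralizer S hN)
    rcases hn.eq_bot_or_eq_top with rfl | rfl
    · have := (h2.of_equiv QuotientGroup.quotientBot).isNilpotent
      exact hs inferInstance
    · rw [card_top] at h1
      exact hs (H42.odd_order (Nat.odd_iff.mpr (by omega)))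
  obtain ⟨y, hy, hy'⟩ := SetLike.not_le_iff_exists.mp hN
  have hk := card_classes_le S hS hy hy'
  have hc := H24.card_classes_mul_card
    (fun C : ConjClasses G => ∃ t : G, t ≠ 1 ∧ t * t = 1 ∧ ConjClasses.mk t = C)
  set k := Nat.card {C : ConjClasses G // ∃ t : G, t ≠ 1 ∧ t * t = 1 ∧ ConjClasses.mk t = C}
  let c : G → ℕ := fun x => #{t : G | (t ≠ 1 ∧ t * t = 1) ∧ Commute t x}
  have hsum : k * Nat.card G = ∑ x : G, c x := by
    rw [hc]
    simp only [H24.card_centralizer_eq_card_filter, c, card_filter, sum_filter]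
    rw [sum_comm]
    refine sum_congr rfl fun t _ => ?_
    have e : (∃ s : G, s ≠ 1 ∧ s * s = 1 ∧ ConjClasses.mk s = ConjClasses.mk t) ↔
        t ≠ 1 ∧ t * t = 1 := by
      refine ⟨?_, fun h => ⟨t, h.1, h.2, rfl⟩⟩
      rintro ⟨s, h1, h2, e⟩
      obtain ⟨g, rfl⟩ := isConj_iff.mp (ConjClasses.mk_eq_mk_iff_isConj.mp e)
      refine ⟨by simpa using h1, ?_⟩
      calc g * s * g⁻¹ * (g * s * g⁻¹) = g * (s * s) * g⁻¹ := by group
        _ = 1 := by rw [h2]; group
    by_cases h1 : t ≠ 1 ∧ t * t = 1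
    · simp only [e, h1, ne_eq, not_false_eq_true, and_self, if_true, true_and]
    · simp only [e, h1, if_false, false_and, sum_const_zero]
  have hT : ∀ (x g : G) (T : Subgroup G), T ≤ S → T ≤ centralizer ({g * x * g⁻¹} : Set G) →
      Nat.card T ≤ c x + 1 := by
    intro x g T h1 h2
    rw [← card_cj g⁻¹ T, Nat.card_eq_fintype_card, Fintype.card_subtype]
    refine (card_le_card fun s hs => ?_).trans (card_insert_le 1 _)
    have hs' := mem_cj.mp (mem_filter.mp hs).2
    rw [inv_inv] at hs'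
    by_cases h3 : s = 1
    · exact h3 ▸ mem_insert_self _ _
    refine mem_insert_of_mem (mem_filter.mpr ⟨mem_univ _, ⟨h3, ?_⟩, ?_⟩)
    · calc s * s = g⁻¹ * (g * s * g⁻¹ * (g * s * g⁻¹)) * g := by group
        _ = 1 := by rw [hS _ (h1 hs')]; group
    · have := mem_cent_iff.mp (h2 hs')
      show s * x = x * s
      calc s * x = g⁻¹ * (g * s * g⁻¹ * (g * x * g⁻¹)) * g := by group
        _ = _ := by rw [this]; group
  have h1 : ∀ x, k ≤ c x := fun x => by
    obtain ⟨g, T, a1, a2, a3⟩ := exists_sub_of_not_sq_dvd S (h x)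
    have a4 := hT x g T a1 a2
    have a5 := (T.subgroupOf S).index_mul_card
    rw [Nat.card_congr (subgroupOfEquivOfLe a1).toEquiv] at a5
    have a6 : T.relIndex S * Nat.card T ≤ 2 * Nat.card T :=
      Nat.mul_le_mul_right _ (Nat.le_of_dvd two_pos a3)
    rw [relIndex, a5] at a6
    omega
  have h2 : k < c 1 := by
    have := hT 1 1 S le_rfl fun s _ => mem_cent_iff.mpr (by simp)
    omega
  have h3 : ∑ _x : G, k < ∑ x : G, c x := sum_lt_sum (fun x _ => h1 x) ⟨1, mem_univ _, h2⟩
  rw [sum_const, card_univ, smul_eq_mul, ← hsum, Nat.card_eq_fintype_card, mul_comm] at h3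
  exact lt_irrefl _ h3

theorem solvable_of_not_four_dvd_aux (n : ℕ) : ∀ (G : Type u) [Group G] [Finite G],
    Nat.card G = n → (∀ x : G, ¬ 2 ^ 2 ∣ ind x) → Group.IsSolvable G := by
  induction n using Nat.strong_induction_on with
  | _ n ih => ?_
  intro G _ _ hn h
  rcases subsingleton_or_nontrivial G with h1 | h1
  · infer_instance
  by_cases hs : ∃ N : Subgroup G, N.Normal ∧ N ≠ ⊥ ∧ N ≠ ⊤
  · obtain ⟨N, _, h2, h3⟩ := hs
    have := ih _ (by
      rw [← hn]
      exact (N.card_le_card_group).lt_of_ne fun e => h3 (N.eq_top_of_card_eq e)) N rfl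
      fun x hx => h x (hx.trans (H18.index_centralizer_normal_dvd N x))
    have := ih _ (by
      rw [← hn, ← N.card_mul_index]
      exact lt_mul_left Nat.card_pos ((Subgroup.one_lt_card_iff_ne_bot N).mpr h2)) (G ⧸ N) rfl
      fun y hy => by
        obtain ⟨x, rfl⟩ := QuotientGroup.mk'_surjective N y
        exact h x (hy.trans (H18.index_centralizer_map_dvd _ (QuotientGroup.mk'_surjective N) x))
    exact H2.isSolvable_of_normal_of_quotient N
  · have : IsSimpleGroup G := ⟨fun N hN => by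
      by_contra h2
      rw [not_or] at h2
      exact hs ⟨N, hN, h2.1, h2.2⟩⟩
    exact not_simple_of_not_four_dvd h

/-- A finite group without class sizes divisible by four is solvable. -/
theorem solvable_of_not_four_dvd (h : ∀ x : G, ¬ 4 ∣ ind x) : Group.IsSolvable G :=
  solvable_of_not_four_dvd_aux _ G rfl h

end H5
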