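import Cfsg.Agent.H74.O8Kit
import Cfsg.Agent.H5.FrobH1
import Cfsg.Agent.H5.FrobStruct
import Cfsg.Agent.H1.InvSylow

/-! Tower O8: jobs F21, XA7, XS6. -/

set_option autoImplicit false
set_option linter.unusedSectionVars false
set_option linter.style.haveILetI false

namespace H5.O8X

open Cfsg Subgroup H98 H74.OC H74.O8

universe u

variable {H : Type u} [Group H] [Finite H] {X : Type*} [Group X] {f : H →* X}

local instance : Fact (Nat.Prime 2) := ⟨Nat.prime_two⟩
local instance : Fact (Nat.Prime 3) := ⟨Nat.prime_three⟩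
local instance : Fact (Nat.Prime 7) := ⟨by norm_num⟩

theorem ord3 {y x : H} (hy : orderOf y = 3) (hx : x ∈ zpowers y) (h1 : x ≠ 1) : orderOf x = 3 :=
  orderOf_eq_prime (orderOf_dvd_iff_pow_eq_one.1 (hy ▸ orderOf_dvd_of_mem_zpowers hx)) h1

theorem p3 {y : H} (hy : orderOf y = 3) : IsPGroup 3 (zpowers y) :=
  IsPGroup.of_card (n := 1) (by rw [Nat.card_zpowers, hy]; rfl)

theorem cen_zp (y : H) : centralizer (zpowers y : Set H) = centralizer {y} := by
  rw [zpowers_eq_closure, centralizer_closure]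

/-- A Frobenius group `P⟨y⟩` (`P` a 7-group, `y` of order 3) acting on a 2-group. -/
theorem cube (h : Sp 8 H) {U P : Subgroup H} {y : H} (hU : IsPGroup 2 U) (hP : IsPGroup 7 P)
    (h1 : P ≠ ⊥) (hPU : P ≤ normalizer (U : Set H)) (hy : orderOf y = 3)
    (yU : y ∈ normalizer (U : Set H)) (yP : y ∈ normalizer (P : Set H)) :
    Nat.card (U ⊓ centralizer ({y} : Set H) : Subgroup H) ^ 3 = Nat.card U := by
  have o7 : ∀ g ∈ P, g ≠ 1 → orderOf g = 7 := fun g hg r => by
    obtain ⟨k, hk⟩ := isPGroup_iff_forall.1 hP g hg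
    obtain ⟨j, -, e⟩ := (Nat.dvd_prime_pow (by norm_num : Nat.Prime 7)).1
      (orderOf_dvd_of_pow_eq_one hk)
    have := h g
    rcases j with _ | _ | j
    · exact absurd (orderOf_eq_one_iff.1 e) r
    · exact e
    · have := Nat.pow_le_pow_right (show 0 < 7 by norm_num) (show 2 ≤ j + 1 + 1 by omega)
      omega
  obtain ⟨⟨g, hg⟩, g1⟩ := ne_bot_iff_exists_ne_one.1 h1
  have key := H5.card_eq_pow_of_frob (K := P) (R := zpowers y) (M := U) hPU (zpowers_le.2 yU)
    (zpowers_le.2 yP) (fun x hx x1 => eq_bot_iff.2 fun g hg => by_contra fun r => by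
      have := H26.OC.pr h (mem_centralizer_singleton_iff.1 hg.2) (by norm_num : Nat.Prime 7)
        Nat.prime_three (o7 g hg.1 r ▸ dvd_rfl) (ord3 hy hx x1 ▸ dvd_rfl) (by norm_num)
      omega)
    (by haveI := hP.isNilpotent; infer_instance) (by haveI := hU.isNilpotent; infer_instance)
    (IsPGroup.coprime_card_of_ne 2 7 (by norm_num) U P hU hP)
    (eq_bot_iff.2 ((inf_le_inf_left _ (centralizer_le (Set.singleton_subset_iff.2 hg))).trans
      (fpf h (.inr (o7 g hg fun e => g1 (Subtype.ext e))) hU).le))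
    (disjoint_iff.1 (IsPGroup.disjoint_of_ne 2 3 (by norm_num) _ _ hU (p3 hy)))
  rw [Nat.card_zpowers, hy] at key
  rw [← cen_zp]
  exact key.symm

theorem jobF21 : JobF21.{u} := fun H _ _ V σ x h hV hσ hx o7 o3 e =>
  cube h (P := zpowers σ) (H12.ea_isPGroup hV)
    (IsPGroup.of_card (n := 1) (by rw [Nat.card_zpowers, o7]; rfl))
    (by rw [Ne, zpowers_eq_bot]; rintro rfl; simp at o7) (zpowers_le.2 hσ) o3 hx
    (mem_normalizer_of_cj_le ((MonoidHom.map_zpowers _ σ).le.trans (zpowers_le.2 (by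
      change x * σ * x⁻¹ ∈ _
      rw [e]; exact pow_mem (mem_zpowers σ) 2))))

/-- The count of fixed points for an element of order 3 whose image normalises a group of
order 7. -/
theorem cube_lift (c : Cov f) {U : Subgroup H} [U.Normal] (hU : IsPGroup 2 U) {y : H}
    (hy : orderOf y = 3) {s : X} (hs : orderOf s = 7) (e : f y * s * (f y)⁻¹ ∈ zpowers s) :
    Nat.card (U ⊓ centralizer ({y} : Set H) : Subgroup H) ^ 3 = Nat.card U := by
  haveI : Finite X := Finite.of_surjective f c.sur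
  have n1 : zpowers y ≤ normalizer ((zpowers s).comap f : Set H) := zpowers_le.2
    (comap_le_normalizer_comap f (H := zpowers (f y)) (zpowers_le.2 (mem_normalizer_of_cj_le
      ((MonoidHom.map_zpowers _ s).le.trans (zpowers_le.2 e)))) (mem_zpowers (f y)))
  have cop : (Nat.card (zpowers y)).Coprime (Nat.card ((zpowers s).comap f)) := by
    rw [Nat.card_zpowers, hy, Nat.prime_three.coprime_iff_not_dvd]
    intro d
    obtain ⟨k, hk⟩ := exists_prime_orderOf_dvd_card' 3 d
    rw [← orderOf_coe] at hk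
    have d1 : orderOf (f k) ∣ 3 := hk ▸ orderOf_map_dvd f k
    have d2 : orderOf (f k) ∣ 7 := hs ▸ orderOf_dvd_of_mem_zpowers k.2
    have := two_dvd_order c.two (x := k) (orderOf_eq_one_iff.1 (Nat.eq_one_of_dvd_coprimes
      (by norm_num) d1 d2)) (fun r => by rw [r] at hk; simp at hk)
    omega
  obtain ⟨P, -, -, hP, hi, hn⟩ := H1.exists_invariant_pgroup_relIndex (zpowers y) _ n1 cop
    (.inl (by haveI := (p3 hy).isNilpotent; infer_instance)) 7 ⊥ bot_le IsPGroup.of_bot
    (le_normalizer_bot _)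
  refine cube c.sp hU hP ?_ (by simp [normalizer_eq_top]) hy (by simp [normalizer_eq_top])
    (hn (mem_zpowers y))
  rintro rfl
  obtain ⟨g, rfl⟩ := c.sur s
  rw [relIndex_bot_left] at hi
  exact hi (ord_eq c.sp f (by norm_num) hs ▸ orderOf_dvd_natCard _ (mem_zpowers (f g)))

/-- Lifting into the centraliser of an element of order 3. -/
theorem lift_cen (c : Cov f) {y : H} (hy : orderOf y = 3) {x : X} (e : f y * x = x * f y) :
    ∃ g : H, f g = x ∧ Commute y g := by
  obtain ⟨g, rfl⟩ := c.sur x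
  obtain ⟨n, hn, h⟩ := exists_mul_mem_centralizer (N := f.ker) (p3 hy)
    (not_dvd_card_of_isPGroup_ne Nat.prime_three (by norm_num) c.two) (by simp [normalizer_eq_top])
    (y := g) fun a ha => by
      obtain ⟨k, rfl⟩ := mem_zpowers_iff.1 ha
      rw [MonoidHom.mem_ker, map_commutatorElement, commutatorElement_eq_one_iff_commute, map_zpow]
      exact (show Commute (f y) (f g) from e).zpow_left k
  exact ⟨n * g, by rw [map_mul, MonoidHom.mem_ker.1 hn, one_mul], h y (mem_zpowers y)⟩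

theorem lift_cen3 (c : Cov f) {y : H} (hy : orderOf y = 3) {x : X} (hx : orderOf x = 3)
    (e : f y * x = x * f y) : ∃ g : H, f g = x ∧ orderOf g = 3 ∧ Commute y g := by
  obtain ⟨g, rfl, h⟩ := lift_cen c hy e
  obtain ⟨h1, h2⟩ := lift3 c.sp f hx
  exact ⟨g ^ 4, h2, h1, h.pow_right 4⟩

/-- Pull back along an injective map. -/
theorem pull (c : Cov f) {Y : Type*} [Group Y] (i : Y →* X) (hi : Function.Injective i) :
    ∃ f' : i.range.comap f →* Y, Cov f' ∧ f'.ker = f.ker.subgroupOf _ ∧ ∀ x, i (f' x) = f x := by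
  let f' : i.range.comap f →* Y :=
    (MonoidHom.ofInjective hi).symm.toMonoidHom.comp (f.subgroupComap i.range)
  have e : ∀ x, i (f' x) = f x := fun x =>
    congrArg Subtype.val ((MonoidHom.ofInjective hi).apply_symm_apply (f.subgroupComap i.range x))
  have k : f'.ker = f.ker.subgroupOf _ := by
    ext x
    rw [mem_subgroupOf, MonoidHom.mem_ker, MonoidHom.mem_ker, ← e, ← hi.eq_iff, map_one]
  refine ⟨f', ⟨c.sp.sub _, fun y => ?_, k ▸ isPGroup_subgroupOf c.two _⟩, k, e⟩
  obtain ⟨g, hg⟩ := c.sur (i y)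
  exact ⟨⟨g, y, hg.symm⟩, hi ((e _).trans hg)⟩

/-- All elements of order 3 over `x` are fixed point free on the kernel. -/
def FP (f : H →* X) (x : X) : Prop :=
  ∀ y : H, orderOf y = 3 → f y = x → f.ker ⊓ centralizer ({y} : Set H) = ⊥

theorem fp5 (x5 : JobX5.{u}) (c : Cov f) (i : S5 →* X) (hi : Function.Injective i) (x : S5) :
    FP f (i x) := fun y hy e => by
  obtain ⟨f', c', k, -⟩ := pull c i hi
  have m : y ∈ i.range.comap f := ⟨x, e.symm⟩
  have := x5 _ f' c' ⟨y, m⟩ (by rw [← orderOf_coe]; exact hy)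
  refine eq_bot_iff.2 fun v hv => ?_
  have mv : v ∈ i.range.comap f := by
    rw [mem_comap, MonoidHom.mem_ker.1 hv.1]; exact one_mem _
  have : (⟨v, mv⟩ : i.range.comap f) ∈ (⊥ : Subgroup _) := this ▸ ⟨k ▸ hv.1,
    mem_centralizer_singleton_iff.2 (Subtype.ext (mem_centralizer_singleton_iff.1 hv.2))⟩
  exact congrArg Subtype.val (mem_bot.1 this)

theorem FP.conj (c : Cov f) {x : X} (h : FP f x) (g : X) : FP f (g * x * g⁻¹) := fun y hy e => by
  obtain ⟨g, rfl⟩ := c.sur g
  have := h (g⁻¹ * y * g) (by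
    rw [← hy]; exact SemiconjBy.orderOf_eq g (by unfold SemiconjBy; group)) (by
    rw [map_mul, map_mul, map_inv, e]; group)
  refine eq_bot_iff.2 fun v hv => ?_
  have m : g⁻¹ * v * g ∈ (⊥ : Subgroup H) := this ▸ ⟨(MonoidHom.normal_ker f).conj_mem' _ hv.1 g,
    mem_centralizer_singleton_iff.2 (by
      calc _ = g⁻¹ * (v * y) * g := by group
        _ = _ := by rw [mem_centralizer_singleton_iff.1 hv.2]; group)⟩
  have := mem_bot.1 m
  rw [mul_assoc, inv_mul_eq_one, eq_comm, mul_eq_right] at this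
  exact this

theorem nrm {V : Subgroup H} [V.Normal] {a : H} (a3 : a ^ 3 = 1)
    (h : V ⊓ centralizer ({a} : Set H) = ⊥) (u : V) :
    u * MulAut.conjNormal a u * MulAut.conjNormal a (MulAut.conjNormal a u) = 1 := by
  obtain ⟨y, -, e⟩ := H5.exists_conj_eq_mul_of_fpf (by simp [normalizer_eq_top]) h u.2
  have e1 : (u * a) ^ 3 = 1 := by rw [← e, conj_pow, a3]; group
  refine Subtype.ext ?_
  simp only [coe_mul, MulAut.conjNormal_apply, coe_one]
  calc _ = (u * a) ^ 3 * (a ^ 3)⁻¹ := by simp only [pow_succ, pow_zero]; group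
    _ = 1 := by rw [e1, a3]; group

/-- Two commuting fixed point free elements of order 3 on an abelian group. -/
theorem two {V : Subgroup H} [V.Normal] (hV : IsMulCommutative V) {a b : H} (hc : Commute a b)
    (a3 : a ^ 3 = 1) (b3 : b ^ 3 = 1) (ha : V ⊓ centralizer ({a} : Set H) = ⊥)
    (hb : V ⊓ centralizer ({b} : Set H) = ⊥) :
    Nat.card V ≤ Nat.card (V ⊓ centralizer ({a * b⁻¹} : Set H) : Subgroup H) *
      Nat.card (V ⊓ centralizer ({a * b} : Set H) : Subgroup H) := by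
  letI : CommGroup V := { (inferInstance : Group V) with mul_comm := hV.is_comm.comm }
  let ρ : H →* MulAut V := MulAut.conjNormal
  let φ : V →* V := (ρ (a * b⁻¹)).toMonoidHom / MonoidHom.id V
  have fx : ∀ (g : H) (v : V), ρ g v = v ↔ (v : H) ∈ centralizer ({g} : Set H) := fun g v => by
    rw [mem_centralizer_singleton_iff, Subtype.ext_iff, MulAut.conjNormal_apply,
      mul_inv_eq_iff_eq_mul, eq_comm]
  have le : ∀ (g : H) (K : Subgroup V), (∀ v ∈ K, ρ g v = v) →
      Nat.card K ≤ Nat.card (V ⊓ centralizer ({g} : Set H) : Subgroup H) := fun g K hK => by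
    rw [← card_map_of_injective V.subtype_injective]
    refine card_le_of_le ?_
    rintro _ ⟨v, hv, rfl⟩
    exact ⟨v.2, (fx g v).1 (hK v hv)⟩
  rw [← card_mul_index φ.ker, index_ker]
  refine Nat.mul_le_mul (le _ _ fun v hv => div_eq_one.1 hv) (le _ _ ?_)
  rintro _ ⟨v, rfl⟩
  obtain ⟨u, rfl⟩ := (ρ b).surjective v
  have cm : ∀ w, ρ b (ρ a w) = ρ a (ρ b w) := fun w => by
    rw [← MulAut.mul_apply, ← map_mul, ← hc.eq, map_mul, MulAut.mul_apply]
  have e : φ (ρ b u) = ρ a u / ρ b u := by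
    change ρ (a * b⁻¹) (ρ b u) / ρ b u = _
    rw [← MulAut.mul_apply, ← map_mul, inv_mul_cancel_right]
  have h1 := nrm a3 ha (ρ b u)
  have h2 := congrArg (ρ a) (nrm b3 hb u)
  rw [map_mul, map_mul, map_one] at h2
  rw [e, map_mul, MulAut.mul_apply, map_div, map_div, cm, div_eq_div_iff_mul_eq_mul]
  refine mul_left_cancel (a := ρ a (ρ b u)) ?_
  rw [mul_comm _ (ρ b u), mul_left_comm, mul_left_comm _ (ρ a u), ← mul_assoc, ← mul_assoc]
  exact h1.trans h2.symm

/-- Commuting lifts of two commuting elements of order 3. -/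
theorem lift2 (c : Cov f) {x x' : X} (h : orderOf x = 3) (h' : orderOf x' = 3)
    (e : x * x' = x' * x) :
    ∃ a b : H, f a = x ∧ f b = x' ∧ orderOf a = 3 ∧ orderOf b = 3 ∧ Commute a b := by
  obtain ⟨g, rfl⟩ := c.sur x
  obtain ⟨h1, h2⟩ := lift3 c.sp f h
  obtain ⟨b, h3, h4, h5⟩ := lift_cen3 c h1 h' (h2.symm ▸ e)
  exact ⟨g ^ 4, b, h2, h3, h1, h4, h5⟩

theorem ord_mul {a b : H} (hc : Commute a b) (a3 : a ^ 3 = 1) (b3 : b ^ 3 = 1) (h : f (a * b) ≠ 1) :
    orderOf (a * b) = 3 :=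
  orderOf_eq_prime (by rw [hc.mul_pow, a3, b3, one_mul]) fun e => h (by rw [e, map_one])

theorem fp_swap (c : Cov f) {x s : X} (h : FP f x) (hx : orderOf x = 3) (s2 : s ^ 2 = 1)
    (e1 : x * (s * x * s⁻¹) * x = x * (x * (s * x * s⁻¹)))
    (e2 : x * (s * x * s⁻¹) * s = s * (x * (s * x * s⁻¹))) : FP f (x * (s * x * s⁻¹)) :=
  fun y hy e => by
  obtain ⟨a, rfl, oa, ca⟩ := lift_cen3 c hy hx (e.symm ▸ e1)
  obtain ⟨s, rfl, cs⟩ := lift_cen c hy (e.symm ▸ e2)
  have hU := el3 c.sp hy (U := (zpowers (f s)).comap f ⊓ centralizer {y})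
    (IsPGroup.to_inf_left ((isPGroup_zpowers (k := 1) (by simpa using s2)).comap_of_ker_isPGroup f
      c.two)) inf_le_right
  have cm : ∀ u ∈ (zpowers (f s)).comap f ⊓ centralizer {y}, ∀ v ∈ f.ker ⊓ centralizer {y},
      u * v = v * u := fun u hu v hv => congrArg Subtype.val (hU.1.is_comm.comm ⟨u, hu⟩
        ⟨v, mem_inf.2 ⟨by rw [mem_comap, MonoidHom.mem_ker.1 hv.1]; exact one_mem _, hv.2⟩⟩)
  have ma : a ∈ centralizer ({y} : Set H) := mem_centralizer_singleton_iff.2 ca.eq.symm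
  have ms : s ∈ centralizer ({y} : Set H) := mem_centralizer_singleton_iff.2 cs.eq.symm
  have my : y ∈ centralizer ({y} : Set H) := mem_centralizer_singleton_iff.2 rfl
  refine eq_bot_iff.2 fun v hv => h a oa rfl ▸ ⟨hv.1, mem_centralizer_singleton_iff.2 ?_⟩
  have h1 := cm s ⟨mem_zpowers _, ms⟩ v hv
  have h2 := cm s ⟨mem_zpowers _, ms⟩ (a * v * a⁻¹) (mem_inf.2
    ⟨(MonoidHom.normal_ker f).conj_mem _ hv.1 a, mul_mem (mul_mem ma hv.2) (inv_mem ma)⟩)
  have h3 := cm (a * (s * a * s⁻¹) * y⁻¹) (mem_inf.2 ⟨by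
    rw [mem_comap, map_mul, map_inv f y, e, map_mul, map_mul, map_mul, map_inv, mul_inv_cancel]
    exact one_mem _,
    mul_mem (mul_mem ma (mul_mem (mul_mem ms ma) (inv_mem ms))) (inv_mem my)⟩) v hv
  have h4 : Commute y v := (mem_centralizer_singleton_iff.1 hv.2).symm
  have h5 := (show Commute _ v from h3).mul_left h4
  rw [inv_mul_cancel_right] at h5
  have h6 : Commute (a ^ 2) v := by
    have : a * (s * a * s⁻¹) * v * (a * (s * a * s⁻¹))⁻¹ = a ^ 2 * v * (a ^ 2)⁻¹ := by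
      calc _ = a * (s * (a * (s⁻¹ * (v * s)) * a⁻¹) * s⁻¹) * a⁻¹ := by group
        _ = _ := by rw [← h1, inv_mul_cancel_left, h2, pow_two]; group
    rw [h5.eq, mul_inv_cancel_right, eq_mul_inv_iff_mul_eq] at this
    exact this.symm
  have h7 := h6.pow_left 2
  rw [← pow_mul, show 2 * 2 = 3 + 1 from rfl, pow_succ, ← oa, pow_orderOf_eq_one, one_mul] at h7
  exact h7.eq.symm

theorem normal_oz (f : H →* X) : (oz 2 f.ker).Normal :=
  normal_of_top_le_normalizer (le_normalizer_oz (by simp [normalizer_eq_top]))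

theorem FP.oz {x : X} (h : FP f x) {y : H} (hy : orderOf y = 3) (e : f y = x) :
    oz 2 f.ker ⊓ centralizer ({y} : Set H) = ⊥ :=
  eq_bot_iff.2 ((inf_le_inf_right _ (oz_le _)).trans (h y hy e).le)

/-- The setting of both extension jobs. -/
theorem both (c : Cov f) {x x' : X} (h : FP f x) (h' : FP f x') (o : orderOf x = 3)
    (o' : orderOf x' = 3) (e : x * x' = x' * x) (n1 : x * x' ≠ 1) (n2 : x * x'⁻¹ ≠ 1) :
    ∃ y y' : H, orderOf y = 3 ∧ orderOf y' = 3 ∧ f y = x * x' ∧ f y' = x * x'⁻¹ ∧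
      Nat.card (oz 2 f.ker) ≤ Nat.card (oz 2 f.ker ⊓ centralizer ({y'} : Set H) : Subgroup H) *
        Nat.card (oz 2 f.ker ⊓ centralizer ({y} : Set H) : Subgroup H) := by
  obtain ⟨a, b, rfl, rfl, oa, ob, hc⟩ := lift2 c o o' e
  have a3 : a ^ 3 = 1 := oa ▸ pow_orderOf_eq_one a
  have b3 : b ^ 3 = 1 := ob ▸ pow_orderOf_eq_one b
  haveI := normal_oz f
  exact ⟨a * b, a * b⁻¹, ord_mul (f := f) hc a3 b3 (by rwa [map_mul]),
    ord_mul (f := f) hc.inv_right a3 (by rw [inv_pow, b3, inv_one]) (by rwa [map_mul, map_inv]),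
    map_mul _ _ _, by rw [map_mul, map_inv],
    two (ea_oz _).1 hc a3 b3 (h.oz oa rfl) (h'.oz ob rfl)⟩

open Equiv

set_option maxRecDepth 100000

/-- The point stabiliser. -/
def i6 : S5 →* S6 :=
  (finSumFinEquiv (m := 5) (n := 1)).permCongrHom.toMonoidHom.comp
    ((Perm.sumCongrHom (Fin 5) (Fin 1)).comp (MonoidHom.inl _ _))

theorem i6_inj : Function.Injective i6 := fun a b e =>
  (Prod.ext_iff.1 (Perm.sumCongrHom_injective (a₁ := (a, 1)) (a₂ := (b, 1))
    ((finSumFinEquiv (m := 5) (n := 1)).permCongrHom.injective e))).1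

theorem jobXS6 : JobXS6.{u} := fun x5 H _ _ f c => by
  by_contra r
  let a : S6 := c[0, 1, 2]
  let s : S6 := swap 0 3 * swap 1 4 * swap 2 5
  let t : S6 := swap 0 3 * swap 1 5 * swap 2 4
  have oa : orderOf a = 3 := orderOf_eq_prime (by decide) (by decide)
  have ha : FP f a := (show i6 c[0, 1, 2] = a by decide) ▸ fp5 x5 c i6 i6_inj _
  obtain ⟨y, y', o, o', e, e', h⟩ := both c ha (ha.conj c s) oa
    (orderOf_eq_prime (by decide) (by decide)) (by decide) (by decide) (by decide)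
  rw [(fp_swap c ha oa (s := s) (by decide) (by decide) (by decide)).oz o e,
    (fp_swap c ha oa (s := t) (by decide) (by decide) (by decide)).oz o' (e'.trans (by decide)),
    card_bot] at h
  exact oz_ne_bot c.two r ((card_le_one_iff_eq_bot _).1 h)

/-- The sign as a permutation of two points. -/
def sg : ℤˣ →* Perm (Fin 2) := MonoidHom.mk' (fun u => if u = 1 then 1 else swap 0 1) (by decide)

def j7 : S5 →* Perm (Fin 7) :=
  (finSumFinEquiv (m := 5) (n := 2)).permCongrHom.toMonoidHom.comp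
    ((Perm.sumCongrHom (Fin 5) (Fin 2)).comp ((MonoidHom.id _).prod (sg.comp Perm.sign)))

def i7 : S5 →* A7 := j7.codRestrict _ fun g => by
  have : ∀ u : ℤˣ, u * Perm.sign (sg u) = 1 := by decide
  rw [Perm.mem_alternatingGroup]
  change Perm.sign (permCongr _ (Perm.sumCongr g (sg (Perm.sign g)))) = 1
  rw [Perm.sign_permCongr, Perm.sign_sumCongr, this]

theorem i7_inj : Function.Injective i7 := fun a b e =>
  (Prod.ext_iff.1 (Perm.sumCongrHom_injective (a₁ := (a, sg (Perm.sign a)))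
    (a₂ := (b, sg (Perm.sign b)))
    ((finSumFinEquiv (m := 5) (n := 2)).permCongrHom.injective (congrArg Subtype.val e)))).1

theorem jobXA7 : JobXA7.{u} := fun x5 _ H _ _ f c => by
  by_contra r
  haveI := normal_oz f
  let a : A7 := ⟨c[0, 1, 2], Perm.mem_alternatingGroup.2 (by decide)⟩
  let s : A7 := ⟨swap 0 3 * swap 1 4 * swap 2 5 * swap 3 6, Perm.mem_alternatingGroup.2 (by decide)⟩
  let p : A7 := ⟨c[0, 1, 3, 2, 5, 4, 6], Perm.mem_alternatingGroup.2 (by decide)⟩
  let q : A7 := ⟨c[0, 1, 3, 2, 4, 5, 6], Perm.mem_alternatingGroup.2 (by decide)⟩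
  have oa : orderOf a = 3 := orderOf_eq_prime (by decide) (by decide)
  have ha : FP f a := (show i7 c[0, 1, 2] = a by decide) ▸ fp5 x5 c i7 i7_inj _
  obtain ⟨y, y', o, o', e, e', h⟩ := both c ha (ha.conj c s) oa
    (orderOf_eq_prime (by decide) (by decide)) (by decide) (by decide) (by decide)
  have h1 := cube_lift c (isPGroup_oz f.ker) o (s := p) (orderOf_eq_prime (by decide) (by decide))
    (by rw [e, show a * (s * a * s⁻¹) * p * (a * (s * a * s⁻¹))⁻¹ = p ^ 2 by decide]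
        exact pow_mem (mem_zpowers p) 2)
  have h2 := cube_lift c (isPGroup_oz f.ker) o' (s := q) (orderOf_eq_prime (by decide) (by decide))
    (by rw [e', show a * (s * a * s⁻¹)⁻¹ * q * (a * (s * a * s⁻¹)⁻¹)⁻¹ = q ^ 2 by decide]
        exact pow_mem (mem_zpowers q) 2)
  have h3 := Nat.pow_left_injective (by norm_num) (h1.trans h2.symm)
  have h4 := (one_lt_card_iff_ne_bot _).2 (oz_ne_bot c.two r)
  rw [← h3, ← h1] at h
  rw [← h1] at h4
  generalize Nat.card (oz 2 f.ker ⊓ centralizer ({y} : Set H) : Subgroup H) = n at h h4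
  have : 1 < n := by
    by_contra r
    interval_cases n <;> simp at h4
  nlinarith

end H5.O8X
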