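/- Formulas over the Sylow 2-subgroup of the Ree group over the field with two elements, decided by
bit-sliced evaluation. -/
import Cfsg.Agent.H65.PaAM2

set_option autoImplicit false
set_option linter.unusedSectionVars false

namespace H5.R3
open H63.Oc H65.PA

/-- terms in one variable -/
inductive Ex
  | v
  | c (n : ℕ)
  | mul (a b : Ex)
  | n8 (a : Ex)
  | n1 (a : Ex)
  | up (a : Ex)
  | ap (g : Tw ℕ) (a : Ex)

/-- formulas -/
inductive Fm
  | tt
  | eq (a b : Ex)
  | not (p : Fm)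
  | and (p q : Fm)
  | or (p q : Fm)

instance : Mul Ex := ⟨Ex.mul⟩

/-- implication -/
def Fm.imp (p q : Fm) : Fm := .or p.not q
/-- bounded existential quantifier -/
def Fm.ex {α : Type} (L : List α) (f : α → Fm) : Fm := L.foldr (fun a p => .or (f a) p) Fm.tt.not
/-- bounded universal quantifier -/
def Fm.all {α : Type} (L : List α) (f : α → Fm) : Fm := L.foldr (fun a p => .and (f a) p) Fm.tt

/-- evaluation on vectors -/
noncomputable def Ex.run (o : ℕ) (u : V) (e : Ex) : (V → Bool) → Bool :=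
  Ex.rec (motive := fun _ => (V → Bool) → Bool) (fun k => k u) (fun n k => (cv o n).frc k)
    (fun _ _ ra rb k => ra fun x => rb fun y => mm true x y k)
    (fun _ r k => r fun x => x.nu8.frc k) (fun _ r k => r fun x => x.nu1.frc k)
    (fun _ r k => r fun x => k x.up) (fun g _ r k => r fun x => H65.PA.ap true (cvT o g) x k) e

/-- the mask of the positions where the formula holds -/
noncomputable def Fm.run (o : ℕ) (u : V) (p : Fm) : (ℕ → Bool) → Bool :=
  Fm.rec (motive := fun _ => (ℕ → Bool) → Bool) (fun k => k o)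
    (fun a b k => a.run o u fun x => b.run o u fun y => force (Nat.xor o (x.neq y)) k)
    (fun _ r k => r fun m => force (Nat.xor o m) k)
    (fun _ _ r s k => r fun m => s fun m' => force (Nat.land m m') k)
    (fun _ _ r s k => r fun m => s fun m' => force (Nat.lor m m') k) p

/-- the formula holds for all elements -/
noncomputable def Fm.chk (p : Fm) : Bool :=
  force (on 12) fun o => uS.frc fun u => p.run o u fun m => Nat.beq m o
/-- the formula holds for the identity -/
noncomputable def Fm.one (p : Fm) : Bool := p.run 1 (cv 1 0) fun m => Nat.beq m 1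

variable {K : Type*} [Field K] [CharP K 2] {T : TF K}

/-- the value of a term -/
noncomputable def Ex.ev (x : Co T) : Ex → Co T
  | .v => x
  | .c n => el T n
  | .mul a b => a.ev x * b.ev x
  | .n8 a => (a.ev x).nu8
  | .n1 a => (a.ev x).nu1
  | .up a => uu T (a.ev x).b8 (a.ev x).a8
  | .ap g a => apC (elT T g) (a.ev x)

/-- the meaning of a formula -/
def Fm.sem (x : Co T) : Fm → Prop
  | .tt => True
  | .eq a b => a.ev x = b.ev x
  | .not p => ¬ p.sem x
  | .and p q => p.sem x ∧ q.sem x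
  | .or p q => p.sem x ∨ q.sem x

theorem ev_mul (x : Co T) (a b : Ex) : (a * b).ev x = a.ev x * b.ev x := rfl

theorem sem_imp {x : Co T} {p q : Fm} : (p.imp q).sem x ↔ (p.sem x → q.sem x) :=
  imp_iff_not_or.symm

theorem sem_ex {α : Type} {x : Co T} {L : List α} {f : α → Fm} :
    (Fm.ex L f).sem x ↔ ∃ a ∈ L, (f a).sem x := by
  induction L with
  | nil => simp [Fm.ex, Fm.sem]
  | cons a L ih =>
    show (f a).sem x ∨ (Fm.ex L f).sem x ↔ _
    simp [ih]

theorem sem_all {α : Type} {x : Co T} {L : List α} {f : α → Fm} :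
    (Fm.all L f).sem x ↔ ∀ a ∈ L, (f a).sem x := by
  induction L with
  | nil => simp [Fm.all, Fm.sem]
  | cons a L ih =>
    show (f a).sem x ∧ (Fm.all L f).sem x ↔ _
    simp [ih]

variable {o i : ℕ} {u : V} {x : Co T}

theorem Ex.run_spec (ho : o.testBit i = true) (hu : R true i u x) (e : Ex) :
    ∀ k, e.run o u k = true → ∃ z, R true i z (e.ev x) ∧ k z = true := by
  induction e with
  | v => exact fun k h => ⟨u, hu, h⟩
  | c n => exact fun k h => ⟨_, R.c ho n, (V.frc_eq _ _).symm.trans h⟩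
  | mul a b ia ib =>
    intro k h
    obtain ⟨y, hy, h⟩ := ia _ h
    obtain ⟨z, hz, h⟩ := ib _ h
    exact hy.mm hz h
  | n8 a ia =>
    intro k h
    obtain ⟨y, hy, h⟩ := ia _ h
    exact ⟨_, hy.nu8, (V.frc_eq _ _).symm.trans h⟩
  | n1 a ia =>
    intro k h
    obtain ⟨y, hy, h⟩ := ia _ h
    exact ⟨_, hy.nu1, (V.frc_eq _ _).symm.trans h⟩
  | up a ia =>
    intro k h
    obtain ⟨y, hy, h⟩ := ia _ h
    exact ⟨_, hy.up, h⟩
  | ap g a ia =>
    intro k h
    obtain ⟨y, hy, h⟩ := ia _ h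
    exact (R12.cv ho g).ap hy h

theorem Fm.run_spec (ho : o.testBit i = true) (hu : R true i u x) (p : Fm) :
    ∀ k, p.run o u k = true → ∃ m : ℕ, (m.testBit i = true ↔ p.sem x) ∧ k m = true := by
  induction p with
  | tt => exact fun k h => ⟨o, iff_of_true ho trivial, h⟩
  | eq a b =>
    intro k h
    obtain ⟨y, hy, h⟩ := a.run_spec ho hu _ h
    obtain ⟨z, hz, h⟩ := b.run_spec ho hu _ h
    refine ⟨_, ?_, (force_eq _ _).symm.trans h⟩
    rw [xor_bit ho, Bool.not_eq_true', neq_iff (T := T), hy, hz]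
    rfl
  | not p ip =>
    intro k h
    obtain ⟨m, hm, h⟩ := ip _ h
    refine ⟨_, ?_, (force_eq _ _).symm.trans h⟩
    rw [xor_bit ho, Bool.not_eq_true', ← Bool.not_eq_true, hm]
    rfl
  | and p q ip iq =>
    intro k h
    obtain ⟨m, hm, h⟩ := ip _ h
    obtain ⟨m', hm', h⟩ := iq _ h
    refine ⟨_, ?_, (force_eq _ _).symm.trans h⟩
    rw [show (Nat.land m m').testBit i = _ from Nat.testBit_and m m' i, Bool.and_eq_true, hm, hm']
    rfl
  | or p q ip iq =>
    intro k h
    obtain ⟨m, hm, h⟩ := ip _ h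
    obtain ⟨m', hm', h⟩ := iq _ h
    refine ⟨_, ?_, (force_eq _ _).symm.trans h⟩
    rw [show (Nat.lor m m').testBit i = _ from Nat.testBit_or m m' i, Bool.or_eq_true, hm, hm']
    rfl

theorem Fm.of_chk (hK : ∀ a : K, a = 0 ∨ a = 1) {p : Fm} (h : p.chk = true) (x : Co T) : p.sem x := by
  simp only [Fm.chk, force_eq, V.frc_eq] at h
  obtain ⟨i, ho, u⟩ := exists_uS hK x
  obtain ⟨m, hm, h⟩ := p.run_spec ho u _ h
  rw [← hm, Nat.eq_of_beq_eq_true h, ho]

theorem Fm.of_one {p : Fm} (h : p.one = true) : p.sem (1 : Co T) := by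
  have ho : Nat.testBit 1 0 = true := rfl
  obtain ⟨m, hm, h⟩ := p.run_spec (x := (1 : Co T)) ho (R.c ho 0) _ h
  rw [← hm, Nat.eq_of_beq_eq_true h, ho]

/-- membership in `Q` -/
def inQ (a : Ex) : Fm := .eq a.up (.c 0)
/-- membership in `Q₁` -/
def inQ1 (a : Ex) : Fm := .eq (a * .c 256) (.c 256 * a)
/-- commuting -/
def cm (a b : Ex) : Fm := .eq (a * b) (b * a)

theorem sem_inQ {a : Ex} : (inQ a).sem x ↔ a.ev x ∈ sQ T :=
  ⟨fun h => ⟨congrArg Co.b8 h, congrArg Co.a8 h⟩, fun h => by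
    show uu T _ _ = 1
    rw [h.1, h.2]; rfl⟩

theorem sem_inQ1 {a : Ex} : (inQ1 a).sem x ↔ a.ev x ∈ sQ1 T := by
  show a.ev x * x6 T 1 = x6 T 1 * a.ev x ↔ (a.ev x).a1 = 0
  refine ⟨fun h => by simpa [x6] using congrArg Co.a4 h, fun h => ?_⟩
  ext <;> simp [x6, h, add_comm]

theorem sem_cm {a b : Ex} : (cm a b).sem x ↔ a.ev x * b.ev x = b.ev x * a.ev x := Iff.rfl


end H5.R3
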