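/- The Rudvalis group as a rank 3 permutation group on 4060 points. -/
import Cfsg.Agent.H5.R3M
import Cfsg.Agent.H5.RuAll
import Cfsg.Agent.H54.ParModel
import Cfsg.Agent.H68.Tits

set_option autoImplicit false
set_option linter.unusedSectionVars false
set_option linter.unusedVariables false

namespace H5.R3
open H63.Oc H65.PA Subgroup H5.Ru MulAction

universe u

variable {T : TF (ZMod 2)} {G : Type u} [Group G]

/-- transport of an amalgam -/
def mapAD {H : Type*} [Group H] (A : AD T H) (f : H →* G) (hf : Function.Injective f) : AD T G where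
  ι := f.comp A.ι
  inj := hf.comp A.inj
  n8 := f A.n8
  h0 := f.comp A.h0
  h0_conj p c := by simpa only [MonoidHom.comp_apply, map_mul, map_inv] using congrArg f (A.h0_conj p c)
  n8_sq := by simpa only [MonoidHom.comp_apply, map_mul, map_one] using congrArg f A.n8_sq
  n8_conj c hc := by simpa only [MonoidHom.comp_apply, map_mul] using congrArg f (A.n8_conj c hc)
  n8_h0 p := by simpa only [MonoidHom.comp_apply, map_mul, map_inv] using congrArg f (A.n8_h0 p)
  rank8 u hu h1 :=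
    let ⟨u', h2, u'', h3, p, e⟩ := A.rank8 u hu h1
    ⟨u', h2, u'', h3, p, by simpa only [MonoidHom.comp_apply, map_mul] using congrArg f e⟩
  h := f.comp A.h
  n1 := f A.n1
  tor := ⟨fun p => congrArg f (A.tor.h_h0 p),
    fun p c => by simpa only [MonoidHom.comp_apply, map_mul, map_inv] using congrArg f (A.tor.h_conj p c),
    fun p => by simpa only [MonoidHom.comp_apply, map_mul] using congrArg f (A.tor.n8_h p)⟩
  n1_sq := by simpa only [MonoidHom.comp_apply, map_mul, map_one] using congrArg f A.n1_sq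
  n1_conj c hc := by simpa only [MonoidHom.comp_apply, map_mul] using congrArg f (A.n1_conj c hc)
  n1_h p := by simpa only [MonoidHom.comp_apply, map_mul] using congrArg f (A.n1_h p)
  rank1 := by simpa only [MonoidHom.comp_apply, map_mul, map_pow, map_one] using congrArg f A.rank1

theorem mapAD_G0 {H : Type*} [Group H] (A : AD T H) (f : H →* G) (hf : Function.Injective f) :
    (mapAD A f hf).G0 = A.G0.map f := by
  rw [AD.G0, AD.G0, MonoidHom.map_closure, Set.image_union, Set.image_union, Set.image_pair,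
    ← Set.range_comp, ← Set.range_comp]
  rfl

variable [Finite G] {A : AD T G}

theorem h_one (A : AD T G) (p : (ZMod 2)ˣ × (ZMod 2)ˣ) : A.h p = 1 := by
  rw [show p = 1 from Prod.ext (unit_eq hK _) (unit_eq hK _), map_one]

/-- a subgroup of order 20480 over the Sylow subgroup -/
theorem le_C (br : A.Braid) {P : Subgroup G} (hP : Nat.card P = 20480) (hS : ∀ c, A.ι c ∈ P)
    (h0 : P ≤ A.G0) : P ≤ A.C := by
  have f1 : ∀ k ≤ 7, A.n1 * H78.Par.al A.n8 A.n1 k ∉ P := fun k hk hw => by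
    obtain ⟨c, e⟩ := H78.Par.gd_conj A.ι k _ _ _ _ _ _ _ A.n8_sq A.n1_sq A.n8_conj A.n1_conj
      (H78.Par.gd_le hk (H78.Par.gd_x1 1))
    have h1 := mul_mem (mul_mem hw (hS c)) (inv_mem hw)
    rw [← e] at h1
    refine no3 (A := A) hP 1 ?_
    have h2 : (A.n1 * A.ι (el T 1)) ^ 3 = 1 := A.rank1
    have h3 := mul_mem h1 (hS (el T 1))
    convert inv_mem h3 using 1
    rw [eq_inv_iff_mul_eq_one, ← h2]
    conv_lhs => rw [mul_inv_rev, inv_eq_of_mul_eq_one_right A.n1_sq]
    show _ * (_ * (_ * A.ι (el T 1) * _) * _ * _) = _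
    simp only [pow_three]; group
  have f8 : ∀ k ≤ 7, A.n8 * H78.Par.al A.n1 A.n8 k ∈ P → A.n8 ∈ P := fun k hk hw => by
    obtain ⟨c, e⟩ := H78.Par.gd_conj A.ι k _ _ _ _ _ _ _ A.n1_sq A.n8_sq A.n1_conj A.n8_conj
      (H78.Par.gd_le hk (H78.Par.gd_uu 1 0))
    have h1 := mul_mem (mul_mem hw (hS c)) (inv_mem hw)
    rw [← e] at h1
    have h2 : A.n8 * A.ι (el T 1024) * A.n8 ∈ P := by
      convert h1 using 1
      conv_rhs => rw [mul_inv_rev, inv_eq_of_mul_eq_one_right A.n8_sq]
      show _ = _ * (_ * A.ι (el T 1024) * _) * _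
      group
    rwa [rk_y8 hK, mul_mem_cancel_right (hS _), mul_mem_cancel_left (hS _)] at h2
  intro g hg
  have key : ∀ w, H78.Par.Cell (H78.Par.bor A) w g → (w ∈ P → w ∈ A.C) → g ∈ A.C := by
    rintro w ⟨_, ⟨c, p, rfl⟩, _, ⟨c', p', rfl⟩, rfl⟩ hw
    rw [h_one, h_one, mul_one, mul_one] at *
    rw [mul_mem_cancel_right (hS _), mul_mem_cancel_left (hS _)] at hg
    exact mul_mem (mul_mem (A.ι_mem _) (hw hg)) (A.ι_mem _)
  obtain ⟨k, hk, h | h⟩ := H78.Par.bruhat A br (h0 hg)
  · refine key _ h fun hw => ?_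
    rcases k with _ | k
    exacts [one_mem _, absurd hw (f1 k (by omega))]
  · refine key _ h fun hw => ?_
    rcases k with _ | _ | k
    exacts [one_mem _, mul_mem A.n8_mem (one_mem _),
      absurd ((mul_mem_cancel_left (f8 (k + 1) (by omega) hw)).1 hw) (f1 k (by omega))]

theorem card_V6 : Nat.card (sV6 T) = 32 := by
  have hb : Function.Bijective fun p : ZMod 2 × ZMod 2 × ZMod 2 × ZMod 2 × ZMod 2 =>
      (⟨⟨0, 0, 0, 0, 0, p.1, p.2.1, 0, p.2.2.1, p.2.2.2.1, 0, p.2.2.2.2⟩,
        rfl, rfl, rfl, rfl, rfl, rfl, rfl⟩ : sV6 T) := by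
    refine ⟨fun p q e => ?_, fun ⟨c, h1, h2, h3, h4, h5, h6, h7⟩ =>
      ⟨(c.a4, c.a5, c.a6, c.a7, c.a8), Subtype.ext (by ext <;> simp [*])⟩⟩
    have e' := congrArg Subtype.val e
    exact Prod.ext (congrArg Co.a4 e') (Prod.ext (congrArg Co.a5 e') (Prod.ext (congrArg Co.a6 e')
      (Prod.ext (congrArg Co.a7 e') (congrArg Co.a8 e'))))
  rw [← Nat.card_eq_of_bijective _ hb]; simp

theorem G0_le {Ω : Type*} [MulAction G Ω] {a b : Ω} {s : G} (w : Sw A a b s) {N : Subgroup G}
    (hN : N.index = 2) : A.G0 ≤ N := by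
  have := normal_of_index_eq_two hN
  have f : ∀ {g c d}, Cj A.toCS g c d → (A.ι c ∈ N ↔ A.ι d ∈ N) := fun {g c d} e => by
    rw [← show _ = A.ι d from e, mul_assoc, this.mem_comm_iff, inv_mul_cancel_right]
  have k1 : ∀ m n, el T m ∈ sQ1 T → (Fm.eq (.n1 (.c m)) (.c n)).one = true → A.ι (el T m) ∈ N →
      A.ι (el T n) ∈ N := fun m n h e => (f ((cj1 A h).cast rfl (Fm.of_one (T := T) e))).1
  have k8 : ∀ m n, el T m ∈ sQ T → (Fm.eq (.n8 (.c m)) (.c n)).one = true → A.ι (el T m) ∈ N →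
      A.ι (el T n) ∈ N := fun m n h e => (f ((cj8 A h).cast rfl (Fm.of_one (T := T) e))).1
  have y4 : A.ι (el T 16) ∈ N := by
    have e := f (d := el T 1040) ((w.cj (el T 1024)).cast rfl (one (.eq (.ap B0 (.c 1024)) (.c 1040))))
    rw [← ck_spec (T := T) (a := 16) (b := 1024) (c := 1040) (by decide +kernel), map_mul,
      mul_mem_iff_of_index_two hN] at e
    tauto
  have y2 := k8 128 2 ⟨rfl, rfl⟩ (by decide +kernel) (k1 16 128 rfl (by decide +kernel) y4)
  have x3 : A.ι (el T 8) ∈ N := by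
    have e := mul_mem y4 y2
    rwa [← map_mul, ck_spec (c := 26) (by decide +kernel),
      ← ck_spec (T := T) (a := 10) (b := 16) (c := 26) (by decide +kernel),
      ← ck_spec (T := T) (a := 2) (b := 8) (c := 10) (by decide +kernel), map_mul, map_mul,
      mul_mem_cancel_right y4, mul_mem_cancel_left y2] at e
  have x1 := k8 512 1 ⟨rfl, rfl⟩ (by decide +kernel) (k1 8 512 rfl (by decide +kernel) x3)
  have hS := eq_top_of (F := N.comap A.ι) x1 (k1 2 1024 rfl (by decide +kernel) y2) y4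
  refine (closure_le _).2 ?_
  rintro _ ((⟨c, rfl⟩ | ⟨p, rfl⟩) | rfl | rfl)
  · exact hS c
  · exact h_one A p ▸ one_mem N
  · have e := sq_mem_of_index_two hN (A.n1 * A.ι (el T 1))
    have e3 : (A.n1 * A.ι (el T 1)) ^ 3 = 1 := A.rank1
    rwa [eq_inv_of_mul_eq_one_left ((pow_succ _ 2).symm.trans e3), inv_mem_iff,
      mul_mem_cancel_right x1] at e
  · have hS' : ∀ c, A.ι c ∈ N := hS
    have e := this.conj_mem _ (hS' (el T 1024)) A.n8
    rwa [inv_eq_of_mul_eq_one_right A.n8_sq, rk_y8 hK, mul_mem_cancel_right (hS' _),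
      mul_mem_cancel_left (hS' _)] at e

theorem card_H : Nat.card (Cfsg.Lie.twistedF4 (ZMod 2) 1) = 35942400 := by
  have := (commutator (Cfsg.Lie.twistedF4 (ZMod 2) 1)).card_mul_index
  rw [H68.index_Tits, H68.card_Tits] at this
  omega

variable {Ω : Type*} [Finite Ω] [MulAction G Ω] {a b c : Ω}

theorem card_two (a x : Ω) : Nat.card (stabilizer G a ⊓ stabilizer G x : Subgroup G) *
    (orbit (stabilizer G a) x).ncard = Nat.card (stabilizer G a) := by
  rw [← index_stabilizer, ← (stabilizer (stabilizer G a) x).card_mul_index,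
    ← card_map_of_injective (K := stabilizer (stabilizer G a) x) (subtype_injective _)]
  congr 3
  ext g
  exact ⟨fun h => ⟨⟨g, h.1⟩, h.2, rfl⟩, fun ⟨k, h, e⟩ => e ▸ ⟨k.2, h⟩⟩

/-- the rank 3 hypothesis -/
structure Rk (G : Type u) [Group G] [MulAction G Ω] (a b c : Ω) : Prop where
  cΩ : Nat.card Ω = 4060
  cH : Nat.card (stabilizer G a) = 35942400
  cb : (orbit (stabilizer G a) b).ncard = 1755
  cc : (orbit (stabilizer G a) c).ncard = 2304

theorem Rk.ne (h : Rk G a b c) {x : Ω} (hx : 1 < (orbit (stabilizer G a) x).ncard) :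
    a ∉ orbit (stabilizer G a) x := fun e => by
  rw [← orbit_eq_iff.2 e, show orbit (stabilizer G a) a = {a} from
    Set.eq_singleton_iff_unique_mem.2 ⟨mem_orbit_self a, fun _ ⟨k, e⟩ => e.symm.trans k.2⟩] at hx
  simp at hx

theorem Rk.disj (h : Rk G a b c) : Disjoint (orbit (stabilizer G a) b) (orbit (stabilizer G a) c) :=
  Set.disjoint_left.2 fun x h1 h2 => by
    have := h.cb
    rw [← orbit_eq_iff.2 h1, orbit_eq_iff.2 h2, h.cc] at this
    omega

theorem Rk.cover (h : Rk G a b c) (x : Ω) :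
    x = a ∨ x ∈ orbit (stabilizer G a) b ∨ x ∈ orbit (stabilizer G a) c := by
  have : insert a (orbit (stabilizer G a) b ∪ orbit (stabilizer G a) c) = Set.univ := by
    refine Set.eq_of_subset_of_ncard_le (Set.subset_univ _) ?_
    rw [Set.ncard_insert_of_notMem (fun e => e.elim (h.ne (by rw [h.cb]; norm_num))
      (h.ne (by rw [h.cc]; norm_num))), Set.ncard_union_eq h.disj, h.cb, h.cc, Set.ncard_univ, h.cΩ]
  exact this.ge (Set.mem_univ x)

theorem Rk.cardb (h : Rk G a b c) {x : Ω} (hx : x ∈ orbit (stabilizer G a) b) :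
    Nat.card (stabilizer G a ⊓ stabilizer G x : Subgroup G) = 20480 := by
  have := card_two (G := G) a x
  rw [orbit_eq_iff.2 hx, h.cb, h.cH] at this
  omega

theorem Rk.cardc (h : Rk G a b c) {x : Ω} (hx : x ∈ orbit (stabilizer G a) c) :
    Nat.card (stabilizer G a ⊓ stabilizer G x : Subgroup G) = 15600 := by
  have := card_two (G := G) a x
  rw [orbit_eq_iff.2 hx, h.cc, h.cH] at this
  omega

variable [IsPretransitive G Ω]

theorem Rk.cardG (h : Rk G a b c) : Nat.card G = 145926144000 := by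
  rw [← (stabilizer G a).card_mul_index, index_stabilizer_of_transitive, h.cH, h.cΩ]

theorem Rk.swap (h : Rk G a b c) : ∃ s : G, s • a = b ∧ s • b = a := by
  obtain ⟨g, hg⟩ := exists_smul_eq G a b
  have e : stabilizer G a ⊓ stabilizer G b =
      (stabilizer G a ⊓ stabilizer G (g⁻¹ • a)).map (MulAut.conj g).toMonoidHom := by
    rw [map_inf _ _ _ (MulAut.conj g).injective, ← stabilizer_smul_eq_stabilizer_map_conj,
      ← stabilizer_smul_eq_stabilizer_map_conj, hg, smul_inv_smul, inf_comm]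
  have e1 := h.cardb (mem_orbit_self b)
  rw [e, card_map_of_injective (MulAut.conj g).injective] at e1
  rcases h.cover (g⁻¹ • a) with e2 | ⟨k, e2⟩ | e2
  · rw [inv_smul_eq_iff, hg] at e2
    exact absurd (e2 ▸ mem_orbit_self a) (h.ne (x := b) (by rw [h.cb]; norm_num))
  · refine ⟨g * k, by rw [mul_smul, k.2, hg], ?_⟩
    rw [mul_smul, show (k : G) • b = g⁻¹ • a from e2, smul_inv_smul]
  · rw [h.cardc e2] at e1; omega

theorem Rk.normal [FaithfulSMul G Ω] (h : Rk G a b c) (N : Subgroup G) [hN : N.Normal] :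
    N = ⊥ ∨ orbit N a = Set.univ := by
  have d : (orbit N a).ncard ∣ 145926144000 := by
    rw [← index_stabilizer, ← h.cardG]
    exact (index_dvd_card _).trans (card_subgroup_dvd_card N)
  have inv : ∀ x y, x ∈ orbit (stabilizer G a) y → (x ∈ orbit N a ↔ y ∈ orbit N a) := by
    have : ∀ (k : stabilizer G a) y, y ∈ orbit N a → k • y ∈ orbit N a := by
      rintro k _ ⟨n, rfl⟩
      refine ⟨⟨_, hN.conj_mem _ n.2 k⟩, ?_⟩
      show ((k : G) * n * (k : G)⁻¹) • a = (k : G) • (n : G) • a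
      rw [mul_smul, (k⁻¹).2.trans rfl |> (show (k : G)⁻¹ • a = a from ·), mul_smul]
    rintro _ y ⟨k, rfl⟩
    exact ⟨fun e => by simpa using this k⁻¹ _ e, this k y⟩
  have na : ∀ {x}, 1 < (orbit (stabilizer G a) x).ncard → ∀ {y}, ¬ y ∈ orbit N a → x ∈ orbit N a →
      (∀ z, z = a ∨ z ∈ orbit (stabilizer G a) x ∨ z ∈ orbit (stabilizer G a) y) →
      (orbit (stabilizer G a) x).ncard + 1 ∣ 145926144000 := fun {x} h1 {y} hy hx hz => by
    rw [← Set.ncard_insert_of_notMem (h.ne h1)]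
    convert d using 2
    ext z
    refine ⟨?_, fun e => (hz z).imp_right fun e' => e'.resolve_right fun e'' => hy ((inv _ _ e'').1 e)⟩
    rintro (rfl | e)
    exacts [mem_orbit_self _, (inv _ _ e).2 hx]
  by_cases hb : b ∈ orbit N a <;> by_cases hc : c ∈ orbit N a
  · refine Or.inr (Set.eq_univ_of_forall fun x => ?_)
    rcases h.cover x with rfl | e | e
    exacts [mem_orbit_self _, (inv _ _ e).2 hb, (inv _ _ e).2 hc]
  · exact absurd (na (by rw [h.cb]; norm_num) hc hb h.cover) (by rw [h.cb]; norm_num)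
  · exact absurd (na (by rw [h.cc]; norm_num) hb hc fun z => (h.cover z).imp_right Or.symm)
      (by rw [h.cc]; norm_num)
  · have f : ∀ n ∈ N, n • a = a := fun n hn => by
      rcases h.cover (n • a) with e | e | e
      exacts [e, absurd ((inv _ _ e).1 ⟨⟨n, hn⟩, rfl⟩) hb, absurd ((inv _ _ e).1 ⟨⟨n, hn⟩, rfl⟩) hc]
    refine Or.inl (eq_bot_iff.2 fun n hn => eq_of_smul_eq_smul (α := Ω) fun x => ?_)
    obtain ⟨g, rfl⟩ := exists_smul_eq G a x
    rw [one_smul, ← inv_smul_eq_iff (g := g), ← mul_smul, ← mul_smul]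
    exact f _ (by simpa using hN.conj_mem n hn g⁻¹)

theorem Rk.dvd (h : Rk G a b c) {N : Subgroup G} (e : orbit N a = Set.univ) : 4060 ∣ Nat.card N := by
  rw [← h.cΩ, ← Set.ncard_univ, ← e, ← index_stabilizer]
  exact index_dvd_card _

theorem Rk.geo (h : Rk G a b c) (e : stabilizer G a ≃* Cfsg.Lie.twistedF4 (ZMod 2) 1) :
    ∃ (T : TF (ZMod 2)) (A : AD T G) (b' : Ω), Rk G a b' c ∧ Geo A a b' := by
  obtain ⟨T, A0, br, top, syl⟩ := H54.Par.jobModel (ZMod 2) 0 (by simp)
  let f : Cfsg.Lie.twistedF4 (ZMod 2) (2 ^ 0) →* G := (stabilizer G a).subtype.comp e.symm.toMonoidHom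
  have hf : Function.Injective f := (subtype_injective _).comp e.symm.injective
  let A := mapAD A0 f hf
  have sa : A.G0 = stabilizer G a := by
    rw [mapAD_G0, top]
    exact le_antisymm (by rintro _ ⟨x, -, rfl⟩; exact (e.symm x).2)
      fun g hg => ⟨e ⟨g, hg⟩, mem_top _, by simp [f]⟩
  have br' : A.Braid := show (f A0.n1 * f A0.n8) ^ 8 = 1 by
    simpa only [map_pow, map_mul, map_one] using congrArg f br
  have := Fact.mk Nat.prime_two
  obtain ⟨R0, hR⟩ := Sylow.exists_subgroup_card_pow_prime (G := (stabilizer G a ⊓ stabilizer G b :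
    Subgroup G)) 2 (n := 12) (by rw [h.cardb (mem_orbit_self b)]; norm_num)
  let R := R0.map (Subgroup.subtype _)
  have cR : Nat.card R = 2 ^ 12 := by rw [card_map_of_injective (subtype_injective _), hR]
  have lR : R ≤ stabilizer G a ⊓ stabilizer G b := map_subtype_le _
  obtain ⟨g, hg⟩ := syl (R.comap f) ((IsPGroup.of_card cR).comap_of_injective f hf)
  have gH : f g ∈ stabilizer G a := (e.symm g).2
  have eS : R.map (MulAut.conj (f g)).toMonoidHom = A.S := by
    refine eq_of_le_of_card_ge ?_ ?_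
    · rintro _ ⟨x, hx, rfl⟩
      obtain ⟨y, -, rfl⟩ : x ∈ (⊤ : Subgroup _).map f := by
        rw [← top, ← mapAD_G0 A0 f hf, sa]; exact (lR hx).1
      obtain ⟨c, e⟩ := hg y hx
      exact ⟨c, show f (A0.ι c) = f g * f y * (f g)⁻¹ by simpa only [map_mul, map_inv] using congrArg f e⟩
    · rw [card_map_of_injective (MulAut.conj _).injective, cR,
        ← Nat.card_congr (MonoidHom.ofInjective A.inj).toEquiv, H55.Oc.card_Co, Nat.card_zmod]
  have ob : orbit (stabilizer G a) (f g • b) = orbit (stabilizer G a) b := orbit_eq_iff.2 ⟨⟨_, gH⟩, rfl⟩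
  have h' : Rk G a (f g • b) c := ⟨h.cΩ, h.cH, ob ▸ h.cb, h.cc⟩
  have cP := h'.cardb (mem_orbit_self _)
  have eP : stabilizer G a ⊓ stabilizer G (f g • b) = A.C := by
    refine eq_of_le_of_card_ge (le_C br' cP (fun c => ⟨sa.le (ι_G0 A c), ?_⟩) (inf_le_left.trans sa.ge))
      (by rw [cP, card_C])
    rw [stabilizer_smul_eq_stabilizer_map_conj]
    exact map_mono (lR.trans inf_le_right) (eS.ge ⟨c, rfl⟩)
  refine ⟨T, A, _, h', br', fun g => sa ▸ Iff.rfl, fun k hk => ?_, fun e => ?_, fun x hx => ?_⟩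
  · rw [← eP]; exact ⟨fun e => ⟨sa.le hk, e⟩, fun e => e.2⟩
  · exact h'.ne (x := f g • b) (by rw [h'.cb]; norm_num) (e ▸ mem_orbit_self _)
  · rcases h'.cover x with e | ⟨k, e⟩ | e
    · exact Or.inl e
    · exact Or.inr ⟨k, sa.ge k.2, e.symm⟩
    · have := card_dvd_of_le (show A.im (sV6 T) ≤ stabilizer G a ⊓ stabilizer G x by
        rintro _ ⟨c, hc, rfl⟩; exact ⟨sa.le (ι_G0 A c), hx c hc⟩)
      rw [h'.cardc e, card_map_of_injective A.inj, card_V6] at this
      omega

theorem Rk.isoRu [FaithfulSMul G Ω] (h : Rk G a b c)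
    (e : stabilizer G a ≃* Cfsg.Lie.twistedF4 (ZMod 2) 1) : Cfsg.Spor.IsoRu G := by
  obtain ⟨T, A, b, h, g⟩ := h.geo e
  obtain ⟨s, s1, s2⟩ := h.swap
  obtain ⟨s, w⟩ := g.exists_sw s1 s2
  have md := mdX g w
  have := Fact.mk Nat.prime_two
  let P : Sylow 2 G := md.pg.toSylow (by
    have := (TT A a b).card_mul_index
    rw [md.cT, h.cardG] at this
    omega)
  have hy := H76.Ru.hyp md
  have odd : Cfsg.oddCore G = ⊥ := (h.normal _).resolve_right fun e =>
    absurd ((H2.odd_card_oddCore G).of_dvd_nat (h.dvd e)) (by decide)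
  rcases st3173 G P _ hy (fun N hN => by
    have := normal_of_index_eq_two hN
    rcases h.normal N with e | e
    · rw [e, index_bot, h.cardG] at hN; omega
    · rw [show N = ⊤ from eq_top_iff.2 fun x _ => by
        obtain ⟨n, e'⟩ := e.ge (Set.mem_univ (x • a))
        exact (mul_mem_cancel_left (inv_mem n.2)).1 (G0_le w hN ((g.sa _).1 (by
          rw [mul_smul, ← show (n : G) • a = _ from e', inv_smul_smul]))), index_top] at hN
      omega) with ⟨⟨f⟩⟩ | ⟨N, hN, eN, -⟩
  · exact ⟨((QuotientGroup.quotientMulEquivOfEq odd).trans QuotientGroup.quotientBot).symm.trans f⟩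
  · exfalso
    have c : Nat.card N = 2 ^ 11 := by
      rw [eN, odd, bot_sup_eq]
      exact (card_map_of_injective (subtype_injective _)).trans hy.phi_eq.2.2
    rcases h.normal N with e | e
    · rw [e, card_bot] at c; omega
    · have := h.dvd e
      omega

end H5.R3
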