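import Cfsg.Agent.H34.R5Spec
import Cfsg.Agent.S1534
import Cfsg.Agent.S0853
import Cfsg.Agent.S0852

/-! Restriction of an exceptional character (slot R5-E2 of S3194). -/

set_option autoImplicit false

namespace H5.R5E2
open Cfsg Subgroup H41.IT H34.R5

universe u

theorem jobE2 : JobE2.{u} := by
  intro E1 G _ _ B hn _ np h
  have := Fintype.ofFinite (normalizer (B : Set G))
  obtain ⟨-, -, two⟩ := E1 G B hn np h
  have h1 : B ≠ ⊥ := fun e => np 2 0 Nat.prime_two (by rw [e]; simp)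
  rcases Cfsg.Agent.S1534.result B h1 hn h.ti h.lt h.cen with ⟨-, -, p, hp, -, he⟩ | ⟨e, -⟩ |
    ⟨-, star, hs, hx⟩
  · have := Fact.mk hp
    obtain ⟨k, hk⟩ := IsPGroup.iff_card.1
      (show IsPGroup p B from fun a => ⟨1, Subtype.ext (by simpa using he a a.2)⟩)
    exact (np p k hp hk).elim
  · exact (np 2 _ Nat.prime_two e).elim
  obtain ⟨m, hm⟩ := Cfsg.Agent.S0853.result B h.ti h.lt h.cen (SS B) rfl two star hs hx
  refine ⟨m, fun θ hθ hc => ?_⟩
  obtain ⟨χ, hχ, e⟩ :=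
    (Cfsg.Agent.S0852.result B h.ti h.lt h.cen (SS B) rfl two star hs hx θ hθ).2 hc
  rcases e with e | e
  · refine ⟨χ, hχ, 1, Or.inl rfl, fun k hk k1 => ?_⟩
    rw [← hm χ hχ k hk k1, e]
    simp
  · refine ⟨χ, hχ, -1, Or.inr rfl, fun k hk k1 => ?_⟩
    rw [← hm χ hχ k hk k1, e]
    simp

end H5.R5E2
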