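/- RF tower: commutator tables for the slots on essential subgroups. -/
import Cfsg.Agent.H90.RFKit2

set_option autoImplicit false
set_option linter.unusedSectionVars false
set_option linter.unusedSimpArgs false
set_option linter.unusedVariables false
set_option linter.unnecessarySeqFocus false
set_option linter.unreachableTactic false
set_option linter.unusedTactic false

open Subgroup H63.Oc H90.RF H19.ParTY H55.Oc

namespace H5.RL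

section Gen
variable {P : Type*} [Group P] {X Y E M U : Subgroup P} {β : P → P} {z : ℕ → Subgroup P} {i : ℕ}

theorem cm_iff [X.Normal] {s m : P} : cm s m ∈ X ↔ (m * s)⁻¹ * (s * m) ∈ X := by
  rw [show (m * s)⁻¹ * (s * m) = s⁻¹ * cm s m * s⁻¹⁻¹ by rw [cm]; group]
  exact ⟨fun h => ‹X.Normal›.conj_mem _ h _, fun h => by
    simpa [mul_assoc] using ‹X.Normal›.conj_mem _ h s⟩

theorem cm_symm [X.Normal] {s m : P} (h : cm s m ∈ X) : cm m s ∈ X :=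
  cm_iff.2 (by simpa using inv_mem (cm_iff.1 h))

theorem cm_eq {s m x : P} (h : s * m = m * x * s) : cm s m = x := by
  rw [cm, h]; group

theorem cm_bot {s m : P} : cm s m ∈ (⊥ : Subgroup P) ↔ s * m = m * s := mem_bot.trans cm_eq_one

theorem cm_of_comm {s m : P} (h : s * m = m * s) : cm s m ∈ X := by
  rw [cm_eq_one.2 h]; exact one_mem _

theorem cjS_le [X.Normal] (g : P) (h : M ≤ X) : cjS g M ≤ X := fun c hc => by
  rw [← cjS_eq (X := X) g]; exact mem_cjS.2 (h (mem_cjS.1 hc))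

/-- third terms of the lower central series -/
theorem pr_g3 (h : Au E β) (h1 : ∀ c ∈ E, ∀ d ∈ E, cm c d ∈ Y) (h2 : ∀ c ∈ E, ∀ y ∈ Y, cm c y ∈ X)
    (h3 : ∀ x ∈ X, ∃ c ∈ E, ∃ d ∈ E, ∃ e ∈ E, x = cm c (cm d e)) : Pr β X := fun x hx => by
  obtain ⟨c, hc, d, hd, e, he, rfl⟩ := h3 x hx
  have m : cm d e ∈ E := mul_mem (inv_mem he) (mul_mem (mul_mem hd he) (inv_mem hd))
  rw [h.cm hc m, h.cm hd he]
  exact h2 _ (h.mem c hc) _ (h1 _ (h.mem d hd) _ (h.mem e he))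

theorem au_sq (h : Au E β) {u : P} (hu : u ∈ E) (e : u * u = 1) : β u * β u = 1 := by
  rw [← h.mul u hu u hu, e, h.one]

/-- the image of an element which commutes with `E` -/
theorem au_comm (h : Au E β) {u : P} (hu : u ∈ E) (e : ∀ c ∈ E, c * u = u * c) :
    ∀ c ∈ E, c * β u = β u * c := fun c hc => by
  obtain ⟨d, hd, rfl⟩ := h.sur c hc
  rw [← h.mul d hd u hu, e d hd, h.mul u hu d hd]

/-- the image of an element which commutes with the involutions of `E` -/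
theorem au_comm2 (h : Au E β) {u : P} (hu : u ∈ E) (e : ∀ c ∈ E, c * c = 1 → c * u = u * c) :
    ∀ c ∈ E, c * c = 1 → c * β u = β u * c := fun c hc h2 => by
  obtain ⟨d, hd, rfl⟩ := h.sur c hc
  rw [← h.mul d hd u hu, e d hd (h.inj _ (mul_mem hd hd) (by rw [h.mul d hd d hd, h2])),
    h.mul u hu d hd]

theorem mem_E (h : Bc z i E M) (hM : M ≤ Y) {s : P} (k : ∀ m ∈ Y, cm s m ∈ z i) : s ∈ E :=
  (h.cen s).2 fun m hm => k m (hM hm)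

theorem nor_of_normal [E.Normal] (s : P) : s ∈ normalizer (E : Set P) := by
  rw [normalizer_eq_top]; trivial

end Gen

variable {K : Type*} [Field K] [CharP K 2] {T : TF K}

variable (T) in
/-- the image of `Q ⊓ Q₁` under `n₁` -/
def sB6 : Subgroup (Co T) where
  carrier := {c | c.a1 = 0 ∧ c.b2 = 0 ∧ c.a2 = 0}
  one_mem' := by simp
  mul_mem' := fun {c d} hc hd => by simp_all
  inv_mem' := fun {c} hc => by simp_all

variable (T) in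
/-- the root group `x₆` -/
def sX6 : Subgroup (Co T) where
  carrier := {c | c ∈ sW T ∧ c.a4 = 0}
  one_mem' := ⟨one_mem _, rfl⟩
  mul_mem' := fun {c d} hc hd => ⟨mul_mem hc.1 hd.1, by simp_all [mem_sW]⟩
  inv_mem' := fun {c} hc => ⟨inv_mem hc.1, by simp_all [mem_sW]⟩

theorem eq_x6 {c : Co T} (h : c ∈ sX6 T) : c = x6 T c.a6 := by
  obtain ⟨⟨h1, h2, h3, h4, h5, h6, h7, h8, h9, h10⟩, h11⟩ := h
  ext <;> simp [x6, *]

theorem x6_mem (t : K) : x6 T t ∈ sX6 T := ⟨by simp [mem_sW, x6], rfl⟩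

theorem A_le_V0 : sA T ≤ sV0 T := fun c h => by simp_all [mem_sA, mem_sV0]
theorem V0_le_V : sV0 T ≤ sV T := fun c h => by simp_all [mem_sV, mem_sV0]
theorem A_le_V : sA T ≤ sV T := A_le_V0.trans V0_le_V
theorem V0_le_A7 : sV0 T ≤ sA7 T := fun c h => by simp_all [mem_sA7, mem_sV0]
theorem V_le_R : sV T ≤ sR T := fun c h => by simp_all [mem_sV, mem_sR]
theorem V_le_Z5 : sV T ≤ sZ5 T := fun c h => by simp_all [mem_sV, mem_sZ5]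
theorem A7_le_Z5 : sA7 T ≤ sZ5 T := fun c h => by simp_all [mem_sA7, mem_sZ5]
theorem A7_le_D : sA7 T ≤ sD T := fun c h => by simp_all [mem_sA7, mem_sD]
theorem Z_le_A : sZ T ≤ sA T := Z_le_W.trans W_le_A
theorem R_le_Q : sR T ≤ sQ T := fun _ h => h.2.2.2.2
theorem V_le_Q : sV T ≤ sQ T := fun _ h => h.2.2.2.2.2
theorem V6_le_B6 : sV6 T ≤ sB6 T := fun c h => ⟨h.1, h.2.1, h.2.2.1⟩
theorem T8_le_B6 : sT8 T ≤ sB6 T := fun c h => ⟨h.1, h.2.1, h.2.2.1⟩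
theorem T7_le_B6 : sT7 T ≤ sB6 T := fun c h => ⟨h.1, h.2.1, h.2.2.1⟩

theorem memV0 {e f : Co T} (h1 : e.a1 = f.a1) (h2 : e.b2 = f.b2) (h3 : e.a2 = f.a2)
    (h5 : e.b4 = f.b4) (h6 : e.b6 = f.b6) (h7 : e.a7 = f.a7) (h8 : e.b8 = f.b8) (h9 : e.a8 = f.a8) :
    e⁻¹ * f ∈ sV0 T := by
  refine ⟨?_, ?_, ?_, ?_, ?_, ?_, ?_, ?_⟩ <;> simp [T.sq, *] <;> grind

theorem memV {e f : Co T} (h1 : e.a1 = f.a1) (h2 : e.b2 = f.b2)
    (h5 : e.b4 = f.b4) (h6 : e.b6 = f.b6) (h7 : e.a7 = f.a7) (h8 : e.b8 = f.b8) (h9 : e.a8 = f.a8) :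
    e⁻¹ * f ∈ sV T := by
  refine ⟨?_, ?_, ?_, ?_, ?_, ?_, ?_⟩ <;> simp [T.sq, *] <;> grind

/-! ### Coordinates of a commutator -/

theorem eV0 {s m : Co T} (h : cm s m ∈ sV0 T) : (s * m).b2 = (m * s).b2 ∧ (s * m).a2 = (m * s).a2 ∧
    (s * m).b4 = (m * s).b4 ∧ (s * m).b6 = (m * s).b6 ∧ (s * m).a7 = (m * s).a7 := by
  obtain ⟨h1, h2, h3, h4, h5, h6, h7, h8⟩ := cm_iff.1 h
  rw [← mul_inv_cancel_left (m * s) (s * m)]
  generalize (m * s)⁻¹ * (s * m) = v at *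
  generalize m * s = e
  simp [*]

theorem eA {s m : Co T} (h : cm s m ∈ sA T) : (s * m).a3 = (m * s).a3 := by
  obtain ⟨h1, h2, h3, h4, h5, h6, h7, h8, h9⟩ := cm_iff.1 h
  rw [← mul_inv_cancel_left (m * s) (s * m)]
  generalize (m * s)⁻¹ * (s * m) = v at *
  generalize m * s = e
  simp [*]

theorem eW {s m : Co T} (h : cm s m ∈ sW T) : (s * m).a5 = (m * s).a5 := by
  obtain ⟨h1, h2, h3, h4, h5, h6, h7, h8, h9, h10⟩ := cm_iff.1 h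
  rw [← mul_inv_cancel_left (m * s) (s * m)]
  generalize (m * s)⁻¹ * (s * m) = v at *
  generalize m * s = e
  simp [*]

theorem eZ {s m : Co T} (h : cm s m ∈ sZ T) : (s * m).a6 = (m * s).a6 := by
  obtain ⟨h1, h2, h3, h4, h5, h6, h7, h8, h9, h10, h11⟩ := cm_iff.1 h
  rw [← mul_inv_cancel_left (m * s) (s * m)]
  generalize (m * s)⁻¹ * (s * m) = v at *
  generalize m * s = e
  simp [*]

/-! ### Centralizers -/

theorem cen8W {s : Co T} {v a : K} (ha : a ≠ 0) (h : cm s (x4 T v * x8 T a) ∈ sW T) : s ∈ sB6 T := by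
  obtain ⟨-, -, h4, -, h7⟩ := eV0 (A_le_V0 (W_le_A h))
  have h5 := eW h
  have k1 : s.a1 = 0 := sg_zero (T := T) (by simp [x4, x8] at h4; grind)
  have k2 : s.b2 = 0 := by simp [x4, x8, k1] at h7; grind
  exact ⟨k1, k2, by simp [x4, x8, k1, k2] at h5; grind⟩

theorem cen8Z {s : Co T} {v a : K} (ha : a ≠ 0) (h : cm s (x4 T v * x8 T a) ∈ sZ T) : s ∈ sT8 T := by
  obtain ⟨k1, k2, k3⟩ := cen8W ha (Z_le_W h)
  have h6 := eZ h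
  exact ⟨k1, k2, k3, by simp [x4, x8, k1, k2, k3] at h6; grind⟩

theorem cen1Z {s : Co T} {a : K} (ha : a ≠ 0) (h : cm s (x1 T a) ∈ sZ T) :
    s.b4 = 0 ∧ s.b6 = 0 ∧ s.a7 = 0 ∧ s.b8 = 0 ∧ s.a8 = 0 := by
  obtain ⟨h2, h3, -, h6, -⟩ := eV0 (A_le_V0 (Z_le_A h))
  have h4 := eA (Z_le_A h)
  have h5 := eW (Z_le_W h)
  have ha' := sg_ne (T := T) ha
  have k1 : s.b8 = 0 := by simp [x1] at h2; grind
  have k2 : s.a8 = 0 := by simp [x1, k1] at h6; grind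
  have k3 : s.a7 = 0 := sg_zero (T := T) (by simp [x1, k1, k2] at h5; grind)
  have k4 : s.b6 = 0 := sg_zero (T := T) (by simp [x1, k1, k2, k3] at h4; grind)
  exact ⟨by simp [x1, k1, k2, k3, k4] at h3; grind, k4, k3, k1, k2⟩

theorem cen7A {s m : Co T} (hm : m ∈ sA7 T) (ha : m.a7 ≠ 0) (h : cm s m ∈ sA T) : s.a1 = 0 := by
  obtain ⟨h1, h2, h3, h4, h5, h6, h7⟩ := hm
  have k := eA h
  exact sg_zero (T := T) (by simp [*] at k; grind)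

theorem cen7W {s : Co T} {a : K} (ha : a ≠ 0) (h : cm s (x7 T a) ∈ sW T) : s.a1 = 0 ∧ s.b2 = 0 := by
  have k1 := cen7A (m := x7 T a) (by simp [mem_sA7, x7]) ha (W_le_A h)
  have k := eW h
  exact ⟨k1, sg_zero (T := T) (by simp [x7, k1] at k; grind)⟩

theorem cen7 {s : Co T} {a : K} (ha : a ≠ 0) (h : s * x7 T a = x7 T a * s) : s ∈ sT7 T := by
  obtain ⟨k1, k2⟩ := cen7W ha (cm_of_comm h)
  have h4 := congrArg Co.a4 h
  have h6 := congrArg Co.a6 h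
  exact ⟨k1, k2, by simp [x7, k1, k2] at h4; grind, by simp [x7, k1, k2] at h6; grind⟩

theorem cen2W {s m : Co T} (hm : m ∈ sV T) (ha : m.a2 ≠ 0) (h : cm s m ∈ sW T) : s ∈ sQ T := by
  obtain ⟨h1, h2, h3, h4, h5, h6, h7⟩ := hm
  have k3 := eA (W_le_A h)
  have k5 := eW h
  have k1 : s.b8 = 0 := by simp [*] at k3; grind
  exact ⟨k1, by simp [*] at k5; grind⟩

theorem cen3W {s m : Co T} (hm : m ∈ sV T) (h0 : m.a2 = 0) (ha : m.a3 ≠ 0) (h : cm s m ∈ sW T) :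
    s.b8 = 0 := by
  obtain ⟨h1, h2, h3, h4, h5, h6, h7⟩ := hm
  have k5 := eW h
  exact sg_zero (T := T) (by simp [*] at k5; grind)

theorem cenVZ {s m : Co T} (hm : m ∈ sV T) (ha : m ∉ sA T) (h : cm s m ∈ sZ T) : s ∈ sQ T := by
  by_cases h2 : m.a2 = 0
  · have h3 : m.a3 ≠ 0 := fun e => ha (by simp_all [mem_sA, mem_sV])
    have k1 := cen3W hm h2 h3 (Z_le_W h)
    obtain ⟨h1, h2, h3, h4, h5, h6, h7⟩ := hm
    have k6 := eZ h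
    exact ⟨k1, by simp [*] at k6; grind⟩
  · exact cen2W hm h2 (Z_le_W h)

theorem cen5Z {s m : Co T} (hm : m ∈ sA T) (ha : m.a5 ≠ 0) (h : cm s m ∈ sZ T) : s.b8 = 0 := by
  obtain ⟨h1, h2, h3, h4, h5, h6, h7, h8, h9⟩ := hm
  have k6 := eZ h
  simp [*] at k6; grind

theorem cen6 {s m : Co T} (hm : m ∈ sW T) (ha : m ∉ sZ T) (h : s * m = m * s) : s ∈ sQ1 T := by
  have h0 : m.a6 ≠ 0 := fun e => ha (by simp_all [mem_sW, mem_sZ])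
  obtain ⟨h1, h2, h3, h4, h5, h6, h7, h8, h9, h10⟩ := hm
  have k := congrArg Co.a4 h
  clear h
  rw [mem_sQ1]
  simp [*] at k; grind

/-! ### Commutators -/

theorem covZ {s m : Co T} {U : Subgroup (Co T)} (h : cm s m ∈ sZ T) : ∃ k, (x4 T k)⁻¹ * cm s m ∈ U :=
  ⟨(cm s m).a4, by rw [← H14.Oc.eq_x4 h, inv_mul_cancel]; exact one_mem _⟩

theorem cSZ {m : Co T} (hm : m ∈ sZ T) (s : Co T) : s * m = m * s := by
  rw [H14.Oc.eq_x4 hm, H14.Oc.x4_comm]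

theorem sqQ8 {s : Co T} (hs : s ∈ sQ8 T) : s * s ∈ sD T := by
  have k1 : s.b8 = 0 := hs
  refine ⟨?_, ?_, ?_⟩ <;> simp [*] <;> grind

theorem cSW {m : Co T} (hm : m ∈ sW T) (s : Co T) : cm s m ∈ sZ T := by
  obtain ⟨h1, h2, h3, h4, h5, h6, h7, h8, h9, h10⟩ := hm
  refine cm_iff.2 (memZ ?_ ?_ ?_ ?_ ?_ ?_ ?_ ?_ ?_ ?_ ?_) <;> simp [*] <;> grind

theorem cSA {m : Co T} (hm : m ∈ sA T) (s : Co T) : cm s m ∈ sW T := by
  obtain ⟨h1, h2, h3, h4, h5, h6, h7, h8, h9⟩ := hm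
  refine cm_iff.2 (memW ?_ ?_ ?_ ?_ ?_ ?_ ?_ ?_ ?_ ?_) <;> simp [*] <;> grind

theorem cSV0 {m : Co T} (hm : m ∈ sV0 T) (s : Co T) : cm s m ∈ sA T := by
  obtain ⟨h1, h2, h3, h4, h5, h6, h7, h8⟩ := hm
  refine cm_iff.2 (memA ?_ ?_ ?_ ?_ ?_ ?_ ?_ ?_ ?_) <;> simp [*] <;> grind

theorem cSZ5 {m : Co T} (hm : m ∈ sZ5 T) (s : Co T) : cm s m ∈ sV0 T := by
  obtain ⟨h1, h2, h3, h4, h5, h6⟩ := hm
  refine cm_iff.2 (memV0 ?_ ?_ ?_ ?_ ?_ ?_ ?_ ?_) <;> simp [*] <;> grind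

theorem cQQ {s m : Co T} (hs : s ∈ sQ T) (hm : m ∈ sQ T) : cm s m ∈ sV T := by
  obtain ⟨h1, h2⟩ := hm
  obtain ⟨k1, k2⟩ := hs
  refine cm_iff.2 (memV ?_ ?_ ?_ ?_ ?_ ?_ ?_) <;> simp [*] <;> grind

theorem sqQ {s : Co T} (hs : s ∈ sQ T) : s * s ∈ sV T := by
  obtain ⟨k1, k2⟩ := hs
  refine ⟨?_, ?_, ?_, ?_, ?_, ?_, ?_⟩ <;> simp [*] <;> grind

theorem cQV' {s m : Co T} (hs : s ∈ sQ T) (hm : m ∈ sV T) :
    cm s m = x4 T (s.a1 * m.a6 + s.b2 * m.a5 + s.b6 * m.a3 + s.a7 * m.a2) := by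
  obtain ⟨h1, h2, h3, h4, h5, h6, h7⟩ := hm
  obtain ⟨k1, k2⟩ := hs
  refine cm_eq ?_
  ext <;> simp [x4, *] <;> grind

theorem cQV {s m : Co T} (hs : s ∈ sQ T) (hm : m ∈ sV T) : cm s m ∈ sZ T :=
  cQV' hs hm ▸ H14.Oc.x4_mem _

theorem cQ8A {s m : Co T} (hs : s ∈ sQ8 T) (hm : m ∈ sA T) : cm s m ∈ sZ T := by
  obtain ⟨h1, h2, h3, h4, h5, h6, h7, h8, h9⟩ := hm
  have k1 : s.b8 = 0 := hs
  refine cm_iff.2 (memZ ?_ ?_ ?_ ?_ ?_ ?_ ?_ ?_ ?_ ?_ ?_) <;> simp [*] <;> grind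

theorem cQ8V0 {s m : Co T} (hs : s ∈ sQ8 T) (hm : m ∈ sV0 T) : cm s m ∈ sW T := by
  obtain ⟨h1, h2, h3, h4, h5, h6, h7, h8⟩ := hm
  have k1 : s.b8 = 0 := hs
  refine cm_iff.2 (memW ?_ ?_ ?_ ?_ ?_ ?_ ?_ ?_ ?_ ?_) <;> simp [*] <;> grind

theorem cDD {s m : Co T} (hs : s ∈ sD T) (hm : m ∈ sD T) : cm s m ∈ sA T := by
  obtain ⟨h1, h2, h3⟩ := hm
  obtain ⟨k1, k2, k3⟩ := hs
  refine cm_iff.2 (memA ?_ ?_ ?_ ?_ ?_ ?_ ?_ ?_ ?_) <;> simp [*] <;> grind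

theorem cDA7 {s m : Co T} (hs : s ∈ sD T) (hm : m ∈ sA7 T) : cm s m ∈ sW T := by
  obtain ⟨h1, h2, h3, h4, h5, h6, h7⟩ := hm
  obtain ⟨k1, k2, k3⟩ := hs
  refine cm_iff.2 (memW ?_ ?_ ?_ ?_ ?_ ?_ ?_ ?_ ?_ ?_) <;> simp [*] <;> grind

theorem cQ1A7 {s m : Co T} (hs : s ∈ sQ1 T) (hm : m ∈ sA7 T) : cm s m ∈ sA T := by
  obtain ⟨h1, h2, h3, h4, h5, h6, h7⟩ := hm
  have k1 : s.a1 = 0 := hs
  refine cm_iff.2 (memA ?_ ?_ ?_ ?_ ?_ ?_ ?_ ?_ ?_) <;> simp [*] <;> grind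

theorem cQ1W {s m : Co T} (hs : s ∈ sQ1 T) (hm : m ∈ sW T) : s * m = m * s := by
  obtain ⟨h1, h2, h3, h4, h5, h6, h7, h8, h9, h10⟩ := hm
  have k1 : s.a1 = 0 := hs
  ext <;> simp [*] <;> grind

theorem cDA {s m : Co T} (hs : s ∈ sD T) (hm : m ∈ sA T) : s * m = m * s := by
  obtain ⟨h1, h2, h3, h4, h5, h6, h7, h8, h9⟩ := hm
  obtain ⟨k1, k2, k3⟩ := hs
  ext <;> simp [*] <;> grind

theorem cA7A7 {s m : Co T} (hs : s ∈ sA7 T) (hm : m ∈ sA7 T) : s * m = m * s := by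
  obtain ⟨h1, h2, h3, h4, h5, h6, h7⟩ := hm
  obtain ⟨k1, k2, k3, k4, k5, k6, k7⟩ := hs
  ext <;> simp [*] <;> grind

theorem cF0V0 {s m : Co T} (hs : s ∈ sF0 T) (hm : m ∈ sV0 T) : s * m = m * s := by
  obtain ⟨h1, h2, h3, h4, h5, h6, h7, h8⟩ := hm
  obtain ⟨k1, k2, k3, k4, k5⟩ := hs
  ext <;> simp [*] <;> grind

theorem cV6V6 {s m : Co T} (hs : s ∈ sV6 T) (hm : m ∈ sV6 T) : s * m = m * s := by
  obtain ⟨h1, h2, h3, h4, h5, h6, h7⟩ := hm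
  obtain ⟨k1, k2, k3, k4, k5, k6, k7⟩ := hs
  ext <;> simp [*] <;> grind

theorem cB6B6 {s m : Co T} (hs : s ∈ sB6 T) (hm : m ∈ sB6 T) : cm s m ∈ sV6 T := by
  obtain ⟨h1, h2, h3⟩ := hm
  obtain ⟨k1, k2, k3⟩ := hs
  refine ⟨?_, ?_, ?_, ?_, ?_, ?_, ?_⟩ <;> simp [cm, *] <;> grind

theorem sqB6 {s : Co T} (hs : s ∈ sB6 T) : s * s ∈ sV6 T := by
  obtain ⟨k1, k2, k3⟩ := hs
  refine ⟨?_, ?_, ?_, ?_, ?_, ?_, ?_⟩ <;> simp [*] <;> grind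

theorem cB6V6 {s m : Co T} (hs : s ∈ sB6 T) (hm : m ∈ sV6 T) : cm s m ∈ sX6 T := by
  obtain ⟨h1, h2, h3, h4, h5, h6, h7⟩ := hm
  obtain ⟨k1, k2, k3⟩ := hs
  rw [cm_eq (x := x6 T (s.a3 * m.a8 + s.b4 * m.a7 + s.b8 * m.a5)) (by ext <;> simp [x6, *] <;> grind)]
  exact x6_mem _

/-! ### Involutions and fourth powers -/

theorem sqA7 {s : Co T} (hs : s ∈ sA7 T) : s * s = 1 := by
  obtain ⟨k1, k2, k3, k4, k5, k6, k7⟩ := hs
  ext <;> simp [*] <;> grind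

theorem sqV {s : Co T} (hs : s ∈ sV T) : s * s = 1 := by
  obtain ⟨k1, k2, k3, k4, k5, k6, k7⟩ := hs
  ext <;> simp [*] <;> grind

theorem inv_T8 {c : Co T} (hc : c ∈ sT8 T) (h : c * c = 1) : c ∈ sV6 T := by
  obtain ⟨k1, k2, k3, k4⟩ := hc
  have k5 := inv_b8 h
  have h4 := congrArg Co.a4 h
  have h6 := congrArg Co.a6 h
  clear h
  have k6 : c.b4 = 0 := nm_zero (T := T) (by simp [*] at h4; grind)
  exact ⟨k1, k2, k3, k4, k6, nm_zero (T := T) (by simp [*] at h6; grind), k5⟩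

/-- fourth powers in `Q₈` -/
theorem four_Z {c : Co T} (hc : c.b8 = 0) (h : (c * c * (c * c)).a5 = 0) (h' : c * c * (c * c) ∈ sA T) :
    c * c * (c * c) ∈ sZ T ∧ (c.b2 = 0 → c * c * (c * c) = 1) := by
  have d1 : (c * c).a1 = 0 := by simp; grind
  have d2 : (c * c).b2 = 0 := by simp [hc]; grind
  have d8 : (c * c).b8 = 0 := by simp [hc]
  have d9 : (c * c).a8 = 0 := by simp [hc]; grind
  have d4 : (c * c).b4 = c.a8 * T.σ c.a1 := by simp [hc]; grind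
  have d6 : (c * c).b6 = c.a8 * c.a1 := by simp [hc]; grind
  have d7 : (c * c).a7 = T.σ c.a8 * c.a1 + c.a8 * c.b2 := by simp [hc]; grind
  generalize c * c = d at *
  have e : c.a8 * c.a1 = 0 := by
    simp only [Co.mul_a5, d1, d2, d8, d9, d4, d6, map_zero, mul_zero, zero_mul, add_zero] at h
    by_cases h1 : c.a1 = 0
    · simp [h1]
    · have := sg_ne (T := T) h1
      grind
  have e' : c.a8 * T.σ c.a1 = 0 := by
    rcases mul_eq_zero.1 e with e | e <;> simp [e]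
  have e'' : T.σ c.a8 * c.a1 = 0 := by
    rcases mul_eq_zero.1 e with e | e <;> simp [e]
  rw [e] at d6
  rw [e'] at d4
  rw [e'', zero_add] at d7
  obtain ⟨h1, h2, h3, h4, h5, h6, h7, h8, h9⟩ := h'
  refine ⟨⟨h1, h2, h3, h4, h5, h, h6, by simp [*]; grind, h7, h8, h9⟩, fun h0 => ?_⟩
  rw [h0, mul_zero] at d7
  ext <;> simp [d1, d2, d4, d6, d7, d8, d9] <;> grind

theorem four_A [Finite K] {m : Co T} (hm : m ∈ sA T) (h5 : m.a5 ≠ 0) :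
    ∃ c : Co T, c.b8 = 0 ∧ (m.a6 = 0 → c.b2 = 0) ∧ c * c * (c * c) = m := by
  obtain ⟨r1, hr1⟩ := sg_surj (T := T) m.a5
  obtain ⟨r, hr⟩ := sg_surj (T := T) r1
  have e5 : m.a5 = r ^ 2 := by rw [← hr1, ← hr, T.sq]
  obtain ⟨w, e6⟩ : ∃ w, m.a6 = m.a5 * w := ⟨m.a6 / m.a5, by field_simp⟩
  obtain ⟨a2, a3, a4, a5, a6, e⟩ : ∃ a2 a3 a4 a5 a6, (⟨1, w, 0, 0, 0, 0, 0, 0, 0, 0, 0, r⟩ : Co T) *
      ⟨1, w, 0, 0, 0, 0, 0, 0, 0, 0, 0, r⟩ = ⟨0, 0, a2, a3, r, a4, a5, r, a6, T.σ r + r * w, 0, 0⟩ := by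
    refine ⟨_, _, _, _, _, Co.ext ?_ ?_ rfl rfl ?_ rfl rfl ?_ rfl ?_ ?_ ?_⟩ <;> simp <;> grind
  obtain ⟨x, e'⟩ : ∃ x, (⟨0, 0, a2, a3, r, a4, a5, r, a6, T.σ r + r * w, 0, 0⟩ : Co T) *
      ⟨0, 0, a2, a3, r, a4, a5, r, a6, T.σ r + r * w, 0, 0⟩ = ⟨0, 0, 0, 0, 0, x, r ^ 2, 0, r ^ 2 * w, 0, 0, 0⟩ := by
    refine ⟨_, Co.ext ?_ ?_ ?_ ?_ ?_ rfl ?_ ?_ ?_ ?_ ?_ ?_⟩ <;> simp <;> grind
  obtain ⟨t, ht⟩ : ∃ t, m.a4 = x + m.a5 * t := ⟨(m.a4 - x) / m.a5, by field_simp; ring⟩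
  refine ⟨y2 T t * ⟨1, w, 0, 0, 0, 0, 0, 0, 0, 0, 0, r⟩ * (y2 T t)⁻¹, by simp [y2], fun h0 => ?_, ?_⟩
  · have : w = 0 := by rw [h0] at e6; exact (mul_eq_zero.1 e6.symm).resolve_left h5
    simp [y2, this]; grind
  · rw [conj_mul, conj_mul, e, e']
    obtain ⟨h1, h2, h3, h4, h5, h6, h7, h8, h9⟩ := hm
    ext <;> simp [y2, *] <;> grind

/-! ### The cases with `M ≤ V₆` -/

variable [Finite K] {E M : Subgroup (Co T)} {z : ℕ → Subgroup (Co T)} {i : ℕ}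

theorem full6 (h : Bc z i E M) (hM : M ≤ sV6 T) {X : Subgroup (Co T)} (hX : E ≤ X) (hB : X ≤ sB6 T)
    (f : K → Co T) (hf : ∀ t, f t ∈ sB6 T) (inj : ∀ x y, (f x)⁻¹ * f y ∈ X → x = y) (h1 : f 1 ∉ X) :
    E = X ∧ f 1 ∈ normalizer (E : Set (Co T)) := by
  have hV : sV6 T ≤ E := fun s hs => mem_E h hM fun m hm => cm_of_comm (cV6V6 hs hm)
  have hN : sB6 T ≤ normalizer (E : Set (Co T)) :=
    le_nor fun s hs c hc => hV (cB6B6 hs (hB (hX hc)))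
  refine ⟨h.full hN (fun x hx => hV (sqB6 hx)) (hN (hf 1)) (fun k => h1 (hX k)) hX hB f (x6 T) hf inj
    fun m hm => ⟨(cm (f 1) m).a6, ?_⟩, hN (hf 1)⟩
  rw [← eq_x6 (cB6V6 (hf 1) (hM hm)), inv_mul_cancel]
  exact one_mem _

theorem full8 (h : Bc z i E M) (hM : M ≤ sV6 T) (hX : E ≤ sT8 T) :
    E = sT8 T ∧ x3 T 1 ∈ normalizer (E : Set (Co T)) :=
  full6 h hM hX T8_le_B6 (x3 T) (fun t => ⟨rfl, rfl, rfl⟩)
    (fun x y k => by have := k.2.2.2; simp [x3] at this; grind) fun k => one_ne_zero k.2.2.2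

theorem full7 (h : Bc z i E M) (hM : M ≤ sV6 T) (hX : E ≤ sT7 T) :
    E = sT7 T ∧ y4 T 1 ∈ normalizer (E : Set (Co T)) :=
  full6 h hM hX T7_le_B6 (y4 T) (fun t => ⟨rfl, rfl, rfl⟩)
    (fun x y k => by have := k.2.2.2; simp [y4] at this; grind) fun k => one_ne_zero k.2.2.2

theorem pr8 {β : Co T → Co T} (h : Au (sT8 T) β) : Pr β (sX6 T) :=
  pr_g3 h (fun c hc d hd => cB6B6 (T8_le_B6 hc) (T8_le_B6 hd)) (fun c hc y hy => cB6V6 (T8_le_B6 hc) hy)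
    fun x hx => ⟨y8 T 1, ⟨rfl, rfl, rfl, rfl⟩, y6 T x.a6, ⟨rfl, rfl, rfl, rfl⟩, y4 T 1,
      ⟨rfl, rfl, rfl, rfl⟩, by
      rw [cm_eq (x := x5 T x.a6) (s := y6 T x.a6) (by ext <;> simp [y6, y4, x5] <;> grind),
        cm_eq (x := x6 T x.a6) (by ext <;> simp [y8, x6, x5] <;> grind)]
      exact eq_x6 hx⟩

theorem pr7 {β : Co T → Co T} (h : Au (sT7 T) β) : Pr β (sX6 T) :=
  pr_g3 h (fun c hc d hd => cB6B6 (T7_le_B6 hc) (T7_le_B6 hd)) (fun c hc y hy => cB6V6 (T7_le_B6 hc) hy)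
    fun x hx => ⟨y8 T 1, ⟨rfl, rfl, rfl, rfl⟩, y8 T 1, ⟨rfl, rfl, rfl, rfl⟩, x3 T x.a6,
      ⟨rfl, rfl, rfl, rfl⟩, by
      rw [cm_eq (x := x4 T (T.σ x.a6) * x5 T x.a6) (m := x3 T x.a6)
          (by ext <;> simp [y8, x3, x4, x5] <;> grind),
        cm_eq (x := x6 T x.a6) (by ext <;> simp [y8, x6, x5, x4] <;> grind)]
      exact eq_x6 hx⟩

end H5.RL
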