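/- RF tower, slots L1a, L1b, L2, L3. -/
import Cfsg.Agent.H5.RFL

set_option autoImplicit false
set_option linter.unusedSectionVars false
set_option linter.unusedSimpArgs false
set_option linter.unusedVariables false
set_option linter.unnecessarySeqFocus false
set_option linter.unreachableTactic false
set_option linter.unusedTactic false

open Subgroup H63.Oc H90.RF H19.ParTY H55.Oc

universe v

namespace H5.RL

variable {K : Type*} [Field K] [CharP K 2] {T : TF K} [Finite K] {E M : Subgroup (Co T)}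

theorem W_le_V : sW T ≤ sV T := W_le_A.trans A_le_V

/-! ### Level 1 -/

theorem no_x8_1 (h : Bc (zA T) 1 E M) {v a : K} (ha : a ≠ 0) (hm : x4 T v * x8 T a ∈ M) : False := by
  have hE : E ≤ sT8 T := fun s hs => cen8Z ha ((h.cen s).1 hs _ hm)
  have hM : M ≤ sV6 T := h.gen_le fun β hβ u hu hb =>
    inv_T8 (hE (h.ME hb)) (au_sq hβ.1 (h.ME (h.le hu)) (sqV (W_le_V hu)))
  obtain ⟨rfl, -⟩ := full8 h hM hE
  refine h.not_le (X := sW T) (fun c hc s => cSW hc s) (h.min (X := sW T) le_rfl fun β hβ u hu => ?_)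
  have e : u = x4 T u.a4 * x6 T u.a6 := by
    obtain ⟨h1, h2, h3, h4, h5, h6, h7, h8, h9, h10⟩ := hu
    ext <;> simp [x4, x6, *]
  rw [e, hβ.1.mul _ ⟨rfl, rfl, rfl, rfl⟩ _ ⟨rfl, rfl, rfl, rfl⟩]
  exact mul_mem (Z_le_W (hβ.2 1 le_rfl _ (H14.Oc.x4_mem _))) (pr8 hβ.1 _ (x6_mem _)).1

theorem a8_1 (h : Bc (zA T) 1 E M) {m : Co T} (hm : m ∈ M) (h2 : m * m = 1) : m.a8 = 0 := by
  by_contra h1
  obtain ⟨s, v, e⟩ := inv_x8 h2 h1
  exact no_x8_1 (h.conj nzA s) h1 (e ▸ conj_mem_cjS.2 hm)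

theorem gsq1 (h : Bc (zA T) 1 E M) {β : Co T → Co T} (hβ : Ok (zA T) 1 E β) {u : Co T}
    (hu : u ∈ zA T (1 + 1)) : β u * β u = 1 := au_sq hβ.1 (h.ME (h.le hu)) (sqV (W_le_V hu))

theorem V_le_E1 (h : Bc (zA T) 1 E M) : sV T ≤ E := fun s hs =>
  mem_E h (h.gen_le (X := sQ T) fun β hβ u hu hb => ⟨inv_b8 (gsq1 h hβ hu), a8_1 h hb (gsq1 h hβ hu)⟩)
    fun m hm => cm_symm (X := sZ T) (cQV hm hs)

variable (T) in
/-- `U₁ V` -/
def s1V : Subgroup (Co T) where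
  carrier := {c | c.b2 = 0 ∧ c.b4 = 0 ∧ c.b6 = 0 ∧ c.a7 = 0 ∧ c.b8 = 0 ∧ c.a8 = 0}
  one_mem' := by simp
  mul_mem' := fun {c d} hc hd => by simp_all
  inv_mem' := fun {c} hc => by simp_all

theorem no_x1_1 (h : Bc (zA T) 1 E M) {a : K} (ha : a ≠ 0) (hm : x1 T a ∈ M) : False := by
  have e1 : ∀ s ∈ E, s.b4 = 0 ∧ s.b6 = 0 ∧ s.a7 = 0 ∧ s.b8 = 0 ∧ s.a8 = 0 := fun s hs =>
    cen1Z ha ((h.cen s).1 hs _ hm)
  have hV := V_le_E1 h
  have hN : sQ T ≤ normalizer (E : Set (Co T)) := le_nor fun s hs c hc => hV (cQQ hs (e1 c hc).2.2.2)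
  have hM : M ≤ s1V T := h.gen_le fun β hβ u hu hb => by
    obtain ⟨k1, k2, k3, k4, k5⟩ := e1 _ (h.ME hb)
    have k := congrArg Co.a2 (gsq1 h hβ hu)
    exact ⟨nm_zero (T := T) (by simp [k1, k2, k3, k4, k5] at k; grind), k1, k2, k3, k4, k5⟩
  refine h.no2 hN (fun x hx => hV (sqQ hx)) (s := y4 T 1) (hN ⟨rfl, rfl⟩)
    (fun k => one_ne_zero (e1 _ k).1) (fun x y => y4 T x * y6 T y) (x2 T)
    (fun x y => by simp [mem_sQ, y6, y4]) (fun x y x' y' k => ?_) fun m hm => ⟨m.a1, ?_⟩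
  · obtain ⟨k1, k2, -⟩ := e1 _ k
    simp [y4, y6] at k1 k2
    constructor <;> grind
  · obtain ⟨k1, k2, k3, k4, k5, k6⟩ := hM hm
    show _ ∈ sZ T
    refine ⟨?_, ?_, ?_, ?_, ?_, ?_, ?_, ?_, ?_, ?_, ?_⟩ <;> simp [cm, x2, y4, *] <;> grind

theorem jobL1a : JobL1a.{v} := by
  intro K _ _ _ T E M h
  refine h.gen_le fun β hβ u hu hb => ?_
  have h2 := gsq1 h hβ hu
  have h1 : (β u).a1 = 0 := by
    by_contra h1
    obtain ⟨s, e⟩ := inv_x1 h2 h1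
    exact no_x1_1 (h.conj nzA s) h1 (e ▸ conj_mem_cjS.2 hb)
  refine (inv_VA h2 h1 (a8_1 h hb h2)).elim id fun hA => ?_
  by_contra hV
  have h7 : (β u).a7 ≠ 0 := fun e => hV (by simp_all [mem_sV, mem_sA7])
  have hE : E ≤ sQ1 T := fun s hs => cen7A hA h7 (Z_le_A ((h.cen s).1 hs _ hb))
  have k := congrArg Co.a4 (au_comm hβ.1 (h.ME (h.le hu)) (fun c hc => cQ1W (hE hc) hu) (x2 T 1)
    (V_le_E1 h (by simp [mem_sV, x2])))
  obtain ⟨k1, k2, k3, k4, k5, k6, k7⟩ := hA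
  simp [x2, *] at k

theorem jobL1b : JobL1b.{v} := by
  intro K _ _ _ T E M h hM
  by_cases hA : M ≤ sA T
  · obtain ⟨m, hm, hW⟩ := SetLike.not_le_iff_exists.1 (h.not_le (X := sW T) fun c hc s => cSW hc s)
    have h5 : m.a5 ≠ 0 := fun e => hW (by have := hA hm; simp_all [mem_sA, mem_sW])
    obtain rfl : E = sQ8 T := le_antisymm (fun s hs => cen5Z (hA hm) h5 ((h.cen s).1 hs _ hm))
      fun s hs => mem_E h hA fun m hm => cQ8A hs hm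
    refine absurd (h.gen_le (X := sW T) (fun β hβ u hu hb => ?_) hm) hW
    have hu' : u ∈ sW T := hu
    by_cases b5 : (β u).a5 = 0
    · have := hA hb
      simp_all [mem_sW, mem_sA]
    · obtain ⟨c, c8, -, e⟩ := four_A (hA hb) b5
      obtain ⟨d, hd, rfl⟩ := hβ.1.sur c c8
      have d2 := mul_mem hd hd
      rw [← hβ.1.mul d hd d hd, ← hβ.1.mul _ d2 _ d2] at e
      have e' := hβ.1.eq (mul_mem d2 d2) (h.ME (h.le hu)) e
      exact Z_le_W (hβ.2 1 le_rfl u (e' ▸ (four_Z hd (e' ▸ hu'.2.2.2.2.2.1) (e' ▸ W_le_A hu')).1))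
  · obtain ⟨m, hm, hA⟩ := SetLike.not_le_iff_exists.1 hA
    exact le_antisymm (fun s hs => cenVZ (hM hm) hA ((h.cen s).1 hs _ hm))
      fun s hs => mem_E h hM fun m hm => cQV hs hm

/-! ### Levels 3 and 4 -/

theorem mem_D {s : Co T} (h : ∀ m ∈ sA T, s * m = m * s) : s ∈ sD T := by
  have k1 : s.a1 = 0 := cen6 (m := x6 T 1) (x6_mem 1).1 (fun k => one_ne_zero k.2.2.2.2.2.2.2.1)
    (h _ (W_le_A (x6_mem 1).1))
  have e := h (x5 T 1) (by simp [mem_sA, x5])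
  have k2 := cen5Z (m := x5 T 1) (by simp [mem_sA, x5]) one_ne_zero (cm_of_comm e)
  have k := congrArg Co.a4 e
  exact ⟨k1, by simp [x5, k1, k2] at k; grind, k2⟩

theorem mem_A7 {d : Co T} (hd : d ∈ sD T) (h : ∀ s ∈ sD T, cm s d ∈ sW T) : d ∈ sA7 T := by
  obtain ⟨k1, k2, k3⟩ := hd
  have e1 := eW (h (x8 T 1) ⟨rfl, rfl, rfl⟩)
  have e2 := eW (h (x2 T 1) ⟨rfl, rfl, rfl⟩)
  have e3 := eW (h (y4 T 1) ⟨rfl, rfl, rfl⟩)
  have e4 := eW (h (y6 T 1) ⟨rfl, rfl, rfl⟩)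
  simp [x8, x2, y4, y6, k1, k2, k3] at e1 e2 e3 e4
  exact ⟨k1, k2, e1, e4, e3, k3, e2⟩

theorem au_cen {β : Co T → Co T} (h : Au E β) {Y : Subgroup (Co T)} (hY : Y ≤ E) (p : Pr β Y) {u : Co T}
    (hu : u ∈ E) (k : ∀ m ∈ Y, u * m = m * u) : ∀ m ∈ Y, β u * m = m * β u := fun m hm =>
  cm_bot.1 (h.cm_mem (U := ⊥) hY p (fun c hc => by rw [mem_bot.1 hc, h.one]; exact one_mem _) hu
    (fun y hy => cm_bot.2 (k y hy)) m hm)

theorem lev3 (h : Bc (zA T) 3 E M) : E = sQ1 T := by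
  have hV : sV0 T ≤ E := h.le.trans h.ME
  have pD : ∀ β, Ok (zA T) 3 E β → ∀ u ∈ E, u ∈ sD T → β u ∈ sD T := fun β hβ u hu hu' =>
    mem_D (au_cen hβ.1 (A_le_V0.trans hV) (hβ.2 3 le_rfl) hu fun m hm => cDA hu' hm)
  have hMD : M ≤ sD T := h.gen_le fun β hβ u hu _ => pD β hβ u (hV hu) (A7_le_D (V0_le_A7 hu))
  have hD : sD T ≤ E := fun s hs => mem_E h hMD fun m hm => cDD hs hm
  have hM : M ≤ sA7 T := h.gen_le fun β hβ u hu hb => mem_A7 (hMD hb)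
    (hβ.1.cm_mem' hD (fun c hc => pD β hβ c (hD hc) hc) (hβ.2 2 (by omega)) (hV hu)
      fun y hy => cDA7 hy (V0_le_A7 hu))
  obtain ⟨m, hm, h0⟩ := SetLike.not_le_iff_exists.1 (h.not_le (X := sV0 T) fun c hc s => cSV0 hc s)
  have h7 : m.a7 ≠ 0 := fun e => h0 (by have := hM hm; simp_all [mem_sA7, mem_sV0])
  exact le_antisymm (fun s hs => cen7A (hM hm) h7 ((h.cen s).1 hs _ hm))
    fun s hs => mem_E h hM fun m hm => cQ1A7 hs hm

theorem lev4 (h : Bc (zA T) 4 E M) : False := by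
  have hZ : sZ5 T ≤ E := h.le.trans h.ME
  refine h.not_le (X := sZ5 T) (fun c hc s => cSZ5 hc s) (h.min (X := sZ5 T) le_rfl fun β hβ u hu => ?_)
  have key : ∀ c ∈ sZ5 T, c * c = 1 → β c ∈ sZ5 T := fun c hc h2 => by
    have k := au_cen hβ.1 ((V0_le_V.trans V_le_Z5).trans hZ) (hβ.2 4 le_rfl) (hZ hc)
      fun m hm => cF0V0 (by simp_all [mem_sZ5, mem_sF0]) hm
    obtain ⟨k1, k2, k3⟩ := mem_D fun m hm => k m (A_le_V0 hm)
    have e := congrArg Co.a6 (k (x3 T 1) (by simp [mem_sV0, x3]))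
    simp [x3, k1, k2, k3] at e
    exact (inv_VA (au_sq hβ.1 (hZ hc) h2) k1 e).elim (fun k => V_le_Z5 k) fun k => A7_le_Z5 k
  have m7 : x7 T u.a7 ∈ sA7 T := by simp [mem_sA7, x7]
  have mV : u * (x7 T u.a7)⁻¹ ∈ sV T := by
    obtain ⟨h1, h2, h3, h4, h5, h6⟩ := hu
    refine ⟨?_, ?_, ?_, ?_, ?_, ?_, ?_⟩ <;> simp [x7, *] <;> grind
  rw [← inv_mul_cancel_right u (x7 T u.a7), hβ.1.mul _ (hZ (V_le_Z5 mV)) _ (hZ (A7_le_Z5 m7))]
  exact mul_mem (key _ (V_le_Z5 mV) (sqV mV)) (key _ (A7_le_Z5 m7) (sqA7 m7))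

theorem jobL3 : JobL3.{v} := fun _ _ _ _ _ => ⟨fun _ _ => lev3, fun _ _ => lev4⟩

/-! ### Level 2 -/

theorem gD2 (h : Bc (zA T) 2 E M) {β : Co T → Co T} (hβ : Ok (zA T) 2 E β) {u : Co T} (hu : u ∈ sA T) :
    β u * β u = 1 ∧ β u ∈ sD T := by
  have hA : sA T ≤ E := h.le.trans h.ME
  have h2 := au_sq hβ.1 (hA hu) (sqV (A_le_V hu))
  exact ⟨h2, inv_D h2 (cen6 (m := x6 T 1) (x6_mem 1).1 (fun k => one_ne_zero k.2.2.2.2.2.2.2.1)
    (au_cen hβ.1 (W_le_A.trans hA) (hβ.2 2 le_rfl) (hA hu) (fun m hm => cQ1W hu.1 hm) _ (x6_mem 1).1))⟩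

theorem comm2 (h : Bc (zA T) 2 E M) {m m' : Co T} (hm : m ∈ M) (hm' : m' ∈ M) : m * m' = m' * m := by
  have hA : sA T ≤ E := h.le.trans h.ME
  refine mem_centralizer_singleton_iff.1 (h.gen_le (fun β hβ u hu hb => ?_) hm)
  rw [mem_centralizer_singleton_iff, eq_comm]
  refine mem_centralizer_singleton_iff.1 (h.gen_le (fun γ hγ w hw _ => ?_) hm')
  obtain ⟨δ, hδ, l, -⟩ := hβ.exists_inv fun j hj => by
    interval_cases j
    exacts [bot_le, Z_le_A.trans hA, W_le_A.trans hA]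
  have m1 := hγ.1.mem w (hA hw)
  rw [mem_centralizer_singleton_iff, ← l _ m1, ← hβ.1.mul _ (hδ.1.mem _ m1) _ (hA hu),
    cDA (gD2 h (hδ.comp hγ) hw).2 hu, hβ.1.mul _ (hA hu) _ (hδ.1.mem _ m1)]

theorem sq2 (h : Bc (zA T) 2 E M) {m : Co T} (hm : m ∈ M) : m * m = 1 := by
  let X : Subgroup (Co T) :=
    { carrier := {m | m ∈ M ∧ m * m = 1}
      one_mem' := ⟨one_mem _, mul_one _⟩
      mul_mem' := fun {a b} ha hb => ⟨mul_mem ha.1 hb.1, by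
        rw [mul_assoc, ← mul_assoc b, comm2 h hb.1 ha.1, mul_assoc, hb.2, mul_one, ha.2]⟩
      inv_mem' := fun {a} ha => ⟨inv_mem ha.1, by rw [← mul_inv_rev, ha.2, inv_one]⟩ }
  exact (h.gen_le (X := X) (fun β hβ u hu hb => ⟨hb, (gD2 h hβ hu).1⟩) hm).2

theorem no_x8_2 (h : Bc (zA T) 2 E M) {v a : K} (ha : a ≠ 0) (hm : x4 T v * x8 T a ∈ M) : False := by
  have hM : M ≤ sV6 T := fun m hm' => inv_T8 (cen8Z ha (cm_of_comm (comm2 h hm' hm))) (sq2 h hm')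
  obtain rfl : E = sB6 T := le_antisymm (fun s hs => cen8W ha ((h.cen s).1 hs _ hm))
    fun s hs => mem_E h hM fun m hm => (cB6V6 hs hm).1
  have := h.b1' (fun x : K × K => y2 T x.1 * x2 T x.2)
    (fun x : K × K × K => (⟨0, 0, 0, 0, 0, 0, x.1, 0, 0, x.2.1, 0, x.2.2⟩ : Co T))
    (fun x => mem_nor fun c ⟨k1, k2, k3⟩ => by
      refine ⟨?_, ?_, ?_⟩ <;> simp [cm, y2, x2, *] <;> grind)
    (fun x y ⟨_, k2, k3⟩ => by
      simp [y2, x2] at k2 k3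
      have e : x.1 = y.1 := by grind
      rw [e] at k3
      exact Prod.ext e (by grind))
    fun m hm => ⟨(m.a5, m.a7, m.a8), by
      obtain ⟨k1, k2, k3, k4, k5, k6, k7⟩ := hM hm
      refine memW ?_ ?_ ?_ ?_ ?_ ?_ ?_ ?_ ?_ ?_ <;> simp [*]⟩
  have h2 := Finite.one_lt_card (α := K)
  simp only [Nat.card_prod] at this
  have h3 : 0 < Nat.card K * (Nat.card K * Nat.card K) := by positivity
  nlinarith

theorem no_x7_2 (h : Bc (zA T) 2 E M) (hM : M ≤ sA7 T) {a : K} (ha : a ≠ 0) (hm : x7 T a ∈ M) :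
    False := by
  have hE : ∀ s ∈ E, s.a1 = 0 ∧ s.b2 = 0 := fun s hs => cen7W ha ((h.cen s).1 hs _ hm)
  by_cases h3 : ∀ m ∈ M, m.a3 = 0
  · refine ha (h.gen_le (X := sA T) (fun β hβ u hu hb => ?_) hm).2.2.2.2.2.2.1
    have k := congrArg Co.a4 (au_comm2 hβ.1 (h.ME (h.le hu))
      (fun c hc h2 => cDA ⟨(hE c hc).1, (hE c hc).2, inv_b8 h2⟩ hu) (x2 T 1)
      (mem_E h hM fun m hm => cDA7 ⟨rfl, rfl, rfl⟩ hm) (sqV (by simp [mem_sV, x2])))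
    obtain ⟨k1, k2, k3, k4, k5, k6, k7⟩ := hM hb
    simp [x2, k1, k2, k3, k4, k5, k6, k7] at k
    exact ⟨k1, k2, k3, h3 _ hb, k4, k5, k, k6, k7⟩
  · push Not at h3
    obtain ⟨m, hm', h3⟩ := h3
    obtain rfl : E = sD T := by
      refine le_antisymm (fun s hs => ?_) fun s hs => mem_E h hM fun m hm => cDA7 hs hm
      obtain ⟨k1, k2⟩ := hE s hs
      obtain ⟨h1, h2, h4, h5, h6, h7, h8⟩ := hM hm'
      have e5 := eW ((h.cen s).1 hs _ hm')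
      exact ⟨k1, k2, sg_zero (T := T) (by simp [k1, k2, h1, h2, h4, h5, h6, h7, h8] at e5; grind)⟩
    refine h.no2 (B := sQ8 T) (fun s _ => nor_of_normal s) (fun x hx => sqQ8 hx) (s := y2 T 1)
      (nor_of_normal _) (fun k => one_ne_zero k.2.1) (fun x y => x1 T x * y2 T y) (x5 T)
      (fun x y => by simp [mem_sQ8, x1, y2]) (fun x y x' y' k => ?_)
      fun m hm => ⟨(cm (y2 T 1) m).a5, ?_⟩
    · obtain ⟨k1, k2, -⟩ := k
      simp [x1, y2] at k1 k2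
      constructor <;> grind
    · obtain ⟨h1, h2, h3, h4, h5, h6, h7, h8, h9⟩ := cQ1A7 (s := y2 T 1) rfl (hM hm)
      refine memW ?_ ?_ ?_ ?_ ?_ ?_ ?_ ?_ ?_ ?_ <;> simp [x5, *]

theorem jobL2 : JobL2.{v} := by
  intro K _ _ _ T E M h
  have hD : M ≤ sD T := h.gen_le fun β hβ u hu _ => (gD2 h hβ hu).2
  have h8 : ∀ m ∈ M, m.a8 = 0 := fun m hm => by
    by_contra h1
    obtain ⟨s, v, e⟩ := inv_x8 (sq2 h hm) h1
    exact no_x8_2 (h.conj nzA s) h1 (e ▸ conj_mem_cjS.2 hm)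
  have hM : M ≤ sV T := by
    refine (le_or_le fun m hm => inv_VA (sq2 h hm) (hD hm).1 (h8 m hm)).elim id fun hM m hm => ?_
    by_contra hV
    have h7 : m.a7 ≠ 0 := fun e => hV (by have := hM hm; simp_all [mem_sV, mem_sA7])
    obtain ⟨s, -, e⟩ := inv_x7 (hM hm) h7
    exact no_x7_2 (h.conj nzA s) (cjS_le s hM) h7 (e ▸ conj_mem_cjS.2 hm)
  by_cases h2 : ∀ m ∈ M, m.a2 = 0
  · have hA := h.not_le (X := sA T) fun c hc s => cSA hc s
    obtain ⟨m, hm, h0⟩ := SetLike.not_le_iff_exists.1 hA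
    have h3 : m.a3 ≠ 0 := fun e => h0 (by have := hM hm; have := h2 m hm; simp_all [mem_sA, mem_sV])
    have h0 : M ≤ sV0 T := fun m hm => by have := hM hm; have := h2 m hm; simp_all [mem_sV0, mem_sV]
    obtain rfl : E = sQ8 T := le_antisymm
      (fun s hs => cen3W (hM hm) (h2 m hm) h3 ((h.cen s).1 hs _ hm))
      fun s hs => mem_E h h0 fun m hm => cQ8V0 hs hm
    refine absurd (h.gen_le fun β hβ u hu hb => ?_) hA
    have k := eZ (hβ.1.cm_mem' le_rfl hβ.1.mem (hβ.2 1 (by omega)) (h.ME (h.le hu))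
      (fun y hy => cQ8A hy hu) (x8 T 1) rfl)
    obtain ⟨k1, k2, k3, k4, k5, k6, k7, k8⟩ := h0 hb
    simp [x8, k1, k2, k3, k4, k5, k6, k7, k8] at k
    exact ⟨k1, k2, k3, k, k4, k5, k6, k7, k8⟩
  · push Not at h2
    obtain ⟨m, hm, h2⟩ := h2
    exact le_antisymm (fun s hs => cen2W (hM hm) h2 ((h.cen s).1 hs _ hm))
      fun s hs => mem_E h hM fun m hm => Z_le_W (cQV hs hm)

end H5.RL
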