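/- RF tower, slot AS: the automorphisms of the Sylow subgroup. -/
import Cfsg.Agent.H5.RFL1

set_option autoImplicit false
set_option linter.unusedSectionVars false
set_option linter.unusedSimpArgs false
set_option linter.unusedVariables false
set_option linter.unnecessarySeqFocus false
set_option linter.unreachableTactic false
set_option linter.unusedTactic false

open Subgroup H63.Oc H90.RF H19.ParTY H55.Oc

universe v

namespace H5.RL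

variable {K : Type*} [Field K] [CharP K 2] {T : TF K} [Finite K] {θ : Co T → Co T}

theorem pr_bot {E : Subgroup (Co T)} (h : Au E θ) : Pr θ ⊥ := fun c hc => by
  rw [mem_bot.1 hc, h.one]; exact one_mem _

theorem pr_cen (h : Au ⊤ θ) {X X0 Y U : Subgroup (Co T)} (p0 : Pr θ X0) (pY : Pr θ Y) (pU : Pr θ U)
    (h0 : X ≤ X0) (h1 : ∀ c ∈ X, ∀ y ∈ Y, cm y c ∈ U) (h2 : ∀ c ∈ X0, (∀ y ∈ Y, cm y c ∈ U) → c ∈ X) :
    Pr θ X := fun c hc => h2 _ (p0 c (h0 hc)) (h.cm_mem' le_top pY pU trivial (h1 c hc))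

theorem cm_Cm {Y U : Subgroup (Co T)} [U.Normal] {c : Co T} (h : ∀ y ∈ Y, cm y c ∈ U) : Cm Y U c :=
  cm_of fun d hd => cm_iff.1 (cm_symm (h d hd))

theorem prZ (h : Au ⊤ θ) : Pr θ (sZ T) := pr_cen h h.mem h.mem (pr_bot h) le_top
  (fun c hc y _ => cm_bot.2 (cSZ hc y)) fun c _ k => (Z_iff c).2 (cm_Cm k)

theorem prW (h : Au ⊤ θ) : Pr θ (sW T) := pr_cen h h.mem h.mem (prZ h) le_top
  (fun c hc y _ => cSW hc y) fun c _ k => W_of_cm (cm_Cm k)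

theorem prA (h : Au ⊤ θ) : Pr θ (sA T) := pr_cen h h.mem h.mem (prW h) le_top
  (fun c hc y _ => cSA hc y) fun c _ k => A_of_cm (cm_Cm k)

theorem prV0 (h : Au ⊤ θ) : Pr θ (sV0 T) := pr_cen h h.mem h.mem (prA h) le_top
  (fun c hc y _ => cSV0 hc y) fun c _ k => V0_of_cm (cm_Cm k)

theorem prQ1 (h : Au ⊤ θ) : Pr θ (sQ1 T) := pr_cen h h.mem (prW h) (pr_bot h) le_top
  (fun c hc y hy => cm_bot.2 (cQ1W hc hy).symm) fun c _ k =>
    cen6 (m := x6 T 1) (x6_mem 1).1 (fun k => one_ne_zero k.2.2.2.2.2.2.2.1)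
      (cm_bot.1 (k _ (x6_mem 1).1)).symm

theorem prD (h : Au ⊤ θ) : Pr θ (sD T) := pr_cen h h.mem (prA h) (pr_bot h) le_top
  (fun c hc y hy => cm_bot.2 (cDA hc hy).symm) fun c _ k => mem_D fun m hm => (cm_bot.1 (k m hm)).symm

theorem prQ8 (h : Au ⊤ θ) : Pr θ (sQ8 T) := pr_cen h h.mem (prA h) (prZ h) le_top
  (fun c hc y hy => cm_symm (cQ8A hc hy)) fun c _ k =>
    cen5Z (m := x5 T 1) (by simp [mem_sA, x5]) one_ne_zero (cm_symm (k _ (by simp [mem_sA, x5])))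

theorem prF0 (h : Au ⊤ θ) : Pr θ (sF0 T) := pr_cen h (prD h) (prV0 h) (pr_bot h)
  (fun c hc => ⟨hc.1, hc.2.1, hc.2.2.2.1⟩)
  (fun c hc y hy => cm_bot.2 (cF0V0 hc hy).symm) fun c ⟨k1, k2, k3⟩ k => by
    have e := cm_bot.1 (k (x3 T 1) (by simp [mem_sV0, x3]))
    have e4 := congrArg Co.a4 e
    have e6 := congrArg Co.a6 e
    simp [x3, k1, k2, k3] at e4 e6
    exact ⟨k1, k2, by grind, k3, by grind⟩

theorem F0_le_Q : sF0 T ≤ sQ T := fun _ h => h.2.2.2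
theorem R_le_F0 : sR T ≤ sF0 T := fun c h => by simp_all [mem_sR, mem_sF0]

theorem prV (h : Au ⊤ θ) : Pr θ (sV T) := pr_cen h (prF0 h) (prF0 h) (prZ h) (V_le_R.trans R_le_F0)
  (fun c hc y hy => cQV (F0_le_Q hy) hc) fun c ⟨k1, k2, k3, k4, k5⟩ k => by
    have e1 := eZ (k (x7 T 1) (by simp [mem_sF0, x7]))
    have e2 := eZ (k (y4 T 1) (by simp [mem_sF0, y4]))
    simp [x7, y4, k1, k2, k3, k4, k5] at e1 e2
    exact ⟨k1, k2, e1, k3, e2, k4, k5⟩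

theorem prQ (h : Au ⊤ θ) : Pr θ (sQ T) := pr_cen h h.mem (prV h) (prZ h) le_top
  (fun c hc y hy => cm_symm (cQV hc hy)) fun c _ k =>
    cenVZ (m := x2 T 1) (by simp [mem_sV, x2]) (fun k => one_ne_zero k.2.2.1)
      (cm_symm (k _ (by simp [mem_sV, x2])))

theorem prR (h : Au ⊤ θ) : Pr θ (sR T) := pr_cen h (prQ h) (prV h) (pr_bot h) R_le_Q
  (fun c hc y hy => cm_bot.2 (H14.Oc.cm_RV hc hy).symm) fun c hc k =>
    H14.Oc.mem_R hc fun m hm => (cm_bot.1 (k m hm)).symm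

theorem prZ5 (h : Au ⊤ θ) : Pr θ (sZ5 T) := pr_cen h (prF0 h) h.mem (prV0 h)
  (fun c hc => by simp_all [mem_sZ5, mem_sF0]) (fun c hc y _ => cSZ5 hc y)
  fun c ⟨k1, k2, k3, k4, k5⟩ k => by
    have e := (eV0 (k (x1 T 1) trivial)).2.1
    simp [x1, k1, k2, k3, k4, k5] at e
    exact ⟨k1, k2, by grind, k3, k4, k5⟩

theorem prA7 (h : Au ⊤ θ) : Pr θ (sA7 T) := pr_cen h (prD h) (prD h) (prW h) A7_le_D
  (fun c hc y hy => cDA7 hy hc) fun c hc k => mem_A7 hc k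

theorem pr_z0 (h : Au ⊤ θ) (i : ℕ) : Pr θ (z0 T i) := by
  unfold z0
  split
  exacts [pr_bot h, prZ h, prW h, prA h, prV0 h, prV h, prZ5 h, prF0 h,
    fun c hc => have k := prD h c ⟨hc.1, hc.2.1, hc.2.2.1⟩
      ⟨k.1, k.2.1, prQ h c hc.2.2⟩,
    (prQ h).inf (prQ1 h), fun c hc => ⟨prQ1 h c hc.1, prQ8 h c hc.2⟩, prQ1 h, h.mem]

/-- `z0` is a central series -/
theorem cen_z0 : ∀ i < 12, ∀ c ∈ z0 T (i + 1), ∀ s, cm s c ∈ z0 T i := by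
  intro i hi c hc s
  interval_cases i
  · exact cm_bot.2 (cSZ hc s)
  · exact cSW hc s
  · exact cSA hc s
  · exact cSV0 hc s
  · exact cSZ5 (V_le_Z5 hc) s
  · exact V0_le_V (cSZ5 hc s)
  · obtain ⟨h1, h2, h3, h4, h5⟩ : c ∈ sF0 T := hc
    refine ⟨?_, ?_, ?_, ?_, ?_, ?_⟩ <;> simp [cm, *] <;> grind
  · obtain ⟨h1, h2, h3, h4⟩ : c ∈ sZ6 T := hc
    refine ⟨?_, ?_, ?_, ?_, ?_⟩ <;> simp [cm, *] <;> grind
  · obtain ⟨⟨h1, h2⟩, h3⟩ : c ∈ sQ T ⊓ sQ1 T := hc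
    have h3 : c.a1 = 0 := h3
    refine ⟨?_, ?_, ?_, ?_⟩ <;> simp [cm, *] <;> grind
  · obtain ⟨h1, h2⟩ : c ∈ sZ7 T := hc
    refine ⟨⟨?_, ?_⟩, show (cm s c).a1 = 0 from ?_⟩ <;> simp [cm, *] <;> grind
  · have h1 : c.a1 = 0 := hc
    refine ⟨?_, ?_⟩ <;> simp [cm, *] <;> grind
  · show (cm s c).a1 = 0
    simp [cm]; grind

theorem a6_of {e f : Co T} (h : e⁻¹ * f ∈ sZ T) : f.a6 = e.a6 := by
  rw [← mul_inv_cancel_left e f, H14.Oc.eq_x4 h]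
  simp [x4]

theorem cg0 (h : Au ⊤ θ) (k : Cg (z8 T) 4 θ id) : Cg (z0 T) 12 θ id := by
  have kZ : ∀ c ∈ sZ T, c⁻¹ * θ c ∈ (⊥ : Subgroup (Co T)) := k 0 (by omega)
  have kV : ∀ c ∈ sV T, c⁻¹ * θ c ∈ sZ T := k 1 (by omega)
  have kR : ∀ c ∈ sR T, c⁻¹ * θ c ∈ sV T := k 2 (by omega)
  have kQ : ∀ c ∈ sQ T, c⁻¹ * θ c ∈ sR T := k 3 (by omega)
  have k5 : ∀ c ∈ sZ5 T, c⁻¹ * θ c ∈ sV T := fun c hc => by
    have h1 := kQ c hc.2.2.2.2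
    have h2 := mul_mem (inv_mem hc) (prZ5 h c hc)
    generalize c⁻¹ * θ c = d at h1 h2
    simp_all [mem_sV, mem_sR, mem_sZ5]
  have kc : ∀ c, ∀ m ∈ sV T, θ (cm c m) = cm (θ c) m := fun c m hm => by
    have := cSZ (kV m hm)
    rw [h.cm trivial trivial, ← mul_inv_cancel_left m (θ m)]
    generalize m⁻¹ * θ m = x at this
    rw [cm, cm, mul_inv_rev, ← mul_assoc (θ c), mul_assoc _ x, ← this, ← mul_assoc (θ c * m), ← mul_assoc _ _ x,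
      this, mul_assoc x⁻¹, mul_inv_cancel_left]
  have mV : ∀ c, ∀ m ∈ sV T, cm c m ∈ sV T := fun c m hm => mul_mem (inv_mem hm) (H14.Oc.cjV hm c)
  have k6 : ∀ c, ∀ m ∈ sV T, (cm (θ c) m).a6 = (cm c m).a6 := fun c m hm => by
    rw [← kc c m hm]; exact a6_of (kV _ (mV c m hm))
  intro i hi c hc
  show c⁻¹ * θ c ∈ _
  interval_cases i
  · exact kZ c hc
  · exact kV c (W_le_V hc)
  · exact Z_le_W (kV c (A_le_V hc))
  · exact Z_le_A (kV c (V0_le_V hc))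
  · exact A_le_V0 (Z_le_A (kV c hc))
  · exact k5 c hc
  · have m7 : x7 T c.a7 ∈ sA7 T := by simp [mem_sA7, x7]
    have mR : (x7 T c.a7)⁻¹ * c ∈ sR T := by
      obtain ⟨h1, h2, h3, h4, h5⟩ : c ∈ sF0 T := hc
      refine ⟨?_, ?_, ?_, ?_, ?_, ?_⟩ <;> simp [x7, *] <;> grind
    have e1 := k5 _ (A7_le_Z5 m7)
    have e2 := kR _ mR
    rw [← mul_inv_cancel_left (x7 T c.a7) c, h.mul _ trivial _ trivial]
    generalize (x7 T c.a7)⁻¹ * c = r at e2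
    generalize x7 T c.a7 = x at e1
    refine V_le_Z5 ?_
    rw [show (x * r)⁻¹ * (θ x * θ r) = r⁻¹ * (x⁻¹ * θ x) * r⁻¹⁻¹ * (r⁻¹ * θ r) by group]
    exact mul_mem (H14.Oc.cjV e1 _) e2
  · exact R_le_F0 (kQ c hc.2.2)
  · have := kQ c hc.1
    exact ⟨this.1, this.2.1, this.2.2.2.2⟩
  · obtain ⟨h1, h2⟩ : c ∈ sZ7 T := hc
    have h3 : (θ c).a1 = 0 := prQ1 h c h1
    have h4 : (θ c).b8 = 0 := prQ8 h c h2
    have e := k6 c (x3 T 1) (by simp [mem_sV, x3])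
    have e' : ∀ d : Co T, d.a1 = 0 → d.b8 = 0 → (cm d (x3 T 1)).a6 = d.a8 := fun d d1 d2 => by
      simp [cm, x3, d1, d2, T.sq]; grind
    rw [e' _ h1 h2, e' _ h3 h4] at e
    refine ⟨⟨?_, ?_⟩, show (c⁻¹ * θ c).a1 = 0 from ?_⟩ <;> simp [*] <;> grind
  · have h1 : c.a1 = 0 := hc
    have h3 : (θ c).a1 = 0 := prQ1 h c h1
    have e := k6 c (x5 T 1) (by simp [mem_sV, x5])
    have e' : ∀ d : Co T, d.a1 = 0 → (cm d (x5 T 1)).a6 = d.b8 := fun d d1 => by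
      simp [cm, x5, d1, T.sq]; grind
    rw [e' _ h1, e' _ h3] at e
    refine ⟨?_, ?_⟩ <;> simp [*] <;> grind
  · have e' : ∀ d : Co T, cm d (x6 T 1) = x4 T d.a1 := fun d =>
      cm_eq (by ext <;> simp [x6, x4] <;> grind)
    have e := kc c (x6 T 1) (by simp [mem_sV, x6])
    rw [e', e', ← inv_mul_eq_one.1 (mem_bot.1 (kZ _ (H14.Oc.x4_mem c.a1)))] at e
    have e2 : c.a1 = (θ c).a1 := congrArg Co.a4 e
    show (c⁻¹ * θ c).a1 = 0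
    simp [← e2]; grind

theorem jobAS : JobAS.{v} := by
  intro K _ _ _ T h8 b8 θ h
  refine ⟨pr_z0 h, ?_, ?_⟩
  · simp only [List.forall_mem_cons, List.not_mem_nil, false_imp_iff, implies_true, and_true]
    exact ⟨prQ h, prR h, prA7 h, prD h, prQ8 h⟩
  obtain ⟨u, -, hu⟩ := (h8 θ (h.restrict le_top (prQ h))).2.2 (prF0 h)
  have hβ : Au ⊤ fun c => u⁻¹ * θ c * u := by
    simpa using (au_conj (X := ⊤) (s := u⁻¹) (nor_of_normal _)).comp h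
  obtain ⟨p, φ, hp⟩ := b8 _ (hβ.restrict le_top (prQ hβ)) (prF0 hβ) hu
  have hη := (au_sd (T := T) (ap φ⁻¹ p⁻¹) φ⁻¹).comp hβ
  have hz : ∀ i ≤ 4, z8 T i ≤ ⊤ := fun _ _ => le_top
  have k1 := cg0 hη ((hp.comp_left (au_sd (ap φ⁻¹ p⁻¹) φ⁻¹) (pr_sd_z8 _ _) hz (fun _ _ => trivial)
    fun _ _ => trivial).congr hz (fun _ _ => rfl) fun c _ => sd_inv p φ c)
  have hz0 : ∀ i ≤ 12, z0 T i ≤ ⊤ := fun _ _ => le_top
  have k2 := (k1.comp_left (au_sd p φ) (pr_sd_z0 _ _) hz0 (fun _ _ => trivial)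
    fun _ _ => trivial).congr hz0 (fun c _ => sd_inv' p φ _) fun c _ => rfl
  refine ⟨p, φ, Cg.trans (fun i hi c hc => ?_) k2⟩
  have := inv_mem (cen_z0 i hi _ (pr_z0 h _ c hc) u⁻¹)
  simpa [cm, mul_assoc] using this

end H5.RL
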