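/- RF tower, slots L0a and L0b. -/
import Cfsg.Agent.H5.RFL

set_option autoImplicit false
set_option linter.unusedSectionVars false
set_option linter.unusedSimpArgs false
set_option linter.unusedVariables false
set_option linter.unnecessarySeqFocus false
set_option linter.unreachableTactic false
set_option linter.unusedTactic false

open Subgroup H63.Oc H90.RF H19.ParTY H55.Oc

universe v

namespace H5.RL

variable {K : Type*} [Field K] [CharP K 2] {T : TF K} [Finite K] {E M : Subgroup (Co T)}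

theorem cen0 (h : Bc (zA T) 0 E M) {s m : Co T} (hs : s ∈ E) (hm : m ∈ M) : s * m = m * s :=
  cm_bot.1 ((h.cen s).1 hs m hm)

theorem mem0 (h : Bc (zA T) 0 E M) {s : Co T} (k : ∀ m ∈ M, s * m = m * s) : s ∈ E :=
  (h.cen s).2 fun m hm => cm_bot.2 (k m hm)

theorem sq0 (h : Bc (zA T) 0 E M) {m : Co T} (hm : m ∈ M) : m * m = 1 := mem_bot.1 (h.sq m hm)

theorem notZ0 (h : Bc (zA T) 0 E M) : ¬ M ≤ sZ T := h.not_le fun c hc s => cm_bot.2 (cSZ hc s)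

theorem no_x1 (h : Bc (zA T) 0 E M) {a : K} (ha : a ≠ 0) (hm : x1 T a ∈ M) : False := by
  have e1 : ∀ s ∈ E, s.b4 = 0 ∧ s.b6 = 0 ∧ s.a7 = 0 ∧ s.b8 = 0 ∧ s.a8 = 0 ∧ s.a6 = 0 := fun s hs => by
    have k := cen0 h hs hm
    obtain ⟨k1, k2, k3, k4, k5⟩ := cen1Z ha (cm_of_comm k)
    have k6 := congrArg Co.a4 k
    exact ⟨k1, k2, k3, k4, k5, by simp [x1, k1, k2, k3, k4, k5] at k6; grind⟩
  have e2 : ∀ s ∈ sV T, s.a5 = 0 → s.a6 = 0 → s ∈ E := fun s hs h5 h6 => mem0 h fun m hm => by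
    obtain ⟨k1, k2, k3, k4, k5, k6⟩ := e1 m (h.ME hm)
    have := cQV' (s := m) ⟨k4, k5⟩ hs
    rw [h5, h6, k2, k3, mul_zero, mul_zero, zero_mul, zero_mul, add_zero, add_zero, add_zero] at this
    exact (cm_eq_one.1 this).symm
  have hN : sR T ≤ normalizer (E : Set (Co T)) := le_nor fun s hs c hc => by
    obtain ⟨k1, k2, k3, k4, k5, k6⟩ := e1 c hc
    refine e2 _ (cQQ (R_le_Q hs) ⟨k4, k5⟩) ?_ ?_ <;>
      obtain ⟨h1, h2, h3, h4, h5, h6⟩ := hs <;> simp [cm, *] <;> grind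
  refine h.no2 hN (fun x hx => ?_) (s := x6 T 1) (hN (by simp [mem_sR, x6]))
    (fun k => one_ne_zero (e1 _ k).2.2.2.2.2) (fun x y => y4 T x * x6 T y) (x4 T)
    (fun x y => by simp [mem_sR, x6, y4]) (fun x y x' y' k => ?_)
    fun m _ => covZ (cm_symm (cSW (by simp [mem_sW, x6]) m))
  · refine e2 _ (sqQ (R_le_Q hx)) ?_ ?_ <;>
      obtain ⟨h1, h2, h3, h4, h5, h6⟩ := hx <;> simp [*] <;> grind
  · obtain ⟨k1, -, -, -, -, k6⟩ := e1 _ k
    simp [y4, x6] at k1 k6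
    constructor <;> grind

theorem a1_0 (h : Bc (zA T) 0 E M) {m : Co T} (hm : m ∈ M) : m.a1 = 0 := by
  by_contra h1
  obtain ⟨s, e⟩ := inv_x1 (sq0 h hm) h1
  exact no_x1 (h.conj nzA s) h1 (e ▸ conj_mem_cjS.2 hm)

theorem kill6 (h : Bc (zA T) 0 E M) (hM : M ≤ sV6 T) {s : Co T} (hs : s ∈ sB6 T)
    (hN : s ∈ normalizer (E : Set (Co T))) (hp : ∀ β, Au E β → Pr β (sX6 T)) : s ∈ E :=
  have k : sX6 T ≤ sV6 T := fun c hc => by simp_all [mem_sV6, sX6, mem_sW]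
  h.red (sX6 T) bot_le (fun c hc => mem0 h fun m hm => cV6V6 (k hc) (hM hm)) (fun β hβ => hp β hβ.1) s hN
    (fun m hm => cB6V6 hs (hM hm)) fun m _ hm => cm_bot.2 (cQ1W hs.1 hm.1)

theorem no_x8 (h : Bc (zA T) 0 E M) {v a : K} (ha : a ≠ 0) (hm : x4 T v * x8 T a ∈ M) : False := by
  have hE : E ≤ sT8 T := fun s hs => cen8Z ha (cm_of_comm (cen0 h hs hm))
  have hM : M ≤ sV6 T := fun m hm => inv_T8 (hE (h.ME hm)) (sq0 h hm)
  obtain ⟨rfl, hN⟩ := full8 h hM hE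
  exact one_ne_zero (kill6 h hM (s := x3 T 1) ⟨rfl, rfl, rfl⟩ hN fun β => pr8).2.2.2

theorem a8_0 (h : Bc (zA T) 0 E M) {m : Co T} (hm : m ∈ M) : m.a8 = 0 := by
  by_contra h1
  obtain ⟨s, v, e⟩ := inv_x8 (sq0 h hm) h1
  exact no_x8 (h.conj nzA s) h1 (e ▸ conj_mem_cjS.2 hm)

theorem no_x7 (h : Bc (zA T) 0 E M) (hM : M ≤ sA7 T) {a : K} (ha : a ≠ 0) (hm : x7 T a ∈ M) : False := by
  have hE : E ≤ sT7 T := fun s hs => cen7 ha (cen0 h hs hm)
  by_cases h3 : ∀ m ∈ M, m.a3 = 0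
  · have hM' : M ≤ sV6 T := fun m hm => by
      have := h3 m hm
      have := hM hm
      simp_all [mem_sV6, mem_sA7]
    obtain ⟨rfl, hN⟩ := full7 h hM' hE
    exact one_ne_zero (kill6 h hM' (s := y4 T 1) ⟨rfl, rfl, rfl⟩ hN fun β => pr7).2.2.2
  · push Not at h3
    obtain ⟨m, hm', h3⟩ := h3
    obtain rfl : E = sA7 T := by
      refine le_antisymm (fun s hs => ?_) fun s hs => mem0 h fun m hm => cA7A7 hs (hM hm)
      obtain ⟨k1, k2, k3, k4⟩ := hE hs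
      obtain ⟨h1, h2, h4, h5, h6, h7, h8⟩ := hM hm'
      have k := cen0 h hs hm'
      have e4 := congrArg Co.a4 k
      have e5 := congrArg Co.a5 k
      have e6 := congrArg Co.a6 k
      clear k
      have k5 : s.b8 = 0 := sg_zero (T := T) (by simp [*] at e5; grind)
      exact ⟨k1, k2, k3, k4, by simp [*] at e4; grind, k5, by simp [*] at e6; grind⟩
    refine h.no2 (B := sF0 T) (fun s _ => nor_of_normal s) (fun x hx => ?_) (s := x2 T 1)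
      (nor_of_normal _) (fun k => one_ne_zero k.2.2.1) (fun x y => x2 T x * y4 T y) (x4 T)
      (fun x y => by simp [mem_sF0, x2, y4]) (fun x y x' y' k => ?_)
      fun m hm => covZ (cm_symm (cQV (by have := hM hm; simp_all [mem_sQ, mem_sA7]) (by simp [mem_sV, x2])))
    · obtain ⟨h1, h2, h3, h4, h5⟩ := hx
      refine ⟨?_, ?_, ?_, ?_, ?_, ?_, ?_⟩ <;> simp [*] <;> grind
    · obtain ⟨-, -, k1, k2, -⟩ := k
      simp [y4, x2] at k1 k2
      constructor <;> grind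

theorem jobL0a : JobL0a.{v} := by
  intro K _ _ _ T E M h
  refine (le_or_le fun m hm => inv_VA (sq0 h hm) (a1_0 h hm) (a8_0 h hm)).elim id fun hM m hm => ?_
  by_contra hV
  have h7 : m.a7 ≠ 0 := fun e => hV (by have := hM hm; simp_all [mem_sV, mem_sA7])
  obtain ⟨s, -, e⟩ := inv_x7 (hM hm) h7
  exact no_x7 (h.conj nzA s) (cjS_le s hM) h7 (e ▸ conj_mem_cjS.2 hm)

theorem cm_y4 (t : K) {d : Co T} (hd : d ∈ sQ T) : cm (y4 T t) d ∈ sV T ∧ (cm (y4 T t) d).a2 = t * d.a1 ∧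
    (cm (y4 T t) d).a3 = t * d.b2 ∧ (cm (y4 T t) d).a5 = t * d.b6 ∧ (cm (y4 T t) d).a6 = t * d.a7 := by
  refine ⟨cQQ ⟨rfl, rfl⟩ hd, ?_, ?_, ?_, ?_⟩ <;> simp [cm, y4, hd.1, hd.2, T.sq] <;> grind

theorem le_A0 (h : Bc (zA T) 0 E M) (hM : M ≤ sV T) : M ≤ sA T := fun m hm => by
  by_contra hA
  have hE : E ≤ sQ T := fun s hs => cenVZ (hM hm) hA (cm_of_comm (cen0 h hs hm))
  have hR : sR T ≤ E := fun s hs => mem0 h fun m hm => H14.Oc.cm_RV hs (hM hm)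
  have hN : sQ T ≤ normalizer (E : Set (Co T)) :=
    le_nor fun s hs c hc => hR (V_le_R (cQQ hs (hE hc)))
  have mX : ∀ s, s ∈ sQ T ⊓ centralizer {m} ↔
      s ∈ sQ T ∧ s.a1 * m.a6 + s.b2 * m.a5 + s.b6 * m.a3 + s.a7 * m.a2 = 0 := fun s => by
    rw [mem_inf, mem_centralizer_singleton_iff, ← cm_eq_one]
    refine and_congr_right fun hs => ?_
    rw [cQV' hs (hM hm)]
    exact ⟨fun e => congrArg Co.a4 e, fun e => by rw [e]; rfl⟩
  have key : ∀ f : K → Co T, (∀ t, f t ∈ sQ T) →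
      (∀ x y, (f x)⁻¹ * f y ∈ sQ T ⊓ centralizer {m} → x = y) → f 1 ∉ sQ T ⊓ centralizer {m} →
      ∀ c ∈ sQ T ⊓ centralizer {m}, ∀ d ∈ sQ T ⊓ centralizer {m},
      c.a1 * d.a7 + c.b2 * d.b6 + c.b6 * d.b2 + c.a7 * d.a1 = 1 → False := by
    intro f hf inj h1 c hc d hd e
    have hX : E ≤ sQ T ⊓ centralizer {m} := fun s hs =>
      ⟨hE hs, mem_centralizer_singleton_iff.2 (cen0 h hs hm)⟩
    have eq := h.full hN (fun x hx => hR (V_le_R (sqQ hx))) (hN (hf 1)) (fun k => h1 (hX k)) hX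
      inf_le_left f (x4 T) hf inj fun m hm => covZ (cQV (hf 1) (hM hm))
    refine notZ0 h (h.min (X := sZ T) le_rfl fun β hβ => pr_g3 hβ.1
      (fun c hc d hd => cQQ (hE hc) (hE hd)) (fun c hc y hy => cQV (hE hc) hy) fun x hx =>
        ⟨c, eq ▸ hc, y4 T x.a4, hR (by simp [mem_sR, y4]), d, eq ▸ hd, ?_⟩)
    obtain ⟨k1, k2, k3, k4, k5⟩ := cm_y4 x.a4 hd.1
    rw [cQV' hc.1 k1, k2, k3, k4, k5, show c.a1 * (x.a4 * d.a7) + c.b2 * (x.a4 * d.b6) +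
      c.b6 * (x.a4 * d.b2) + c.a7 * (x.a4 * d.a1) = x.a4 by linear_combination x.a4 * e]
    exact H14.Oc.eq_x4 hx
  by_cases h2 : m.a2 = 0
  · have h3 : m.a3 ≠ 0 := fun e => hA (by have := hM hm; simp_all [mem_sA, mem_sV])
    refine key (y6 T) (fun t => ⟨rfl, rfl⟩) (fun x y k => ?_) (fun k => ?_)
      ⟨1, 0, 0, 0, 0, 0, 0, m.a6 / m.a3, 0, 0, 0, 0⟩ ((mX _).2 ⟨⟨rfl, rfl⟩, ?_⟩) (x7 T 1)
      ((mX _).2 ⟨⟨rfl, rfl⟩, by simp [x7, h2]⟩) (by simp [x7])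
    · have := ((mX _).1 k).2
      simp [y6, h3] at this; grind
    · have := ((mX _).1 k).2
      simp [y6, h3] at this
    · simp [h3]; grind
  · refine key (x7 T) (fun t => ⟨rfl, rfl⟩) (fun x y k => ?_) (fun k => ?_)
      ⟨0, 1, 0, 0, 0, 0, 0, 0, 0, m.a5 / m.a2, 0, 0⟩ ((mX _).2 ⟨⟨rfl, rfl⟩, ?_⟩)
      ⟨0, 0, 0, 0, 0, 0, 0, 1, 0, m.a3 / m.a2, 0, 0⟩ ((mX _).2 ⟨⟨rfl, rfl⟩, ?_⟩) (by simp)
    · have := ((mX _).1 k).2
      simp [x7, h2] at this; grind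
    · have := ((mX _).1 k).2
      simp [x7, h2] at this
    · simp [h2]; grind
    · simp [h2]; grind

theorem no_x5 (h : Bc (zA T) 0 E M) (hM : M ≤ sA T) {m : Co T} (hm : m ∈ M) (h5 : m.a5 ≠ 0)
    (h6 : m.a6 = 0) : False := by
  have cA : ∀ s ∈ E, ∀ m ∈ M, s.b8 = 0 → s.a1 * m.a6 + s.b2 * m.a5 = 0 := fun s hs m hm h8 => by
    obtain ⟨h1, h2, h3, h4, h5, h6, h7, h8, h9⟩ := hM hm
    have k := congrArg Co.a4 (cen0 h hs hm)
    simp [*] at k; grind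
  have hE : E ≤ sT5 T := fun s hs => by
    have k := cen5Z (hM hm) h5 (cm_of_comm (cen0 h hs hm))
    have := cA s hs m hm k
    exact ⟨by simpa [h5, h6] using this, k⟩
  by_cases h6' : ∀ m ∈ M, m.a6 = 0
  · obtain rfl : E = sT5 T := by
      refine le_antisymm hE fun s ⟨k1, k2⟩ => mem0 h fun m hm => ?_
      obtain ⟨h1, h2, h3, h4, h5, h6, h7, h8, h9⟩ := hM hm
      have := h6' m hm
      ext <;> simp [*] <;> grind
    refine notZ0 h (h.gen_le fun β hβ u hu hb => ?_)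
    have hu' : u ∈ sZ T := hu
    by_cases b5 : (β u).a5 = 0
    · have := h6' _ hb
      have := hM hb
      simp_all [mem_sZ, mem_sA]
    · obtain ⟨c, c8, c2, e⟩ := four_A (hM hb) b5
      obtain ⟨d, hd, rfl⟩ := hβ.1.sur c ⟨c2 (h6' _ hb), c8⟩
      have d2 := mul_mem hd hd
      rw [← hβ.1.mul d hd d hd, ← hβ.1.mul _ d2 _ d2] at e
      have e' := hβ.1.eq (mul_mem d2 d2) (h.ME (h.le hu)) e
      rw [← e', (four_Z hd.2 (e' ▸ hu'.2.2.2.2.2.1) (e' ▸ Z_le_A hu')).2 hd.1, hβ.1.one]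
      exact one_mem _
  · push Not at h6'
    obtain ⟨m', hm', h6'⟩ := h6'
    obtain rfl : E = sD T := by
      refine le_antisymm (fun s hs => ?_) fun s hs => mem0 h fun m hm => cDA hs (hM hm)
      obtain ⟨k1, k2⟩ := hE hs
      have := cA s hs m' hm' k2
      exact ⟨by simpa [k1, h6'] using this, k1, k2⟩
    refine h.no2 (B := sQ8 T) (fun s _ => nor_of_normal s) (fun x hx => sqQ8 hx) (s := x1 T 1)
      (nor_of_normal _) (fun k => one_ne_zero k.1) (fun x y => x1 T x * y2 T y) (x4 T)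
      (fun x y => by simp [mem_sQ8, x1, y2]) (fun x y x' y' k => ?_)
      fun m hm => covZ (cQ8A rfl (hM hm))
    obtain ⟨k1, k2, -⟩ := k
    simp [x1, y2] at k1 k2
    constructor <;> grind

theorem jobL0b : JobL0b.{v} := by
  intro K _ _ _ T E M h hM
  have hA := le_A0 h hM
  have hW : M ≤ sW T := fun m hm => by
    by_contra hW
    have h5 : m.a5 ≠ 0 := fun e => hW (by have := hA hm; simp_all [mem_sA, mem_sW])
    obtain ⟨t, ht⟩ : ∃ t, m.a6 = t * m.a5 := ⟨m.a6 / m.a5, by field_simp⟩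
    obtain ⟨h1, h2, h3, h4, h5, h6, h7, h8, h9⟩ := hA hm
    refine no_x5 (h.conj nzA (y8 T t)) (cjS_le _ hA) (conj_mem_cjS.2 hm) ?_ ?_ <;>
      simp [y8, *] <;> grind
  obtain ⟨m, hm, hZ⟩ := SetLike.not_le_iff_exists.1 (notZ0 h)
  exact le_antisymm (fun s hs => cen6 (hW hm) hZ (cen0 h hs hm))
    fun s hs => mem0 h fun m hm => cQ1W hs (hW hm)

end H5.RL
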