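/- The automizer of `Q` over the field with two elements contains a conjugate of `n₈`. -/
import Cfsg.Agent.H5.R3E
import Cfsg.Agent.H90.RFKit2
import Cfsg.Agent.Rz.H5_R3_Ex_ev_eq_def

set_option autoImplicit false
set_option linter.unusedSectionVars false
set_option linter.unusedSimpArgs false

namespace H5.QA
open H63.Oc H65.PA H5.R3 Subgroup
open H90.RF (Tri Cg Pr A8 G8 N8 z8 cjY JobQa exists_cjY)

universe v

/-- the value of a word -/
def wv (f : ℕ → Ex) (w : List ℕ) : Ex := w.foldr (fun i e => f i * e) (.c 0)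
/-- constants -/
def cs (p : List ℕ) (i : ℕ) : Ex := .c (p.getD i 0)
/-- the variable and constants -/
def vs (p : List ℕ) : ℕ → Ex
  | 0 => .v
  | i + 1 => cs p i
/-- relations -/
def rels (f : ℕ → Ex) (RL : List (List ℕ × List ℕ)) : Fm := Fm.all RL fun r => .eq (wv f r.1) (wv f r.2)
/-- a necessary condition for membership in `R` -/
def inR (a : Ex) : Fm := .and (inQ a) (Fm.all [4, 8, 64, 256] fun b => cm a (.c b))

/-- one step of the search -/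
def lev (ti : ℕ) (RL : List (List ℕ × List ℕ)) (W : List ℕ) (P P' : List (List ℕ)) : Fm :=
  (inR (.c ti * .v)).imp <| Fm.all P fun p => (rels (vs p) RL).imp <| Fm.ex W fun w =>
    .and (.and (inQ (.c w)) (Fm.all p fun b => cm (.c w) (.c b)))
      (Fm.ex (P'.filter fun p' => p'.tail == p) fun p' => .eq (.c w * .v) (cs p' 0 * .c w))

/-- the standard generators satisfy the relations -/
def std (a ti : ℕ) (g : List ℕ) (RL : List (List ℕ × List ℕ)) : Fm :=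
  .and (.and (inQ (.c a)) (.eq (.n8 (.c a) * .c ti) (.c 0))) (rels (cs (a :: g)) RL)

def P1 : List (List ℕ) := [[16, 32], [48, 32]]
def P2 : List (List ℕ) := [[128, 16, 32], [132, 16, 32], [136, 16, 32], [140, 16, 32], [144, 16, 32], [148, 16, 32], [152, 16,
   32], [156, 16, 32], [384, 16, 32], [388, 16, 32], [392, 16, 32], [396, 16, 32], [400, 16, 32],
   [404, 16, 32], [408, 16, 32], [412, 16, 32], [128, 48, 32], [132, 48, 32], [136, 48, 32], [140,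
   48, 32], [144, 48, 32], [148, 48, 32], [152, 48, 32], [156, 48, 32], [384, 48, 32], [388, 48,
   32], [392, 48, 32], [396, 48, 32], [400, 48, 32], [404, 48, 32], [408, 48, 32], [412, 48, 32]]
def P3 : List (List ℕ) := [[2, 128, 16, 32], [6, 128, 16, 32], [66, 128, 16, 32], [70, 128, 16, 32], [258, 128, 16, 32], [262,
   128, 16, 32], [322, 128, 16, 32], [326, 128, 16, 32], [2, 132, 16, 32], [6, 132, 16, 32], [66,
   132, 16, 32], [70, 132, 16, 32], [258, 132, 16, 32], [262, 132, 16, 32], [322, 132, 16, 32],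
   [326, 132, 16, 32], [2, 136, 16, 32], [6, 136, 16, 32], [66, 136, 16, 32], [70, 136, 16, 32],
   [258, 136, 16, 32], [262, 136, 16, 32], [322, 136, 16, 32], [326, 136, 16, 32], [2, 140, 16, 32],
   [6, 140, 16, 32], [66, 140, 16, 32], [70, 140, 16, 32], [258, 140, 16, 32], [262, 140, 16, 32],
   [322, 140, 16, 32], [326, 140, 16, 32], [2, 384, 16, 32], [6, 384, 16, 32], [66, 384, 16, 32],
   [70, 384, 16, 32], [258, 384, 16, 32], [262, 384, 16, 32], [322, 384, 16, 32], [326, 384, 16,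
   32], [2, 388, 16, 32], [6, 388, 16, 32], [66, 388, 16, 32], [70, 388, 16, 32], [258, 388, 16,
   32], [262, 388, 16, 32], [322, 388, 16, 32], [326, 388, 16, 32], [2, 392, 16, 32], [6, 392, 16,
   32], [66, 392, 16, 32], [70, 392, 16, 32], [258, 392, 16, 32], [262, 392, 16, 32], [322, 392, 16,
   32], [326, 392, 16, 32], [2, 396, 16, 32], [6, 396, 16, 32], [66, 396, 16, 32], [70, 396, 16,
   32], [258, 396, 16, 32], [262, 396, 16, 32], [322, 396, 16, 32], [326, 396, 16, 32], [2, 128, 48,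
   32], [6, 128, 48, 32], [66, 128, 48, 32], [70, 128, 48, 32], [258, 128, 48, 32], [262, 128, 48,
   32], [322, 128, 48, 32], [326, 128, 48, 32], [2, 132, 48, 32], [6, 132, 48, 32], [66, 132, 48,
   32], [70, 132, 48, 32], [258, 132, 48, 32], [262, 132, 48, 32], [322, 132, 48, 32], [326, 132,
   48, 32], [2, 136, 48, 32], [6, 136, 48, 32], [66, 136, 48, 32], [70, 136, 48, 32], [258, 136, 48,
   32], [262, 136, 48, 32], [322, 136, 48, 32], [326, 136, 48, 32], [2, 140, 48, 32], [6, 140, 48,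
   32], [66, 140, 48, 32], [70, 140, 48, 32], [258, 140, 48, 32], [262, 140, 48, 32], [322, 140, 48,
   32], [326, 140, 48, 32], [2, 384, 48, 32], [6, 384, 48, 32], [66, 384, 48, 32], [70, 384, 48,
   32], [258, 384, 48, 32], [262, 384, 48, 32], [322, 384, 48, 32], [326, 384, 48, 32], [2, 388, 48,
   32], [6, 388, 48, 32], [66, 388, 48, 32], [70, 388, 48, 32], [258, 388, 48, 32], [262, 388, 48,
   32], [322, 388, 48, 32], [326, 388, 48, 32], [2, 392, 48, 32], [6, 392, 48, 32], [66, 392, 48,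
   32], [70, 392, 48, 32], [258, 392, 48, 32], [262, 392, 48, 32], [322, 392, 48, 32], [326, 392,
   48, 32], [2, 396, 48, 32], [6, 396, 48, 32], [66, 396, 48, 32], [70, 396, 48, 32], [258, 396, 48,
   32], [262, 396, 48, 32], [322, 396, 48, 32], [326, 396, 48, 32]]
def P4 : List (List ℕ) := [[512, 2, 128, 16, 32], [768, 2, 128, 16, 32], [576, 6, 128, 16, 32], [832, 6, 128, 16, 32], [512,
   66, 128, 16, 32], [768, 66, 128, 16, 32], [576, 70, 128, 16, 32], [832, 70, 128, 16, 32], [512,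
   258, 128, 16, 32], [768, 258, 128, 16, 32], [576, 262, 128, 16, 32], [832, 262, 128, 16, 32],
   [512, 322, 128, 16, 32], [768, 322, 128, 16, 32], [576, 326, 128, 16, 32], [832, 326, 128, 16,
   32], [520, 2, 132, 16, 32], [776, 2, 132, 16, 32], [584, 6, 132, 16, 32], [840, 6, 132, 16, 32],
   [520, 66, 132, 16, 32], [776, 66, 132, 16, 32], [584, 70, 132, 16, 32], [840, 70, 132, 16, 32],
   [520, 258, 132, 16, 32], [776, 258, 132, 16, 32], [584, 262, 132, 16, 32], [840, 262, 132, 16,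
   32], [520, 322, 132, 16, 32], [776, 322, 132, 16, 32], [584, 326, 132, 16, 32], [840, 326, 132,
   16, 32], [512, 2, 384, 16, 32], [768, 2, 384, 16, 32], [576, 6, 384, 16, 32], [832, 6, 384, 16,
   32], [512, 66, 384, 16, 32], [768, 66, 384, 16, 32], [576, 70, 384, 16, 32], [832, 70, 384, 16,
   32], [512, 258, 384, 16, 32], [768, 258, 384, 16, 32], [576, 262, 384, 16, 32], [832, 262, 384,
   16, 32], [512, 322, 384, 16, 32], [768, 322, 384, 16, 32], [576, 326, 384, 16, 32], [832, 326,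
   384, 16, 32], [520, 2, 388, 16, 32], [776, 2, 388, 16, 32], [584, 6, 388, 16, 32], [840, 6, 388,
   16, 32], [520, 66, 388, 16, 32], [776, 66, 388, 16, 32], [584, 70, 388, 16, 32], [840, 70, 388,
   16, 32], [520, 258, 388, 16, 32], [776, 258, 388, 16, 32], [584, 262, 388, 16, 32], [840, 262,
   388, 16, 32], [520, 322, 388, 16, 32], [776, 322, 388, 16, 32], [584, 326, 388, 16, 32], [840,
   326, 388, 16, 32], [512, 2, 128, 48, 32], [768, 2, 128, 48, 32], [576, 6, 128, 48, 32], [832, 6,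
   128, 48, 32], [512, 66, 128, 48, 32], [768, 66, 128, 48, 32], [576, 70, 128, 48, 32], [832, 70,
   128, 48, 32], [512, 258, 128, 48, 32], [768, 258, 128, 48, 32], [576, 262, 128, 48, 32], [832,
   262, 128, 48, 32], [512, 322, 128, 48, 32], [768, 322, 128, 48, 32], [576, 326, 128, 48, 32],
   [832, 326, 128, 48, 32], [520, 2, 132, 48, 32], [776, 2, 132, 48, 32], [584, 6, 132, 48, 32],
   [840, 6, 132, 48, 32], [520, 66, 132, 48, 32], [776, 66, 132, 48, 32], [584, 70, 132, 48, 32],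
   [840, 70, 132, 48, 32], [520, 258, 132, 48, 32], [776, 258, 132, 48, 32], [584, 262, 132, 48,
   32], [840, 262, 132, 48, 32], [520, 322, 132, 48, 32], [776, 322, 132, 48, 32], [584, 326, 132,
   48, 32], [840, 326, 132, 48, 32], [512, 2, 384, 48, 32], [768, 2, 384, 48, 32], [576, 6, 384, 48,
   32], [832, 6, 384, 48, 32], [512, 66, 384, 48, 32], [768, 66, 384, 48, 32], [576, 70, 384, 48,
   32], [832, 70, 384, 48, 32], [512, 258, 384, 48, 32], [768, 258, 384, 48, 32], [576, 262, 384,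
   48, 32], [832, 262, 384, 48, 32], [512, 322, 384, 48, 32], [768, 322, 384, 48, 32], [576, 326,
   384, 48, 32], [832, 326, 384, 48, 32], [520, 2, 388, 48, 32], [776, 2, 388, 48, 32], [584, 6,
   388, 48, 32], [840, 6, 388, 48, 32], [520, 66, 388, 48, 32], [776, 66, 388, 48, 32], [584, 70,
   388, 48, 32], [840, 70, 388, 48, 32], [520, 258, 388, 48, 32], [776, 258, 388, 48, 32], [584,
   262, 388, 48, 32], [840, 262, 388, 48, 32], [520, 322, 388, 48, 32], [776, 322, 388, 48, 32],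
   [584, 326, 388, 48, 32], [840, 326, 388, 48, 32]]
/-- the automorphisms congruent to `n₈`, modulo inner ones -/
def LT : List (Tw ℕ) := [⟨512, 128, 256, 64, 16, 32, 8, 2, 4, 1, 0, 0⟩, ⟨768, 128, 256, 64, 16, 32, 8, 2, 4, 5, 0, 0⟩, ⟨576,
   128, 256, 64, 16, 32, 8, 6, 4, 1, 0, 0⟩, ⟨832, 128, 256, 64, 16, 32, 8, 6, 4, 5, 0, 0⟩, ⟨512,
   128, 256, 64, 16, 32, 8, 258, 4, 65, 0, 0⟩, ⟨768, 128, 256, 64, 16, 32, 8, 258, 4, 69, 0, 0⟩,
   ⟨576, 128, 256, 64, 16, 32, 8, 262, 4, 65, 0, 0⟩, ⟨832, 128, 256, 64, 16, 32, 8, 262, 4, 69, 0,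
   0⟩, ⟨520, 132, 256, 64, 16, 32, 8, 2, 4, 1, 0, 0⟩, ⟨776, 132, 256, 64, 16, 32, 8, 2, 4, 5, 0, 0⟩,
   ⟨584, 132, 256, 64, 16, 32, 8, 6, 4, 1, 0, 0⟩, ⟨840, 132, 256, 64, 16, 32, 8, 6, 4, 5, 0, 0⟩,
   ⟨520, 132, 256, 64, 16, 32, 8, 258, 4, 65, 0, 0⟩, ⟨776, 132, 256, 64, 16, 32, 8, 258, 4, 69, 0,
   0⟩, ⟨584, 132, 256, 64, 16, 32, 8, 262, 4, 65, 0, 0⟩, ⟨840, 132, 256, 64, 16, 32, 8, 262, 4, 69,
   0, 0⟩, ⟨512, 384, 256, 64, 16, 32, 8, 2, 4, 9, 0, 0⟩, ⟨768, 384, 256, 64, 16, 32, 8, 2, 4, 13, 0,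
   0⟩, ⟨576, 384, 256, 64, 16, 32, 8, 6, 4, 9, 0, 0⟩, ⟨832, 384, 256, 64, 16, 32, 8, 6, 4, 13, 0,
   0⟩, ⟨512, 384, 256, 64, 16, 32, 8, 258, 4, 73, 0, 0⟩, ⟨768, 384, 256, 64, 16, 32, 8, 258, 4, 77,
   0, 0⟩, ⟨576, 384, 256, 64, 16, 32, 8, 262, 4, 73, 0, 0⟩, ⟨832, 384, 256, 64, 16, 32, 8, 262, 4,
   77, 0, 0⟩, ⟨520, 388, 256, 64, 16, 32, 8, 2, 4, 9, 0, 0⟩, ⟨776, 388, 256, 64, 16, 32, 8, 2, 4,
   13, 0, 0⟩, ⟨584, 388, 256, 64, 16, 32, 8, 6, 4, 9, 0, 0⟩, ⟨840, 388, 256, 64, 16, 32, 8, 6, 4,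
   13, 0, 0⟩, ⟨520, 388, 256, 64, 16, 32, 8, 258, 4, 73, 0, 0⟩, ⟨776, 388, 256, 64, 16, 32, 8, 258,
   4, 77, 0, 0⟩, ⟨584, 388, 256, 64, 16, 32, 8, 262, 4, 73, 0, 0⟩, ⟨840, 388, 256, 64, 16, 32, 8,
   262, 4, 77, 0, 0⟩, ⟨512, 128, 256, 64, 48, 32, 8, 2, 4, 1, 0, 0⟩, ⟨768, 128, 256, 64, 48, 32, 8,
   2, 4, 5, 0, 0⟩, ⟨576, 128, 256, 64, 48, 32, 8, 6, 4, 1, 0, 0⟩, ⟨832, 128, 256, 64, 48, 32, 8, 6,
   4, 5, 0, 0⟩, ⟨512, 128, 256, 64, 48, 32, 8, 258, 4, 65, 0, 0⟩, ⟨768, 128, 256, 64, 48, 32, 8,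
   258, 4, 69, 0, 0⟩, ⟨576, 128, 256, 64, 48, 32, 8, 262, 4, 65, 0, 0⟩, ⟨832, 128, 256, 64, 48, 32,
   8, 262, 4, 69, 0, 0⟩, ⟨520, 132, 256, 64, 48, 32, 8, 2, 4, 1, 0, 0⟩, ⟨776, 132, 256, 64, 48, 32,
   8, 2, 4, 5, 0, 0⟩, ⟨584, 132, 256, 64, 48, 32, 8, 6, 4, 1, 0, 0⟩, ⟨840, 132, 256, 64, 48, 32, 8,
   6, 4, 5, 0, 0⟩, ⟨520, 132, 256, 64, 48, 32, 8, 258, 4, 65, 0, 0⟩, ⟨776, 132, 256, 64, 48, 32, 8,
   258, 4, 69, 0, 0⟩, ⟨584, 132, 256, 64, 48, 32, 8, 262, 4, 65, 0, 0⟩, ⟨840, 132, 256, 64, 48, 32,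
   8, 262, 4, 69, 0, 0⟩, ⟨512, 384, 256, 64, 48, 32, 8, 2, 4, 9, 0, 0⟩, ⟨768, 384, 256, 64, 48, 32,
   8, 2, 4, 13, 0, 0⟩, ⟨576, 384, 256, 64, 48, 32, 8, 6, 4, 9, 0, 0⟩, ⟨832, 384, 256, 64, 48, 32, 8,
   6, 4, 13, 0, 0⟩, ⟨512, 384, 256, 64, 48, 32, 8, 258, 4, 73, 0, 0⟩, ⟨768, 384, 256, 64, 48, 32, 8,
   258, 4, 77, 0, 0⟩, ⟨576, 384, 256, 64, 48, 32, 8, 262, 4, 73, 0, 0⟩, ⟨832, 384, 256, 64, 48, 32,
   8, 262, 4, 77, 0, 0⟩, ⟨520, 388, 256, 64, 48, 32, 8, 2, 4, 9, 0, 0⟩, ⟨776, 388, 256, 64, 48, 32,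
   8, 2, 4, 13, 0, 0⟩, ⟨584, 388, 256, 64, 48, 32, 8, 6, 4, 9, 0, 0⟩, ⟨840, 388, 256, 64, 48, 32, 8,
   6, 4, 13, 0, 0⟩, ⟨520, 388, 256, 64, 48, 32, 8, 258, 4, 73, 0, 0⟩, ⟨776, 388, 256, 64, 48, 32, 8,
   258, 4, 77, 0, 0⟩, ⟨584, 388, 256, 64, 48, 32, 8, 262, 4, 73, 0, 0⟩, ⟨840, 388, 256, 64, 48, 32,
   8, 262, 4, 77, 0, 0⟩]
def pT (B : Tw ℕ) : List ℕ := [B.g9, B.g0, B.g7, B.g1, B.g4, 32]

def fW (B : Tw ℕ) : Fm := Fm.all [([3, 3], B.g2), ([4, 5, 3, 4, 3, 3, 3], B.g3), ([5], B.g5),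
  ([4, 5, 2, 4, 2, 2, 2], B.g6), ([2, 2], B.g8)] fun t => .eq (wv (cs (pT B)) t.1) (.c t.2)

/-- the two solutions with the correcting automorphisms of `S` -/
def LF : List (Tw ℕ × Tw ℕ) := [(⟨512, 128, 256, 64, 16, 32, 8, 2, 4, 1, 0, 0⟩, gen),
  (⟨520, 132, 256, 64, 16, 32, 8, 258, 4, 65, 0, 0⟩, ⟨65, 258, 4, 8, 16, 32, 64, 128, 256, 512, 1280, 2048⟩)]

def cy (a : Ex) : Ex := .c 1024 * a * .c 3072
def cx (a : Ex) : Ex := .c 2048 * a * .c 2048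

def fF : Fm := Fm.all LT fun B => (Fm.all [16, 2, 128] fun g =>
  .eq (.ap B (cy (.ap B (.c g))) * .v) (.v * cy (.ap B (cx (.c g))))).imp
  (if LF.any fun z => pT z.1 == pT B then .tt else .not .tt)
def fN : Fm := (inQ .v).imp (.eq (.n8 (cy (.n8 .v))) (cy (.n8 (cx .v))))
def fH : Fm := Fm.all LF fun z => .and (.and (Fm.all [(1, z.2.g0), (2, z.2.g1), (4, z.2.g2), (8, z.2.g3),
  (16, z.2.g4), (32, z.2.g5), (64, z.2.g6), (128, z.2.g7), (256, z.2.g8), (512, z.2.g9), (1024, z.2.g10),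
  (2048, z.2.g11)] fun g => .eq (.ap z.2 (.v * .c g.1)) (.ap z.2 .v * .c g.2))
  ((Fm.eq (.ap z.2 .v) (.c 0)).imp (.eq .v (.c 0))))
  ((inQ .v).imp (.and (inQ (.ap z.2 .v)) (.eq (.ap z.1 (.ap z.2 .v)) (.ap z.2 (.n8 .v)))))

def R0 : List (List ℕ × List ℕ) := [([0, 0], [1])]
def R2 : List (List ℕ × List ℕ) := [([1, 0], [0, 1])]
def R3 : List (List ℕ × List ℕ) := [([], [0, 0]), ([2, 0], [0, 2]), ([3, 2, 2], [0, 3, 0]), ([3, 0, 1, 0], [2, 3, 2, 1])]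
def R4 : List (List ℕ × List ℕ) := [([], [0, 0]), ([2, 0], [0, 2]), ([4, 2, 2], [0, 4, 0]), ([4, 0, 3, 4], [3, 1, 0, 1]), ([4, 0, 3, 0], [2, 4, 3, 2])]

theorem c0 : (lev 48 R0 [0, 512, 128, 640, 2, 514, 130, 642, 1, 513, 129, 641, 3, 515, 131, 643] [[32]] P1).chk = true := by
  decide +kernel
theorem c1 : (lev 384 [] [0, 8, 16, 24] P1 P2).chk = true := by decide +kernel
theorem c2 : (lev 6 R2 [0, 64] P2 P3).chk = true := by decide +kernel
theorem c3 : (lev 512 R3 [0, 4] P3 P4).chk = true := by decide +kernel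
theorem c4 : (lev 1 R4 [0, 256] P4 (LT.map pT)).chk = true := by decide +kernel
theorem cW : (Fm.all (gen :: LT ++ LF.map Prod.fst) fW).one = true := by decide +kernel
theorem cF : fF.chk = true := by decide +kernel
theorem cN : fN.chk = true := by decide +kernel
theorem cH : fH.chk = true := by decide +kernel

variable {K : Type*} [Field K] [Finite K] [CharP K 2] {T : TF K} {n : Co T → Co T}
  {Y0 Y8 Y1 : Subgroup (Equiv.Perm (Co T))}

theorem wv_rel (h : H90.RF.Au (sQ T) n) {f f' : ℕ → Ex} {x x' : Co T}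
    (hf : ∀ i, (f i).ev x ∈ sQ T ∧ n ((f i).ev x) = (f' i).ev x') (w : List ℕ) :
    (wv f w).ev x ∈ sQ T ∧ n ((wv f w).ev x) = (wv f' w).ev x' := by
  induction w with
  | nil => exact ⟨one_mem _, h.one⟩
  | cons i w ih =>
    exact ⟨mul_mem (hf i).1 ih.1, (h.mul _ (hf i).1 _ ih.1).trans (by rw [(hf i).2, ih.2]; rfl)⟩

/-- the images of the generators -/
def Gr (n : Co T → Co T) (g p : List ℕ) : Prop :=
  ∀ i, el T (g.getD i 0) ∈ sQ T ∧ n (el T (g.getD i 0)) = el T (p.getD i 0)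

/-- the state of the search -/
def St (Y8 : Subgroup (Equiv.Perm (Co T))) (g p : List ℕ) : Prop :=
  ∃ n ∈ Y8, Cg (z8 T) 4 n Co.nu8 ∧ Gr n g p

theorem z8_le (i : ℕ) : z8 T i ≤ sQ T := by
  rcases i with _ | _ | _ | _ | i
  exacts [bot_le, fun c h => ⟨h.2.2.2.2.2.2.2.2.2.1, h.2.2.2.2.2.2.2.2.2.2⟩,
    fun c h => ⟨h.2.2.2.2.2.1, h.2.2.2.2.2.2⟩, fun c h => ⟨h.2.2.2.2.1, h.2.2.2.2.2⟩, le_rfl]

theorem cgQ {w : Co T} (hw : w ∈ sQ T) : Cg (z8 T) 4 (fun c => w * c * w⁻¹) id := fun i hi c hc => by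
  obtain ⟨w1, w2⟩ := hw
  interval_cases i
  · have hc : c ∈ sZ T := hc
    show c⁻¹ * (w * c * w⁻¹) ∈ (⊥ : Subgroup _)
    rw [H14.Oc.eq_x4 hc, H14.Oc.x4_comm]; simp
  · have := H90.RF.nZ.conj_mem _ (H14.Oc.cm_VQ (show c ∈ sV T from hc) ⟨w1, w2⟩) c⁻¹
    show c⁻¹ * (w * c * w⁻¹) ∈ sZ T
    simpa [mul_assoc] using this
  · obtain ⟨h1, h2, h3, h4, h5, h6⟩ : c ∈ sR T := hc
    show c⁻¹ * (w * c * w⁻¹) ∈ sV T
    refine ⟨?_, ?_, ?_, ?_, ?_, ?_, ?_⟩ <;> simp [T.sq, *] <;> grind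
  · obtain ⟨h1, h2⟩ : c ∈ sQ T := hc
    show c⁻¹ * (w * c * w⁻¹) ∈ sR T
    refine ⟨?_, ?_, ?_, ?_, ?_, ?_⟩ <;> simp [T.sq, *] <;> grind

theorem inn8 (h : Tri T Y0 Y8 Y1) (s : Co T) : ∃ α ∈ Y8, ∀ c ∈ sQ T, α c = s * c * s⁻¹ := by
  obtain ⟨y, hy, e⟩ := h.inn s
  obtain ⟨α, hα, e'⟩ := h.res8 y hy
  exact ⟨α, hα, fun c hc => (e' c hc).trans (e c)⟩

theorem inner (h : Tri T Y0 Y8 Y1) (h8 : A8 T) {α β : Equiv.Perm (Co T)} (hα : α ∈ Y8) (hβ : β ∈ Y8)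
    (e : Cg (z8 T) 4 α β) : ∃ q ∈ sQ T, ∀ c ∈ sQ T, α c = q * β c * q⁻¹ := by
  obtain ⟨q, hq, k⟩ := h.rad8 (α * β⁻¹) (mul_mem hα (inv_mem hβ)) fun i hi c hc => by
    simpa using e.comp_right (h8 _ (h.l8.au _ (inv_mem hβ))).1 i hi c hc
  exact ⟨q, hq, fun c hc => by simpa using k _ ((h.l8.au β hβ).mem c hc)⟩

theorem sem_inR {a : Ex} {x : Co T} (h : a.ev x ∈ sR T) : (inR a).sem x := by
  refine ⟨sem_inQ.2 ⟨h.2.2.2.2.1, h.2.2.2.2.2⟩, sem_all.2 fun b hb => H14.Oc.cm_RV h ?_⟩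
  simp only [List.mem_cons, List.not_mem_nil, or_false] at hb
  rcases hb with rfl | rfl | rfl | rfl <;> exact ⟨rfl, rfl, rfl, rfl, rfl, rfl, rfl⟩

theorem step (hK : ∀ a : K, a = 0 ∨ a = 1) (h : Tri T Y0 Y8 Y1) (h8 : A8 T) {a ti : ℕ} {g W : List ℕ}
    {RL : List (List ℕ × List ℕ)} {P P' : List (List ℕ)} (hs : (std a ti g RL).one = true)
    (hc : (lev ti RL W P P').chk = true) (st : ∃ p ∈ P, St Y8 g p) : ∃ p' ∈ P', St Y8 (a :: g) p' := by
  obtain ⟨p, hp, n, hn, cg, gr⟩ := st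
  have au := h.l8.au n hn
  obtain ⟨⟨s1, s2⟩, s3⟩ := Fm.of_one (T := T) hs
  have s1 : el T a ∈ sQ T := sem_inQ.1 s1
  have s2 : el T ti = (el T a).nu8⁻¹ := eq_inv_of_mul_eq_one_right s2
  have hf : ∀ i, (cs (a :: g) i).ev 1 ∈ sQ T ∧ n ((cs (a :: g) i).ev 1) = (vs p i).ev (n (el T a)) := by
    rintro (_ | i)
    exacts [⟨s1, rfl⟩, gr i]
  have r := sem_imp.1 (sem_all.1 (sem_imp.1 (Fm.of_chk hK hc (n (el T a))) (sem_inR (by
    show el T ti * _ ∈ _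
    rw [s2]; exact cg 3 (by omega) _ s1))) p hp) (sem_all.2 fun r hr =>
      (wv_rel au hf r.1).2.symm.trans ((congrArg n (sem_all.1 s3 r hr)).trans (wv_rel au hf r.2).2))
  obtain ⟨w, -, ⟨w1, w2⟩, w3⟩ := sem_ex.1 r
  obtain ⟨p', hp', w3⟩ := sem_ex.1 w3
  rw [List.mem_filter, beq_iff_eq] at hp'
  have w1 : el T w ∈ sQ T := sem_inQ.1 w1
  obtain ⟨α, hα, e⟩ := inn8 h (el T w)
  have e' : ∀ c ∈ sQ T, el T w * n c * (el T w)⁻¹ = (α * n) c := fun c hc => (e _ (au.mem c hc)).symm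
  refine ⟨p', hp'.1, α * n, mul_mem hα hn, (((cgQ w1).comp_right (h8 _ au).1).trans cg).congr
    (fun i _ => z8_le i) e' fun _ _ => rfl, ?_⟩
  rintro (_ | i)
  · exact ⟨s1, (e' _ s1).symm.trans (mul_inv_eq_iff_eq_mul.2 w3)⟩
  · refine ⟨(gr i).1, (e' _ (gr i).1).symm.trans ?_⟩
    have e1 : p'.getD (i + 1) 0 = p.getD i 0 := by rw [← hp'.2]; cases p' <;> simp
    rw [(gr i).2, e1, mul_inv_eq_iff_eq_mul, List.getD_eq_getElem?_getD]
    cases e2 : p[i]? with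
    | none => exact (mul_one _).trans (one_mul _).symm
    | some b => exact sem_all.1 w2 b (List.mem_of_getElem? e2)

theorem all_Q (hK : ∀ a : K, a = 0 ∨ a = 1) (au : H90.RF.Au (sQ T) n) {B : Tw ℕ}
    (hB : B ∈ gen :: LT ++ LF.map Prod.fst) (gr : Gr n (pT gen) (pT B)) {c : Co T} (hc : c ∈ sQ T) :
    n c = apC (elT T B) c := by
  have r := sem_all.1 (Fm.of_one (T := T) cW)
  have l := sem_all.1 (r gen List.mem_cons_self)
  replace r := sem_all.1 (r B hB)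
  let A : Co T → Co T → Prop := fun c d => c ∈ sQ T ∧ n c = d
  have mu : ∀ {c d c' d'}, A c d → A c' d' → A (c * c') (d * d') := fun a b =>
    ⟨mul_mem a.1 b.1, by rw [au.mul _ a.1 _ b.1, a.2, b.2]⟩
  have se : ∀ {c d}, A c d → ∀ t : K, A (selC t c) (selC t d) := fun a t => by
    unfold selC; split_ifs; exacts [a, ⟨one_mem _, au.one⟩]
  have k : ∀ {w a b}, (Fm.eq (wv (cs (pT gen)) w) (.c a)).sem (1 : Co T) →
      (Fm.eq (wv (cs (pT B)) w) (.c b)).sem (1 : Co T) → A (el T a) (el T b) := fun {w _ _} a b => by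
    have := wv_rel (x := 1) (x' := 1) (f := cs (pT gen)) (f' := cs (pT B)) au gr w
    rw [show (wv (cs (pT gen)) w).ev (1 : Co T) = _ from a, show (wv (cs (pT B)) w).ev (1 : Co T) = _ from b] at this
    exact this
  simp only [List.forall_mem_cons] at l r
  obtain ⟨l2, l3, l5, l6, l8, -⟩ := l
  obtain ⟨r2, r3, r5, r6, r8, -⟩ := r
  have := (mu (mu (mu (mu (mu (mu (mu (mu (mu (se (gr 1) c.a1) (se (gr 3) c.b2)) (se (k l2 r2) c.a2))
    (se (k l3 r3) c.a3)) (se (gr 4) c.b4)) (se (k l5 r5) c.a4)) (se (k l6 r6) c.a5)) (se (gr 2) c.b6))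
    (se (k l8 r8) c.a6)) (se (gr 0) c.a7)).2
  have e := nf' hK c
  simp only [apC, elT, hc.1, hc.2, selC_zero, mul_one] at e ⊢
  simp only [pT, gen, List.getD_cons_zero, List.getD_cons_succ] at this e
  rwa [e] at this

theorem exists_aut (hK : ∀ a : K, a = 0 ∨ a = 1) {z : Tw ℕ × Tw ℕ} (hz : z ∈ LF) :
    ∃ θ : MulAut (Co T), ∀ c ∈ sQ T, θ c ∈ sQ T ∧ apC (elT T z.1) (θ c) = θ c.nu8 := by
  have r := fun x : Co T => sem_all.1 (Fm.of_chk hK cH x) z hz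
  let M : Submonoid (Co T) :=
    { carrier := {g | ∀ c, apC (elT T z.2) (c * g) = apC (elT T z.2) c * apC (elT T z.2) g}
      one_mem' := fun c => by rw [mul_one, apC_one, mul_one]
      mul_mem' := fun {g g'} h h' c => by rw [← mul_assoc, h', h, h', mul_assoc] }
  have m : ∀ {g g'}, (∀ c, apC (elT T z.2) (c * el T g) = apC (elT T z.2) c * el T g') →
      ∀ t : K, selC t (el T g) ∈ M := fun h t => by
    unfold selC; split_ifs
    exacts [fun c => by have := h 1; rw [one_mul, apC_one, one_mul] at this; rw [h, this], M.one_mem]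
  have s := fun x : Co T => sem_all.1 (r x).1.1
  simp only [List.forall_mem_cons, forall_and, Fm.sem, Ex.ev, R3.ev_mul] at s
  obtain ⟨g0, g1, g2, g3, g4, g5, g6, g7, g8, g9, g10, g11, -⟩ := s
  have hM : ∀ g, g ∈ M := fun g => by
    rw [← nf' hK g]
    exact mul_mem (mul_mem (mul_mem (mul_mem (mul_mem (mul_mem (mul_mem (mul_mem (mul_mem (mul_mem
      (mul_mem (m g0 _) (m g1 _)) (m g2 _)) (m g3 _)) (m g4 _)) (m g5 _)) (m g6 _)) (m g7 _))
      (m g8 _)) (m g9 _)) (m g10 _)) (m g11 _)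
  let θ : Co T →* Co T := MonoidHom.mk' (apC (elT T z.2)) fun c d => hM d c
  have inj : Function.Injective θ := (injective_iff_map_eq_one _).2 fun c hc => by
    have := sem_imp.1 (r c).1.2
    simp only [Fm.sem, Ex.ev, el_zero] at this
    exact this hc
  refine ⟨MulEquiv.ofBijective θ (Finite.injective_iff_bijective.1 inj), fun c hc => ?_⟩
  have := sem_imp.1 (r c).2 (sem_inQ.2 hc)
  simp only [Fm.sem, sem_inQ, Ex.ev] at this
  exact this

theorem jobQa : JobQa.{v} := by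
  intro K _ _ _ T hK h8 Y0 Y8 Y1 h hG
  obtain ⟨n, hn, cg⟩ := hG.1
  have s0 : ∃ p ∈ [[32]], St Y8 [32] p := ⟨_, List.mem_cons_self, n, hn, cg, by
    rintro (_ | i)
    · refine ⟨⟨rfl, rfl⟩, ?_⟩
      have := cg 0 (by omega) (x4 T 1) (H14.Oc.x4_mem 1)
      have e : (x4 T 1).nu8 = x4 T 1 := by ext <;> simp [Co.nu8, x4]
      rw [e] at this
      exact (inv_mul_eq_one.1 (mem_bot.1 this)).symm
    · simp only [List.getD_cons_succ, List.getD_nil, el_zero]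
      exact ⟨one_mem _, (h.l8.au n hn).one⟩⟩
  obtain ⟨_, hp, n, hn, cg, gr⟩ := step hK h h8 (a := 512) (by decide +kernel) c4
    (step hK h h8 (a := 1) (by decide +kernel) c3 (step hK h h8 (a := 128) (by decide +kernel) c2
    (step hK h h8 (a := 2) (by decide +kernel) c1 (step hK h h8 (a := 16) (by decide +kernel) c0 s0))))
  obtain ⟨B, hB, rfl⟩ := List.mem_map.1 hp
  have au := h.l8.au n hn
  have nB := fun c => all_Q (c := c) hK au (List.mem_cons_of_mem _ (List.mem_append_left _ hB)) gr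
  obtain ⟨y, hy, ey⟩ := inn8 h (el T 1024)
  obtain ⟨x, hx, ex⟩ := inn8 h (el T 2048)
  rw [← eq_inv_of_mul_eq_one_right (ck_spec (T := T) (a := 1024) (b := 3072) (c := 0)
    (by decide +kernel))] at ey
  rw [← eq_inv_of_mul_eq_one_right (ck_spec (T := T) (a := 2048) (b := 2048) (c := 0)
    (by decide +kernel))] at ex
  have ay := h.l8.au y hy
  have ax := h.l8.au x hx
  have a8 := H90.RF.au_nu8 (T := T)
  have zl : ∀ i ≤ 4, z8 T i ≤ sQ T := fun i _ => z8_le i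
  have e1 := cg.comp_right (h8 _ (ay.comp au)).1
  have e2 := cg.comp_left (a8.comp ay) (h8 _ (a8.comp ay)).1 zl au.mem a8.mem
  have e4 := (cg.comp_right (h8 _ ax).1).comp_left ay (h8 _ ay).1 zl (au.comp ax).mem (a8.comp ax).mem
  obtain ⟨q, -, hq⟩ := inner h h8 (mul_mem (mul_mem hn hy) hn) (mul_mem (mul_mem hy hn) hx)
    ((e1.trans (e2.congr zl (fun _ _ => rfl) fun c hc => by
      rw [ey _ (a8.mem c hc), ey _ (a8.mem _ (ax.mem c hc)), ex c hc]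
      have := sem_imp.1 (Fm.of_chk hK cN c) (sem_inQ.2 hc)
      simpa only [Fm.sem, Ex.ev, R3.ev_mul, cx, cy] using this)).trans e4.symm)
  have r := sem_imp.1 (sem_all.1 (Fm.of_chk hK cF q) B hB) (sem_all.2 fun g hg => by
    have hg : el T g ∈ sQ T := by
      simp only [List.mem_cons, List.not_mem_nil, or_false] at hg
      rcases hg with rfl | rfl | rfl <;> exact ⟨rfl, rfl⟩
    have := hq _ hg
    simp only [Equiv.Perm.mul_apply] at this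
    rw [nB _ (ay.mem _ (au.mem _ hg)), ey _ (au.mem _ hg), nB _ hg, ey _ (au.mem _ (ax.mem _ hg)),
      nB _ (ax.mem _ hg), ex _ hg, eq_mul_inv_iff_mul_eq] at this
    simpa only [Fm.sem, Ex.ev, R3.ev_mul, cx, cy] using this)
  split_ifs at r with hz
  swap
  · exact absurd trivial r
  obtain ⟨z, hz, e⟩ := List.any_eq_true.1 hz
  rw [← beq_iff_eq.1 e] at gr
  obtain ⟨θ, hθ⟩ := exists_aut (T := T) hK hz
  obtain ⟨m, hm, em⟩ := exists_cjY θ hn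
  refine ⟨θ, m, hm, fun c hc => θ.injective ?_⟩
  rw [← em, all_Q hK au (List.mem_cons_of_mem _ (List.mem_append_right _ (List.mem_map_of_mem hz))) gr
    (hθ c hc).1, (hθ c hc).2]

end H5.QA
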