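/- The automizer of `Q₁` over the field with two elements contains a conjugate of `n₁`. -/
import Cfsg.Agent.H5.RFQa

set_option autoImplicit false
set_option linter.unusedSectionVars false
set_option linter.unusedSimpArgs false

namespace H5.QA
open H63.Oc H65.PA Subgroup
open H90.RF (Tri Cg Pr A1 G1 N8 N1 z1 cjY JobQb exists_cjY)

universe v

variable {K : Type*} [Field K] [Finite K] [CharP K 2] {T : TF K}
  {Y0 Y8 Y1 : Subgroup (Equiv.Perm (Co T))}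

theorem inn1 (h : Tri T Y0 Y8 Y1) (s : Co T) : ∃ α ∈ Y1, ∀ c ∈ sQ1 T, α c = s * c * s⁻¹ := by
  obtain ⟨y, hy, e⟩ := h.inn s
  obtain ⟨α, hα, e'⟩ := h.res1 y hy
  exact ⟨α, hα, fun c hc => (e' c hc).trans (e c)⟩

theorem pow_inn (h : Tri T Y0 Y8 Y1) {α : Equiv.Perm (Co T)} {s : Co T}
    (e : ∀ c ∈ sQ1 T, α c = s * c * s⁻¹) (k : ℕ) : ∀ c ∈ sQ1 T, (α ^ k) c = s ^ k * c * (s ^ k)⁻¹ := by
  have _ := h
  induction k with
  | zero => simp
  | succ k ih =>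
    intro c hc
    rw [pow_succ, Equiv.Perm.mul_apply, e c hc, ih _ (H90.RF.nQ1.conj_mem c hc s), pow_succ]; group

theorem exists_n1 (hK : ∀ a : K, a = 0 ∨ a = 1) (h : Tri T Y0 Y8 Y1) (hG : G1 T Y1) :
    ∃ n ∈ Y1, ∃ σ ∈ Y1, (∀ c ∈ sQ1 T, σ c = x1 T 1 * c * (x1 T 1)⁻¹) ∧ n * n = 1 ∧
      n * σ * n = σ * n * σ ∧ n (x4 T 1) = x6 T 1 := by
  obtain ⟨g, hg, eg⟩ := hG.1
  obtain ⟨σ, hσ, e⟩ := inn1 h (x1 T 1)
  have c1 : σ * σ = 1 := h.l1.ext (mul_mem hσ hσ) (one_mem _) fun c hc => by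
    have := pow_inn h e 2 c hc
    rwa [pow_two, pow_two, show x1 T 1 * x1 T 1 = 1 by ext <;> simp [x1, CharTwo.add_self_eq_zero],
      one_mul, inv_one, mul_one] at this
  have si : σ⁻¹ = σ := inv_eq_of_mul_eq_one_right c1
  have sw : ∀ s r, σ (ww T s r) = ww T s (r + s) := fun s r => by
    rw [e _ rfl, mul_inv_eq_iff_eq_mul]; ext <;> simp [x1, ww]; grind
  have gi : ∀ s r, g⁻¹ (ww T s r) = ww T r s := fun s r => by rw [← eg]; simp
  obtain ⟨u, hu⟩ : ∃ u, u = σ * (g * σ * g⁻¹) := ⟨_, rfl⟩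
  have mu : u ∈ Y1 := hu ▸ mul_mem hσ (mul_mem (mul_mem hg hσ) (inv_mem hg))
  have uw : ∀ s r, u (ww T s r) = ww T (s + r) s := fun s r => by
    simp only [hu, Equiv.Perm.mul_apply, gi, sw, eg]
    congr 1; grind
  have u3 : ∀ s r, (u ^ 3) (ww T s r) = ww T s r := fun s r => by
    simp only [pow_three, Equiv.Perm.mul_apply, uw]
    congr 1 <;> grind
  obtain ⟨s, -, hs⟩ := h.rad1 (u ^ 3) (pow_mem mu 3) fun c hc => by
    have : c = ww T c.a6 c.a4 := by ext <;> simp [ww, (mem_sW T).1 hc]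
    rw [this, u3]
  have o3 : (u ^ 16) ^ 3 = 1 := h.l1.ext (pow_mem (pow_mem mu _) _) (one_mem _) fun c hc => by
    rw [← pow_mul, mul_comm, pow_mul, pow_inn h hs 16 c hc, pow16 hK]; simp
  have iv : σ * u ^ 16 * σ = (u ^ 16)⁻¹ := by
    have : σ * u * σ⁻¹ = u⁻¹ := by
      rw [hu, ← mul_assoc σ σ, c1, one_mul, mul_inv_rev, mul_inv_rev, mul_inv_rev, si, inv_inv,
        mul_assoc g]
    rw [← inv_pow, ← this, conj_pow, si]
  have w4 : (u ^ 16) (ww T 0 1) = ww T 1 0 := by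
    rw [show 16 = 1 + 3 * 5 from rfl, pow_add, pow_one, pow_mul, Equiv.Perm.mul_apply,
      Equiv.Perm.pow_apply_eq_self_of_apply_eq_self (u3 0 1), uw, zero_add]
  generalize hω : u ^ 16 = ω at *
  refine ⟨ω * σ, mul_mem (hω ▸ pow_mem mu _) hσ, σ, hσ, e, ?_, ?_, ?_⟩
  · rw [mul_assoc, ← mul_assoc σ, iv, mul_inv_cancel]
  · calc _ = ω * (σ * σ) * ω * σ := by group
      _ = ω ^ 3 * ω⁻¹ * σ := by rw [c1, pow_three']; group
      _ = _ := by rw [o3, one_mul, ← iv]; group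
  · show ω (σ (ww T 0 1)) = ww T 1 0
    rw [sw, add_zero, w4]

theorem exists_std (hK : ∀ a : K, a = 0 ∨ a = 1) (h1 : A1 T) (h : Tri T Y0 Y8 Y1) (hG : G1 T Y1) :
    ∃ n ∈ Y1, ∃ z ∈ TH, ∃ x : Co T, ∀ c : Co T, c.a1 = 0 →
      n (x * apC (elT T z.1) c * x⁻¹) = x * apC (elT T z.1) c.nu1 * x⁻¹ := by
  obtain ⟨n, hn, σ, hσ, eσ, n2, n3, h4⟩ := exists_n1 hK h hG
  have an := h.l1.au n hn
  have au : Au fun c c' : Co T => c.a1 = 0 ∧ n c = c' := ⟨hK, ⟨rfl, an.one⟩,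
    fun a b => ⟨mul_mem (show _ ∈ sQ1 T from a.1) b.1, by rw [an.mul _ a.1 _ b.1, a.2, b.2]⟩,
    fun a => ⟨a.2 ▸ an.mem _ a.1, by rw [← a.2, ← Equiv.Perm.mul_apply, n2]; rfl⟩,
    fun a b => a.2.symm.trans b.2⟩
  have x1i : (x1 T 1)⁻¹ = el T 1 := (eq_inv_of_mul_eq_one_right
    (ck_spec (T := T) (a := 1) (b := 1) (c := 0) (by decide +kernel))).symm
  obtain ⟨a, ha⟩ : ∃ a, n (el T 1024) = a := ⟨_, rfl⟩
  obtain ⟨d, hd⟩ : ∃ a, n (el T 2) = a := ⟨_, rfl⟩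
  obtain ⟨b, hb⟩ : ∃ a, n (el T 16) = a := ⟨_, rfl⟩
  obtain ⟨y, e5⟩ : ∃ a, n (el T 64) = a := ⟨_, rfl⟩
  have a1 : a.a1 = 0 := ha ▸ an.mem _ rfl
  have d1 : d.a1 = 0 := hd ▸ an.mem _ rfl
  have b1 : b.a1 = 0 := hb ▸ an.mem _ rfl
  have hy := (mem_sA T).1 (show y ∈ sA T from
    e5 ▸ (h1 n an).1 2 _ (show el T 64 ∈ sA T from ⟨rfl, rfl, rfl, rfl, rfl, rfl, rfl, rfl, rfl⟩))
  have su : Su (fun c c' : Co T => c.a1 = 0 ∧ n c = c') a d b :=
    { toAu := au, ha := ⟨rfl, ha⟩, hd := ⟨rfl, hd⟩, hb := ⟨rfl, hb⟩, h4 := ⟨rfl, h4⟩, a1 := a1, d1 := d1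
      h5 := fun y' h => by rw [← h.2, e5]; ext <;> simp [p, hy]
      br := by
        have e1 : σ (el T 2) = el T 2 := by
          rw [eσ _ rfl, x1i]
          exact (congrArg (· * el T 1) (ck_spec (T := T) (a := 1) (b := 2) (c := 3)
            (by decide +kernel))).trans (ck_spec (by decide +kernel))
        have e2 : el T 1 * d * el T 1 = σ d := by rw [eσ d d1, x1i]; rfl
        have e3 := congrArg (· (el T 2)) n3
        simp only [Equiv.Perm.mul_apply, e1, hd] at e3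
        rw [e2]
        exact ⟨(h.l1.au σ hσ).mem d d1, e3⟩ }
  have e5' : (el T 64).a1 = 0 ∧ n (el T 64) = y := ⟨rfl, e5⟩
  have r1 : a * y = y * x4 T 1 * a := au.fn (au.mul su.ha e5') (by
    have := au.mul (au.mul e5' (au.symm su.h4)) su.ha
    rwa [ck_spec (c := 320) (by decide +kernel), ck_spec (c := 1344) (by decide +kernel),
      ← ck_spec (a := 1024) (b := 64) (by decide +kernel)] at this)
  have r2 : y * d = d * x6 T 1 * y := au.fn (au.mul e5' su.hd) (by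
    have := au.mul (au.mul su.hd su.h4) e5'
    rwa [ck_spec (c := 34) (by decide +kernel), ck_spec (c := 98) (by decide +kernel),
      ← ck_spec (a := 64) (b := 2) (by decide +kernel)] at this)
  have r3 : b * y = y * b := au.comm e5' su.hb 80 (by decide +kernel) (by decide +kernel)
  have s1 := congrArg Co.a4 r1
  have s2 := congrArg Co.a6 r1
  have s3 := congrArg Co.a4 r2
  have s4 := congrArg Co.a6 r2
  have s5 := congrArg Co.a4 r3
  have s6 := congrArg Co.a6 r3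
  simp [x4, x6, hy, a1, d1, b1] at s1 s2 s3 s4 s5 s6
  have y5 : y.a5 = 1 := (hK _).resolve_left fun e => by grind
  obtain ⟨z, hz, x, -, H⟩ := conj_std su (by grind) (by grind) (by grind) (by grind) b1 (by grind)
    (by grind)
  exact ⟨n, hn, z, hz, x, fun c hc => (H c hc).2⟩

theorem jobQb : JobQb.{v} := by
  intro K _ _ _ T hK h1 Y0 Y8 Y1 h hG ⟨n8, hn8, e8⟩
  obtain ⟨n, hn, z, hz, x, H⟩ := exists_std hK h1 h hG
  obtain ⟨θ, hθ, t⟩ := th_spec (T := T) hK hz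
  generalize el T z.2 = q at t
  let η : MulAut (Co T) := MulAut.conj x * MulEquiv.ofBijective θ (Finite.injective_iff_bijective.1 t.inj)
  have eη : ∀ c, η c = x * θ c * x⁻¹ := fun _ => rfl
  obtain ⟨q1, q2⟩ := t.n8 1 (one_mem _)
  rw [map_one, one_mul] at q1 q2
  rw [H90.RF.au_nu8.one, map_one] at q2
  obtain ⟨α, hα, eα⟩ := inn8 h (x * q)
  obtain ⟨β, hβ, eβ⟩ := inn8 h x⁻¹
  obtain ⟨m8, hm8, em8⟩ := exists_cjY η (mul_mem (mul_mem hα hn8) hβ)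
  obtain ⟨m1, hm1, em1⟩ := exists_cjY η hn
  refine ⟨η, ⟨m8, hm8, fun c hc => η.injective ?_⟩, m1, hm1, fun c hc => η.injective ?_⟩
  · obtain ⟨k1, k2⟩ := t.n8 c hc
    have k3 : θ c ∈ sQ T := (mul_mem_cancel_right q1).1 k1
    rw [← em8, eη, eη, Equiv.Perm.mul_apply, Equiv.Perm.mul_apply, eβ _ (H14.Oc.cjQ k3 x),
      show x⁻¹ * (x * θ c * x⁻¹) * x⁻¹⁻¹ = θ c by group, e8 _ k3, eα _ (H90.RF.au_nu8.mem _ k3), ← k2,
      nu8_mul k3 q1, eq_inv_of_mul_eq_one_right q2]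
    group
  · rw [← em1, eη, eη, hθ, hθ]
    exact H c hc

end H5.QA
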