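/- RF tower, slot Real: the large Ree group extended by field automorphisms. -/
import Cfsg.Agent.H90.RFKit2
import Cfsg.Agent.H78.ParId
import Cfsg.Agent.H14.OcBC
import Mathlib.GroupTheory.SemidirectProduct

set_option autoImplicit false
set_option linter.unusedSectionVars false

open Subgroup H63.Oc H90.RF

universe v

namespace H5.RE

variable {K : Type*} [Field K] [Finite K] [CharP K 2] {T : TF K} {G : Type*} [Group G]

/-- the field automorphism as a homomorphism -/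
def faH (T : TF K) (φ : RingAut K) : Co T →* Co T := MonoidHom.mk' (fa T φ) (fa_mul φ)

/-- the action on the torus as a homomorphism -/
def apH (φ : RingAut K) : Kˣ × Kˣ →* Kˣ × Kˣ :=
  (Units.map (φ : K →* K)).prodMap (Units.map (φ : K →* K))

theorem ap_T0 (φ : RingAut K) {p : Kˣ × Kˣ} (hp : p ∈ T0 T) : ap φ p ∈ T0 T := by
  rw [mem_T0] at hp ⊢
  have := congrArg φ hp
  simpa [chi4, comm_σ, ap_fst] using this

/-- the action on the small torus -/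
def apT (T : TF K) (φ : RingAut K) : T0 T →* T0 T :=
  ((apH φ).comp (T0 T).subtype).codRestrict _ fun p => ap_T0 φ p.2

theorem ap_ap (φ ψ : RingAut K) (p : Kˣ × Kˣ) : ap φ (ap ψ p) = ap (φ * ψ) p := rfl

theorem ap_one (p : Kˣ × Kˣ) : ap 1 p = p := rfl

theorem fa_inv (φ : RingAut K) (c : Co T) : fa T φ (fa T φ⁻¹ c) = c := by
  rw [fa_fa, mul_inv_cancel, fa_one]

theorem fa_inv' (φ : RingAut K) (c : Co T) : fa T φ⁻¹ (fa T φ c) = c := by
  rw [fa_fa, inv_mul_cancel, fa_one]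

theorem fa_U8 (φ : RingAut K) {u : Co T} (h : u ∈ sU8 T) : fa T φ u ∈ sU8 T := by
  obtain ⟨h1, h2, h3, h4, h5, h6, h7, h8, h9, h10⟩ := h
  refine ⟨?_, ?_, ?_, ?_, ?_, ?_, ?_, ?_, ?_, ?_⟩ <;> simp [fa, *]

theorem ap_w8 (φ : RingAut K) (p : Kˣ × Kˣ) : w8 T (ap φ p) = ap φ (w8 T p) := by
  refine Prod.ext (Units.ext ?_) (Units.ext ?_)
  · simp [w8, ap, comm_σ]
  · simp [w8, ap]

theorem ap_w1 (φ : RingAut K) (p : Kˣ × Kˣ) : w1 (ap φ p) = ap φ (w1 p) := by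
  refine Prod.ext (Units.ext ?_) (Units.ext ?_) <;> simp [w1, ap]

/-- the twisted amalgam -/
def tw (A : AD T G) (φ : RingAut K) : AD T G where
  ι := A.ι.comp (faH T φ)
  inj := fun c d h => by
    have e : fa T φ c = fa T φ d := A.inj h
    rw [← fa_inv' φ c, e, fa_inv']
  n8 := A.n8
  h0 := A.h0.comp (apT T φ)
  h0_conj p c := by
    show A.h0 (apT T φ p) * A.ι (fa T φ c) * (A.h0 (apT T φ p))⁻¹ = A.ι (fa T φ _)
    rw [A.h0_conj, fa_dg]; rfl
  n8_sq := A.n8_sq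
  n8_conj c hc := by
    show A.n8 * A.ι (fa T φ c) * A.n8 = A.ι (fa T φ _)
    rw [A.n8_conj _ ⟨by simp [fa, hc.1], by simp [fa, hc.2]⟩, fa_nu8]
  n8_h0 p := A.n8_h0 _
  rank8 u hu h1 := by
    obtain ⟨u', hu', u'', hu'', p, e⟩ := A.rank8 (fa T φ u) (fa_U8 φ hu) fun e => h1 (by
      rw [← fa_inv' φ u, e]; exact map_one (faH T φ⁻¹))
    refine ⟨fa T φ⁻¹ u', fa_U8 _ hu', fa T φ⁻¹ u'', fa_U8 _ hu'', apT T φ⁻¹ p, ?_⟩
    show A.n8 * A.ι (fa T φ u) * A.n8 =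
      A.ι (fa T φ (fa T φ⁻¹ u')) * A.h0 (apT T φ (apT T φ⁻¹ p)) * A.n8 * A.ι (fa T φ (fa T φ⁻¹ u''))
    have : apT T φ (apT T φ⁻¹ p) = p := Subtype.ext (by
      show ap φ (ap φ⁻¹ p.1) = p.1
      rw [ap_ap, mul_inv_cancel, ap_one])
    rw [fa_inv, fa_inv, this, e]
  h := A.h.comp (apH φ)
  n1 := A.n1
  tor := ⟨fun p => A.tor.h_h0 (apT T φ p), fun p c => by
      show A.h (ap φ p) * A.ι (fa T φ c) * (A.h (ap φ p))⁻¹ = A.ι (fa T φ _)
      rw [A.tor.h_conj, fa_dg]; rfl,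
    fun p => by
      show A.n8 * A.h (ap φ p) * A.n8 = A.h (ap φ _)
      rw [A.tor.n8_h, ap_w8]⟩
  n1_sq := A.n1_sq
  n1_conj c hc := by
    show A.n1 * A.ι (fa T φ c) * A.n1 = A.ι (fa T φ _)
    rw [A.n1_conj _ (show φ c.a1 = 0 by rw [show c.a1 = 0 from hc, map_zero]), fa_nu1]
  n1_h p := by
    show A.n1 * A.h (ap φ p) * A.n1 = A.h (ap φ _)
    rw [A.n1_h, ap_w1]
  rank1 := by
    show (A.n1 * A.ι (fa T φ (x1 T 1))) ^ 3 = 1
    rw [show fa T φ (x1 T 1) = x1 T 1 by ext <;> simp [fa, x1]]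
    exact A.rank1

theorem tw_G0 (A : AD T G) (φ : RingAut K) : (tw A φ).G0 = A.G0 := by
  have e1 : Set.range (tw A φ).ι = Set.range A.ι := by
    ext g
    exact ⟨fun ⟨c, e⟩ => ⟨fa T φ c, e⟩, fun ⟨c, e⟩ => ⟨fa T φ⁻¹ c, by
      rw [← e]; exact congrArg A.ι (fa_inv φ c)⟩⟩
  have e2 : Set.range (tw A φ).h = Set.range A.h := by
    ext g
    exact ⟨fun ⟨c, e⟩ => ⟨ap φ c, e⟩, fun ⟨c, e⟩ => ⟨ap φ⁻¹ c, by
      rw [← e]
      show A.h (ap φ (ap φ⁻¹ c)) = _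
      rw [ap_ap, mul_inv_cancel, ap_one]⟩⟩
  rw [AD.G0, AD.G0, e1, e2]; rfl

theorem map_G0 {G' : Type*} [Group G'] (A : AD T G) (A' : AD T G') (f : G →* G')
    (h1 : ∀ c, f (A.ι c) = A'.ι c) (h2 : ∀ p, f (A.h p) = A'.h p) (h3 : f A.n1 = A'.n1)
    (h4 : f A.n8 = A'.n8) : A.G0.map f = A'.G0 := by
  rw [AD.G0, AD.G0, MonoidHom.map_closure, Set.image_union, Set.image_union, Set.image_pair, h3,
    h4, ← Set.range_comp, ← Set.range_comp, show f ∘ A.ι = A'.ι from funext h1,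
    show f ∘ A.h = A'.h from funext h2]

theorem bij {G' : Type*} [Group G'] [Finite G'] (A : AD T G) (A' : AD T G') (hb : A.Braid)
    (h0 : A'.G0 = ⊤) (f : G →* G')
    (h1 : ∀ c, f (A.ι c) = A'.ι c) (h2 : ∀ p, f (A.h p) = A'.h p) (h3 : f A.n1 = A'.n1)
    (h4 : f A.n8 = A'.n8) : Function.Bijective (f.comp A.G0.subtype) := by
  obtain ⟨e⟩ := H78.Par.equiv_of_hom A A' hb f h1 h2 h3 h4
  have : Finite A.G0 := Finite.of_equiv _ e.symm.toEquiv
  rw [Nat.bijective_iff_surjective_and_card]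
  refine ⟨fun g => ?_, by rw [Nat.card_congr e.toEquiv, h0, card_top]⟩
  have : g ∈ A.G0.map f := by rw [map_G0 A A' f h1 h2 h3 h4, h0]; trivial
  obtain ⟨x, hx, rfl⟩ := this
  exact ⟨⟨x, hx⟩, rfl⟩

/-- two amalgams which generate the group differ by an automorphism -/
theorem exists_aut [Finite G] (A A' : AD T G) (hb : A.Braid) (hb' : A'.Braid) (h0 : A.G0 = ⊤)
    (h0' : A'.G0 = ⊤) : ∃ α : MulAut G, (∀ c, α (A.ι c) = A'.ι c) ∧ (∀ p, α (A.h p) = A'.h p) ∧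
      α A.n1 = A'.n1 ∧ α A.n8 = A'.n8 := by
  let P := H78.Par.prodAD A A' fun _ _ _ _ => H14.Oc.rank_eq A.toCS A'.toCS
  have hP : P.Braid := Prod.ext hb hb'
  have b1 := bij P A hP h0 (MonoidHom.fst G G) (fun _ => rfl) (fun _ => rfl) rfl rfl
  have b2 := bij P A' hP h0' (MonoidHom.snd G G) (fun _ => rfl) (fun _ => rfl) rfl rfl
  have key : ∀ x ∈ P.G0, ((MulEquiv.ofBijective _ b1).symm.trans (MulEquiv.ofBijective _ b2)) x.1 =
      x.2 := fun x hx => by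
    have : (MulEquiv.ofBijective _ b1).symm x.1 = ⟨x, hx⟩ := (MulEquiv.symm_apply_eq _).2 rfl
    rw [MulEquiv.trans_apply, this]; rfl
  exact ⟨(MulEquiv.ofBijective _ b1).symm.trans (MulEquiv.ofBijective _ b2),
    fun c => key (P.ι c) (subset_closure (Or.inl (Or.inl ⟨c, rfl⟩))),
    fun p => key (P.h p) (subset_closure (Or.inl (Or.inr ⟨p, rfl⟩))),
    key P.n1 (subset_closure (Or.inr (Or.inl rfl))), key P.n8 (subset_closure (Or.inr (Or.inr rfl)))⟩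

theorem aut_ext (A : AD T G) (h0 : A.G0 = ⊤) {α β : MulAut G} (h1 : ∀ c, α (A.ι c) = β (A.ι c))
    (h2 : ∀ p, α (A.h p) = β (A.h p)) (h3 : α A.n1 = β A.n1) (h4 : α A.n8 = β A.n8) : α = β := by
  have : α.toMonoidHom = β.toMonoidHom := by
    refine MonoidHom.eq_of_eqOn_dense h0 ?_
    rintro _ ((⟨c, rfl⟩ | ⟨p, rfl⟩) | rfl | rfl)
    exacts [h1 c, h2 p, h3, h4]
  exact MulEquiv.ext fun g => DFunLike.congr_fun this g

/-- the field automorphisms of the group -/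
theorem exists_hom [Finite G] (A : AD T G) (hb : A.Braid) (h0 : A.G0 = ⊤) :
    ∃ α : RingAut K →* MulAut G, ∀ φ c, α φ (A.ι c) = A.ι (fa T φ c) := by
  choose α h1 h2 h3 h4 using fun φ => exists_aut A (tw A φ) hb hb h0 ((tw_G0 A φ).trans h0)
  have k1 : ∀ φ c, α φ (A.ι c) = A.ι (fa T φ c) := h1
  have k2 : ∀ φ p, α φ (A.h p) = A.h (ap φ p) := h2
  have k3 : ∀ φ, α φ A.n1 = A.n1 := h3
  have k4 : ∀ φ, α φ A.n8 = A.n8 := h4
  refine ⟨MonoidHom.mk' α fun φ ψ => aut_ext A h0 (fun c => ?_) (fun p => ?_) ?_ ?_, k1⟩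
  · rw [MulAut.mul_apply, k1, k1, k1, fa_fa]
  · rw [MulAut.mul_apply, k2, k2, k2, ap_ap]
  · rw [MulAut.mul_apply, k3, k3, k3]
  · rw [MulAut.mul_apply, k4, k4, k4]

theorem bor_nor (A : AD T G) : H78.Par.bor A ≤ normalizer (A.S : Set G) := by
  rintro _ ⟨s, p, rfl⟩
  have : Finite A.S := Finite.of_surjective _ A.ι.rangeRestrict_surjective
  refine mem_normalizer_fintype ?_
  rintro _ ⟨c, rfl⟩
  exact ⟨s * dg T p.1 p.2 c * s⁻¹, by rw [map_mul, map_mul, map_inv, ← A.tor.h_conj]; group⟩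

/-- the normalizer of the Sylow subgroup is the Borel subgroup -/
theorem nor_S (A : AD T G) (hb : A.Braid) (h0 : A.G0 = ⊤) {g : G} (hg : g ∈ normalizer (A.S : Set G)) :
    g ∈ H78.Par.bor A := by
  obtain ⟨c, hc⟩ := (hg (A.ι (x4 T 1))).1 ⟨_, rfl⟩
  have hz : c ∈ sZ T := by
    refine (H55.Oc.Z_iff c).2 fun d _ => ⟨1, one_mem _, A.inj ?_⟩
    obtain ⟨d', hd⟩ := (inv_mem hg (A.ι d)).1 ⟨_, rfl⟩
    have e := congrArg A.ι (H14.Oc.x4_comm (T := T) 1 d')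
    rw [map_mul, map_mul, hd] at e
    rw [mul_one, map_mul, map_mul, hc]
    calc _ = g * (A.ι (x4 T 1) * (g⁻¹ * A.ι d * g⁻¹⁻¹)) * g⁻¹ := by group
      _ = _ := by rw [← e]; group
  have h4 : c.a4 ≠ 0 := fun e => by
    rw [H14.Oc.eq_x4 hz, e, show x4 T 0 = 1 from rfl, map_one, eq_comm, conj_eq_one_iff,
      ← map_one A.ι] at hc
    exact one_ne_zero (congrArg Co.a4 (A.inj hc))
  have e : g * A.ι (x4 T 1) = A.ι (x4 T c.a4) * g := by
    rw [← H14.Oc.eq_x4 hz, hc]; group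
  have k0 : H78.Par.Cell (H78.Par.bor A) 1 g → g ∈ H78.Par.bor A := by
    rintro ⟨b, h1, b', h2, rfl⟩
    rw [mul_one]; exact mul_mem h1 h2
  have k1 : ¬ H78.Par.Cell (H78.Par.bor A) (H78.Par.al A.n8 A.n1 1) g := by
    rintro ⟨b, h1, b', h2, rfl⟩
    have hn : A.n8 ∈ normalizer (A.S : Set G) := by
      have := mul_mem (mul_mem (inv_mem (bor_nor A h1)) hg) (inv_mem (bor_nor A h2))
      rwa [show b⁻¹ * (b * H78.Par.al A.n8 A.n1 1 * b') * b'⁻¹ = A.n8 by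
        rw [show H78.Par.al A.n8 A.n1 1 = A.n8 * 1 from rfl]; group] at this
    obtain ⟨d, hd⟩ := (hn (A.ι (x8 T 1))).1 ⟨_, rfl⟩
    rw [H14.Oc.n_inv] at hd
    have := H14.Oc.nun A.toCS (u := x8 T 1) (by simp [mem_sU8, x8]) (hd ▸ H14.Oc.ι_Bo _ d)
    exact one_ne_zero (congrArg Co.a8 this)
  obtain ⟨k, hk, hc | hc⟩ := H78.Par.bruhat A hb (g := g) (h0 ▸ mem_top g)
  · rcases H78.Par.cell_x4 A hb hk (Or.inl rfl) hc one_ne_zero h4 e with rfl | ⟨rfl, e'⟩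
    · exact k0 hc
    · exact absurd (e' ▸ hc) k1
  · rcases H78.Par.cell_x4 A hb hk (Or.inr rfl) hc one_ne_zero h4 e with rfl | ⟨rfl, -⟩
    · exact k0 hc
    · exact absurd hc k1

open SemidirectProduct in
theorem jobReal : JobReal.{v} := by
  intro K _ _ _ T G _ _ A hb h0 hs Φ
  obtain ⟨α, hα⟩ := exists_hom A hb h0
  let G' := G ⋊[α.comp Φ.subtype] Φ
  have : Finite (RingAut K) := Finite.of_injective _ (DFunLike.coe_injective (F := RingAut K))
  have : Finite G' := Finite.of_equiv _ (SemidirectProduct.equivProd (φ := α.comp Φ.subtype)).symm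
  let ι : Co T →* G' := inl.comp A.ι
  have cj : ∀ (g : G) (φ : Φ) (c : Co T), (inl g * inr φ : G') * ι c * (inl g * inr φ)⁻¹ =
      inl (g * A.ι (fa T φ c) * g⁻¹) := fun g φ c => by
    rw [← hα, map_mul, map_mul, map_inv, show α φ (A.ι c) = (α.comp Φ.subtype) φ (A.ι c) from rfl,
      inl_aut, map_inv]
    show _ * inl (A.ι c) * _ = _
    group
  have h2 : IsPGroup 2 ι.range := (H55.Oc.pgroup_Co (T := T)).of_surjective _ ι.rangeRestrict_surjective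
  refine ⟨G', inferInstance, inferInstance, ι, inl_injective.comp A.inj, ?_, fun g hg => ?_,
    fun p φ hφ => ⟨inl (A.h p) * inr ⟨φ, hφ⟩, fun c => ?_⟩, ⟨inl A.n8, fun c hc => ?_⟩,
    ⟨inl A.n1, fun c hc => ?_⟩⟩
  · obtain ⟨S⟩ : Nonempty (Sylow 2 G') := inferInstance
    obtain ⟨g, hg⟩ := hs _ (S.isPGroup'.comap_of_injective (inl : G →* G') inl_injective)
    refine ⟨(inl g : G') • S, (((inl g : G') • S).is_maximal' h2 ?_).symm⟩
    intro y hy
    have hx : (inl g : G')⁻¹ * y * inl g ∈ (S : Subgroup G') := by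
      have := (Subgroup.mem_pointwise_smul_iff_inv_smul_mem).1 hy
      simpa using this
    obtain ⟨k, hk⟩ := S.isPGroup' ⟨_, hx⟩
    have hk' : (rightHom ((inl g : G')⁻¹ * y * inl g)) ^ 2 ^ k = 1 := by
      rw [← map_pow, show ((inl g : G')⁻¹ * y * inl g) ^ 2 ^ k = 1 from congrArg Subtype.val hk, map_one]
    have hodd : Odd (Nat.card Φ) := (odd_aut (T := T)).of_dvd_nat Φ.card_subgroup_dvd_card
    have h1 : rightHom ((inl g : G')⁻¹ * y * inl g) = 1 := by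
      rw [← orderOf_eq_one_iff]
      exact (Nat.coprime_self _).1 (Nat.Coprime.coprime_dvd_left (orderOf_dvd_of_pow_eq_one hk')
        (Nat.Coprime.pow_left k ((Nat.coprime_two_left.2 hodd).coprime_dvd_right
          (orderOf_dvd_natCard _))))
    obtain ⟨x, hx'⟩ : (inl g : G')⁻¹ * y * inl g ∈ (inl : G →* G').range := by
      rw [range_inl_eq_ker_rightHom]; exact h1
    obtain ⟨c, hc⟩ := hg x (by rw [mem_comap, hx']; exact hx)
    refine ⟨c, ?_⟩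
    show inl (A.ι c) = y
    rw [hc, map_mul, map_mul, map_inv, hx']; group
  · have : Finite A.S := Finite.of_surjective _ A.ι.rangeRestrict_surjective
    have e := inl_left_mul_inr_right g
    have hn : g.left ∈ normalizer (A.S : Set G) := by
      refine mem_normalizer_fintype ?_
      rintro _ ⟨c, rfl⟩
      obtain ⟨d, hd⟩ := (hg (ι (fa T (g.right : RingAut K)⁻¹ c))).1 ⟨_, rfl⟩
      rw [← e, cj, e, fa_inv] at hd
      exact ⟨d, inl_injective hd⟩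
    obtain ⟨s, p, hp⟩ := nor_S A hb h0 hn
    refine ⟨s, p, g.right, g.right.2, fun c => ?_⟩
    rw [← e, cj, e, hp]
    show _ = inl (A.ι _)
    rw [map_mul A.ι, map_mul A.ι, map_inv A.ι, sd, ← A.tor.h_conj]
    congr 1
    group
  · rw [cj, A.tor.h_conj]; rfl
  · show _ * inl (A.ι c) * _ = inl (A.ι _)
    rw [← map_inv, ← map_mul, ← map_mul, H14.Oc.cj_n _ hc]
  · show _ * inl (A.ι c) * _ = inl (A.ι _)
    rw [← map_inv, ← map_mul, ← map_mul, inv_eq_of_mul_eq_one_right A.n1_sq, A.n1_conj c hc]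

end H5.RE
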