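import Cfsg.Agent.H67.SWDef
import Cfsg.Agent.H72.SPFR

/-! STD-SP wreath endgame (row S3129), slot OC: `O(C(y)) = 1` for the involutions of `Sp_(2k)(q)`. -/

set_option autoImplicit false
set_option linter.unusedSectionVars false

namespace H5.SPWOC

open H64.SG (Cz Ns Inv2 mem_Cz isPGroup_iff_is2 odd_orderOf_of_mem)
open H67.SA (cm cm_eq_one)
open Subgroup H67.SP H67.UA H67.SW
open H72.SPF (cc mv aE jE jT iE Tc_inj)

variable {n : ℕ} {F : Type} [Field F] [StarRing F] [TrivialStar F] [CharP F 2] [Finite F]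

/-- the fixed space -/
def KK (y : XU n F) : Submodule F (Vn n F) where
  carrier := {v | ac y v = v}
  add_mem' := fun {a b} ha hb => by
    change ac y (a + b) = a + b
    rw [ac_add, show ac y a = a from ha, show ac y b = b from hb]
  zero_mem' := ac_zero y
  smul_mem' := fun c a ha => by
    change ac y (c • a) = c • a
    rw [ac_smul, show ac y a = a from ha]

/-- its perp -/
def WW (y : XU n F) : Submodule F (Vn n F) where
  carrier := {w | ∀ k, ac y k = k → hf w k = 0}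
  add_mem' := fun {a b} ha hb k hk => by rw [hf_add_left, ha k hk, hb k hk, add_zero]
  zero_mem' := fun k _ => hf_zero_left k
  smul_mem' := fun c a ha k hk => by rw [hf_smul_left, ha k hk, mul_zero]

/-- the chain `0 < W < K < V` -/
def Chn (y : XU n F) : ℕ → Submodule F (Vn n F)
  | 0 => ⊥
  | 1 => WW y
  | 2 => KK y
  | _ + 3 => ⊤

theorem eqa {u v : Vn n F} (h : u + v = 0) : u = v :=
  add_right_cancel (b := v) (by rw [h, v_add_self])

theorem mvf {g : XU n F} {z : Vn n F} (h : ac g z = z) (v : Vn n F) : hf (ac g v + v) z = 0 := by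
  rw [hf_add_left]
  conv_lhs => rw [← h, hf_ac, h]
  exact cc _

theorem jobOC : JobOC := by
  intro n F _ _ _ _ _ _ b _ _ y hy O hO hodd hN
  have : Finite (XU n F) := inferInstance
  have hyi : y⁻¹ = y := inv_eq_of_mul_eq_one_right hy.1
  have hNW : ∀ v, ac y v + v ∈ WW y := fun v k hk => mvf hk v
  have hNK : ∀ v, ac y (ac y v + v) = ac y v + v := fun v => by
    rw [ac_add, ← ac_mul, hy.1, ac_one, add_comm]
  have hK : ∀ v, (∀ z, hf v (ac y z + z) = 0) → ac y v = v := fun v h => eq_of_hf fun z => by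
    have := h z
    rw [hf_add_right] at this
    rw [hf_ac_left, hyi]
    linear_combination this - cc (hf v z)
  have hWK : WW y ≤ KK y := fun w hw => hK w fun z => hw _ (hNK z)
  obtain ⟨R, hR, hmem⟩ := FV.chain 3 (Chn y) (monotone_nat_of_le_succ fun j => by
    rcases j with _ | _ | _ | j
    exacts [bot_le, hWK, le_top, le_rfl]) rfl rfl
  have hm : ∀ g, g ∈ R ↔ (∀ v ∈ WW y, ac g v = v) ∧ (∀ v ∈ KK y, ac g v + v ∈ WW y) ∧
      ∀ v, ac g v + v ∈ KK y := fun g => by
    rw [hmem]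
    refine ⟨fun h => ⟨fun v hv => eqa (h 0 v hv), h 1, fun v => h 2 v trivial⟩, fun h j v hv => ?_⟩
    rcases j with _ | _ | _ | j
    exacts [(Submodule.mem_bot F).2 (by rw [h.1 v hv, v_add_self]), h.2.1 v hv, h.2.2 v, trivial]
  have hRC : R ≤ Cz y := fun g hg => mem_Cz.2 (ac_ext fun v => by
    obtain ⟨h1, -, h3⟩ := (hm g).1 hg
    have e1 := h1 _ (hNW v)
    have e2 : ac y (ac g v + v) = ac g v + v := h3 v
    rw [ac_add] at e1 e2
    rw [ac_mul, ac_mul, mv e1, mv e2]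
    abel)
  have cK : ∀ c ∈ Cz y, ∀ v ∈ KK y, ac c v ∈ KK y := fun c hc v hv => by
    change ac y (ac c v) = ac c v
    rw [← ac_mul, mem_Cz.1 hc, ac_mul, show ac y v = v from hv]
  have cW : ∀ c ∈ Cz y, ∀ v ∈ WW y, ac c v ∈ WW y := fun c hc v hv k hk => by
    rw [hf_ac_left]; exact hv _ (cK _ (inv_mem hc) k hk)
  have hCR : ∀ c ∈ Cz y, ∀ g ∈ R, c * g * c⁻¹ ∈ R := fun c hc g hg => by
    obtain ⟨h1, h2, h3⟩ := (hm g).1 hg
    have e : ∀ v, ac (c * g * c⁻¹) v + v = ac c (ac g (ac c⁻¹ v) + ac c⁻¹ v) := fun v => by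
      rw [ac_add, ac_mul, ac_mul, ac_ac_inv]
    refine (hm _).2 ⟨fun v hv => ?_, fun v hv => ?_, fun v => ?_⟩
    · rw [ac_mul, ac_mul, h1 _ (cW _ (inv_mem hc) v hv), ac_ac_inv]
    · rw [e]; exact cW c hc _ (h2 _ (cK _ (inv_mem hc) v hv))
    · rw [e]; exact cK c hc _ (h3 _)
  refine eq_bot_iff.2 fun o ho => mem_bot.2 ?_
  have hoR : ∀ g ∈ R, o * g * o⁻¹ = g := fun g hg => by
    have h1 : cm o g ∈ O := by
      have := mul_mem ho (H98.conj_mem_of_mem_normalizer (hN (hRC hg)) (inv_mem ho))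
      rwa [← mul_assoc, ← mul_assoc] at this
    exact mul_inv_eq_one.1 ((isPGroup_iff_is2.1 hR _ (mul_mem (hCR o (hO ho) g hg)
      (inv_mem hg))).eq_one (odd_orderOf_of_mem hodd h1))
  have hE : ∀ u ∈ WW y, ∀ x ∈ KK y, ∀ c, EE u x c ∈ R := fun u hu x hx c => by
    have p : hf x u = 0 := hf_symm (hu x hx)
    have e : ∀ v, ac (EE u x c) v + v = hf v x • u + hf v u • x + (c * hf v u) • u := fun v => by
      rw [aE p, add_comm _ v, ← add_assoc, ← add_assoc, ← add_assoc, v_add_self, zero_add]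
    refine (hm _).2 ⟨fun v hv => ?_, fun v hv => ?_, fun v => ?_⟩
    · exact ac_EE_fix (FV.ok u x c p) (hv u (hWK hu)) (hv x hx)
    · rw [e, hf_symm (hu v hv)]
      simpa using Submodule.smul_mem _ _ hu
    · rw [e]
      exact add_mem (add_mem (Submodule.smul_mem _ _ (hWK hu)) (Submodule.smul_mem _ _ hx))
        (Submodule.smul_mem _ _ (hWK hu))
  have h1 : ∀ u ∈ WW y, ac o u = u := fun u hu => by
    by_cases h0 : u = 0
    · rw [h0, ac_zero]
    · have := hoR _ (hE u hu 0 (zero_mem _) 1)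
      rw [jT] at this
      exact Tc_inj h0 one_ne_zero this.symm
  obtain ⟨u, hu, h0⟩ : ∃ u ∈ WW y, u ≠ 0 := by
    by_contra! h
    exact hy.2 (ac_ext fun v => by rw [ac_one]; exact eqa (h _ (hNW v)))
  refine (isPGroup_iff_is2.1 hR o ((hm o).2 ⟨h1, fun x hx => ?_, fun v => ?_⟩)).eq_one
    (odd_orderOf_of_mem hodd ho)
  · have p : hf x u = 0 := hf_symm (hu x hx)
    have := hoR _ (hE u hu x hx 0)
    rw [jE p, h1 u hu] at this
    obtain ⟨a, ha⟩ := iE h0 (hf_symm (hu _ (cK o (hO ho) x hx))) p this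
    rw [ha]
    exact Submodule.smul_mem _ _ hu
  · exact hK _ fun z => mvf (h1 _ (hNW z)) v

end H5.SPWOC
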