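import Cfsg.Agent.H5.ThompsonFpf
import Cfsg.Agent.H5.FrobCompl
import Cfsg.Agent.H98.Core
import Cfsg.Agent.H26.FrobConstruct
import Cfsg.Agent.H33.HallCompl
import Cfsg.Agent.H42.OddOrder

/-! Hall subgroups with trivial intersections. -/

set_option autoImplicit false

namespace H5.TIH

open Cfsg Subgroup H98

universe u w

variable {G : Type*} [Group G] [Finite G] {H K : Subgroup G}

omit [Finite G] in
theorem mem_nor (hTI : IsTISubset (H : Set G)) {g x : G} (hx : x ∈ H) (h1 : x ≠ 1)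
    (h : g * x * g⁻¹ ∈ H) : g ∈ normalizer (H : Set G) :=
  by_contra fun e => h1 (hTI g e x hx h)

omit [Finite G] in
theorem ti_cj (hTI : IsTISubset (H : Set G)) (g : G) : IsTISubset (cj g H : Set G) := by
  intro a ha x hx h
  by_contra e
  apply ha
  have h1 : g⁻¹ * x * g ∈ H := mem_cj.1 hx
  have h2 : g⁻¹ * (a * x * a⁻¹) * g ∈ H := mem_cj.1 h
  have h3 := mem_nor hTI (g := g⁻¹ * a * g) h1 (fun k => e (by
    have : x = g * (g⁻¹ * x * g) * g⁻¹ := by group
    rw [this, k]; group)) (by convert h2 using 1; group)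
  rw [← cj_normalizer]
  exact mem_cj.2 h3

omit [Finite G] in
theorem mem_of_mem_nor {y : G} (hy : y ∈ normalizer (H : Set G))
    (hc : (orderOf y).Coprime (H.relIndex (normalizer (H : Set G)))) : y ∈ H :=
  mem_of_pow_mem_of_coprime (pow_relIndex_mem_of_le_normalizer' hy) hc
where
  pow_relIndex_mem_of_le_normalizer' {y : G} (hy : y ∈ normalizer (H : Set G)) :
      y ^ H.relIndex (normalizer (H : Set G)) ∈ H :=
    (H.subgroupOf (normalizer (H : Set G))).pow_index_mem (⟨y, hy⟩ : normalizer (H : Set G))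

theorem coprime_rel (hHall : (Nat.card H).Coprime H.index) {y : G}
    (hy : ∀ q : ℕ, q.Prime → q ∣ orderOf y → q ∣ Nat.card H) (g : G) :
    (orderOf y).Coprime ((cj g H).relIndex (normalizer (cj g H : Set G))) := by
  refine Nat.coprime_of_dvd fun q hq h1 h2 => hq.one_lt.ne' ?_
  have h3 : (cj g H).index = H.index := index_map_equiv H (MulAut.conj g)
  exact Nat.eq_one_of_dvd_coprimes hHall (hy q hq h1)
    (h3 ▸ h2.trans (relIndex_dvd_index_of_le le_normalizer))

theorem exists_mem_cj (hHall : (Nat.card H).Coprime H.index) (hTI : IsTISubset (H : Set G)) {x : G}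
    (hx : ∀ q : ℕ, q.Prime → q ∣ orderOf x → q ∣ Nat.card H) : ∃ g : G, x ∈ cj g H := by
  by_cases h1 : x = 1
  · exact ⟨1, by rw [h1]; exact one_mem _⟩
  have h0 : orderOf x ≠ 1 := fun e => h1 (orderOf_eq_one_iff.1 e)
  obtain ⟨q, hq, hd⟩ := Nat.exists_prime_and_dvd h0
  have : Fact q.Prime := ⟨hq⟩
  have ho : orderOf (x ^ (orderOf x / q)) = q := orderOf_pow_orderOf_div (orderOf_pos x).ne' hd
  set y := x ^ (orderOf x / q) with hy
  obtain ⟨T, hT⟩ := exists_isSyl q H
  have hT' : IsSyl q T ⊤ := isSyl_of_not_dvd_relIndex le_top hT.isPGroup (by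
    rw [relIndex_top_right, ← relIndex_mul_index hT.le]
    intro h
    rcases (Nat.Prime.dvd_mul hq).1 h with h | h
    · exact hT.not_dvd_relIndex h
    · exact hq.one_lt.ne' (Nat.eq_one_of_dvd_coprimes hHall (hx q hq hd) h))
  obtain ⟨g, -, hg⟩ := hT'.exists_le_cj (isPGroup_zpowers (x := y) (k := 1)
    (by rw [pow_one, ← ho, pow_orderOf_eq_one])) le_top
  have h2 : y ∈ cj g H := cj_mono g hT.le (hg (mem_zpowers y))
  refine ⟨g, mem_of_mem_nor (mem_nor (ti_cj hTI g) h2 (fun e => ?_) ?_) (coprime_rel hHall hx g)⟩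
  · rw [e, orderOf_one] at ho
    exact hq.one_lt.ne ho
  · convert h2 using 1
    rw [hy]; group

theorem exists_le_cj (hHall : (Nat.card H).Coprime H.index) (hTI : IsTISubset (H : Set G))
    (hK : ∀ q : ℕ, q.Prime → q ∣ Nat.card K → q ∣ Nat.card H) : ∃ g : G, K ≤ cj g H := by
  by_contra hne
  push Not at hne
  have ord : ∀ x ∈ K, ∀ q : ℕ, q.Prime → q ∣ orderOf x → q ∣ Nat.card H := fun x hx q hq h =>
    hK q hq (h.trans (K.orderOf_dvd_natCard hx))
  have fr : ∀ x : K, x ≠ 1 → ∃ C : Subgroup K, IsFrobeniusComplement C ∧ x ∈ C := fun x hx => by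
    obtain ⟨g, hg⟩ := exists_mem_cj hHall hTI (ord x x.2)
    refine ⟨(cj g H).subgroupOf K, (isFrobeniusComplement_iff _).2 ⟨fun e => hx ?_,
      fun e => hne g (subgroupOf_eq_top.1 e), fun a y hy h1 h2 => ?_⟩, hg⟩
    · exact mem_bot.1 (e ▸ (show x ∈ (cj g H).subgroupOf K from hg))
    · exact mem_of_mem_nor (H := cj g H) (y := (a : G))
        (mem_nor (ti_cj hTI g) hy (fun e => h1 (Subtype.ext e)) h2) (coprime_rel hHall (ord a a.2) g)
  have hK0 : K ≠ ⊥ := fun e => hne 1 (e ▸ bot_le)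
  obtain ⟨x, hx⟩ := (ne_bot_iff_exists_ne_one).1 hK0
  obtain ⟨C, hC, -⟩ := fr x hx
  obtain ⟨k, hk⟩ := (ne_bot_iff_exists_ne_one).1 (frobKer_ne_bot hC)
  have hk1 : (k : K) ≠ 1 := fun e => hk (Subtype.ext e)
  obtain ⟨D, hD, hkD⟩ := fr k hk1
  have e : frobKer hC = frobKer hD := (frobKer_eq_fitting hC).trans (frobKer_eq_fitting hD).symm
  exact hk1 (eq_one_of_mem_of_mem_frobeniusKernel hkD (e.le k.2))

/-- A TI-subgroup that is a Hall subgroup of its normalizer is a Hall subgroup. -/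
theorem hall_of_ti (hTI : IsTISubset (H : Set G))
    (h : (Nat.card H).Coprime (H.relIndex (normalizer (H : Set G)))) :
    (Nat.card H).Coprime H.index := by
  refine Nat.coprime_of_dvd fun q hq h1 h2 => ?_
  have : Fact q.Prime := ⟨hq⟩
  obtain ⟨T, hT⟩ := exists_isSyl q H
  have hT0 : T ≠ ⊥ := fun e => hT.eq_bot_iff.1 e h1
  have a : IsSyl q T (normalizer (H : Set G)) :=
    isSyl_of_not_dvd_relIndex (hT.le.trans le_normalizer) hT.isPGroup (by
      rw [← relIndex_mul_relIndex T H _ hT.le le_normalizer]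
      intro k
      rcases (Nat.Prime.dvd_mul hq).1 k with k | k
      · exact hT.not_dvd_relIndex k
      · exact hq.one_lt.ne' (Nat.eq_one_of_dvd_coprimes h h1 k))
  obtain ⟨x, hx⟩ := (ne_bot_iff_exists_ne_one).1 hT0
  have b : IsSyl q T ⊤ := isSyl_of_isSyl_normalizer (a.of_le (le_inf le_top le_normalizer)
    fun g hg => mem_nor hTI (hT.le x.2) (fun e => hx (Subtype.ext e))
      (hT.le (conj_mem_of_mem_normalizer hg.2 x.2)))
  apply b.not_dvd_relIndex
  rw [relIndex_top_right]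
  exact h2.trans (index_dvd_of_le hT.le)

theorem solv_or {A N : Subgroup G} (h : (Nat.card A).Coprime (Nat.card N)) :
    Group.IsSolvable A ∨ Group.IsSolvable N := by
  rcases Nat.even_or_odd (Nat.card A) with e | e
  · exact Or.inr (H42.odd_order (Nat.coprime_two_left.1 (h.coprime_dvd_left e.two_dvd)))
  · exact Or.inl (H42.odd_order e)

/-- If all non-identity elements of `H` have the same fixed points on `N` and `H` acts nontrivially then `H` is
isomorphic to a Frobenius complement. -/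
theorem exists_frob_of_same_fixed {N : Subgroup G} (hn : H ≤ normalizer (N : Set G))
    (hc : (Nat.card H).Coprime (Nat.card N))
    (h : ∀ x ∈ H, x ≠ 1 → ∀ y ∈ N, x * y * x⁻¹ = y → y ∈ centralizer (H : Set G))
    (hne : ¬ N ≤ centralizer (H : Set G)) :
    ∃ (F : Type w) (_ : Group F) (_ : Finite F) (C : Subgroup F),
      IsFrobeniusComplement C ∧ Nonempty (H ≃* C) := by
  have hH : Nontrivial H := (nontrivial_iff_ne_bot H).2 fun e => hne (by
    rw [e, centralizer_bot']; exact le_top)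
  have ex : ∃ p : ℕ, p.Prime ∧ ∃ Q : Subgroup G, Q ≤ N ∧ IsPGroup p Q ∧ H ≤ normalizer (Q : Set G) ∧
      ¬ Q ≤ centralizer (H : Set G) := by
    by_contra k
    push Not at k
    apply hne
    refine le_trans (le_of_eq ?_) (inf_le_right (a := N))
    refine (eq_of_le_of_not_lt inf_le_left fun l => ?_).symm
    have l1 : (N ⊓ centralizer (H : Set G)).relIndex N ≠ 1 := fun e => l.not_ge (relIndex_eq_one.1 e)
    obtain ⟨p, hp, hd⟩ := Nat.exists_prime_and_dvd l1
    have : Fact p.Prime := ⟨hp⟩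
    obtain ⟨P, -, p1, p2, p3, p4⟩ := H1.exists_invariant_pgroup_relIndex H N hn hc (solv_or hc) p ⊥
      bot_le IsPGroup.of_bot (le_normalizer_bot H)
    exact p3 (hd.trans (relIndex_dvd_of_le_left N (le_inf p1 (k p hp P p1 p2 p4))))
  obtain ⟨p, hp, ex⟩ := ex
  have : Fact p.Prime := ⟨hp⟩
  obtain ⟨Q, ⟨q1, q2, q3, q4⟩, hm⟩ := WellFounded.has_min (wellFounded_lt (α := Subgroup G)) _ ex
  set D := Q ⊓ centralizer (H : Set G) with hD
  have d1 : D < Q := lt_of_le_of_ne inf_le_left fun e => q4 (e.ge.trans inf_le_right)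
  have d2 : H ≤ normalizer (D : Set G) := le_normalizer_inf q3 (le_normalizer_centralizer le_normalizer)
  have d3 : Q ≤ normalizer (D : Set G) := by
    by_contra e
    refine hm (Q ⊓ normalizer (D : Set G)) ⟨inf_le_left.trans q1, q2.to_le inf_le_left,
      le_normalizer_inf q3 (le_normalizer_normalizer d2), fun k => ?_⟩
      (lt_of_le_of_ne inf_le_left fun k => e (k.ge.trans inf_le_right))
    exact (lt_inf_normalizer q2 d1).not_ge (le_inf inf_le_left k)
  have : (D.subgroupOf Q).Normal := normal_subgroupOf_of_le_normalizer d3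
  have : Nontrivial (Q ⧸ D.subgroupOf Q) :=
    QuotientGroup.nontrivial_iff.2 fun e => d1.not_ge (subgroupOf_eq_top.1 e)
  let φ : H →* MulAut Q := H1.restrictAut (H1.conjAut H) Q (H1.conjAut_mem q3)
  have inv : ∀ a, ∀ x ∈ D.subgroupOf Q, φ a x ∈ D.subgroupOf Q := fun a x hx =>
    conj_mem_of_mem_normalizer (d2 a.2) hx
  obtain ⟨F, i1, i2, C, c1, c2, -⟩ := H26.exists_frobenius_of_fpf.{w} (quotAut φ _ inv) (by
    intro a ha x hx
    obtain ⟨x, rfl⟩ := QuotientGroup.mk_surjective x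
    rw [quotAut_mk, eq_comm, QuotientGroup.eq] at hx
    rw [QuotientGroup.eq_one_iff]
    have e1 : (x : G)⁻¹ * (a * x * (a : G)⁻¹) ∈ D := hx
    set d := (x : G)⁻¹ * (a * x * (a : G)⁻¹) with hd
    have e2 : (a : G) * d = d * a := e1.2 a a.2
    have e3 : ∀ k : ℕ, (a : G) ^ k * x * ((a : G) ^ k)⁻¹ = x * d ^ k := by
      intro k
      induction k with
      | zero => simp
      | succ k ih =>
        have e4 : (a : G) * d ^ k * (a : G)⁻¹ = d ^ k := by
          rw [(Commute.pow_right e2 k).eq]; group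
        calc (a : G) ^ (k + 1) * x * ((a : G) ^ (k + 1))⁻¹
            = a * ((a : G) ^ k * x * ((a : G) ^ k)⁻¹) * (a : G)⁻¹ := by group
          _ = (a * x * (a : G)⁻¹) * (a * d ^ k * (a : G)⁻¹) := by rw [ih]; group
          _ = x * d ^ (k + 1) := by
            rw [e4, pow_succ', ← mul_assoc (x : G), show (x : G) * d = a * x * (a : G)⁻¹ by rw [hd]; group]
    have e5 : d ^ Nat.card H = 1 := by
      have := e3 (Nat.card H)
      rw [← Subgroup.coe_pow, pow_card_eq_one'] at this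
      simpa using this
    have e6 : d = 1 := orderOf_eq_one_iff.1 (Nat.eq_one_of_dvd_coprimes hc
      (orderOf_dvd_of_pow_eq_one e5) (N.orderOf_dvd_natCard (q1 e1.1)))
    refine ⟨x.2, h a a.2 (fun e => ha (Subtype.ext e)) x (q1 x.2) ?_⟩
    have := e3 1
    rwa [pow_one, pow_one, e6, mul_one] at this)
  exact ⟨F, i1, i2, C, c1, c2⟩

end H5.TIH
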