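/- Tower NF (S1308), chapter TP, job F1. -/
import Cfsg.Agent.H86.TP.Spec

set_option autoImplicit false

namespace H5.TPF1

open Cfsg Subgroup MulAction H14 H98 H1.Gold H31.S2 H14.GC H14.FE H14.NF H86.TP
open scoped commutatorElement Pointwise

universe u

variable {G : Type u} [Group G] {Q Q' T R E : Subgroup G}

theorem comm_of_el (h : El T) {s t : G} (hs : s ∈ T) (ht : t ∈ T) : s * t = t * s := by
  have e : ∀ a ∈ T, a⁻¹ = a := fun a ha => inv_eq_of_mul_eq_one_right (h a ha)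
  rw [← e _ (T.mul_mem hs ht), mul_inv_rev, e s hs, e t ht]

theorem ER (L : LP Q Q' T R E R) : E ≤ R := L.eq.le.trans inf_le_left

theorem ET (L : LP Q Q' T R E R) {r t : G} (hr : r ∈ E) (ht : t ∈ T) : t * r = r * t :=
  (L.eq.le hr).2 t ht

theorem QR (L : LP Q Q' T R E R) {x : G} (hx : x ∈ Q) (h : x ∈ R ⊔ T) : x ∈ R := by
  obtain ⟨y, hy, t, ht, rfl⟩ := (L.memRT _).1 h
  rw [L.dis t ht ((Q.mul_mem_cancel_left (L.sylR.le hy)).1 hx), mul_one]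
  exact hy

theorem cmR (L : LP Q Q' T R E R) {n t : G} (hn : n ∈ Q ⊓ nor (R ⊔ T)) (ht : t ∈ T) :
    ⁅n, t⁆ ∈ R := by
  refine QR L ?_ ?_
  · have h : ⁅n, t⁆ = n * (t * n⁻¹ * t⁻¹) := by rw [commutatorElement_def]; group
    rw [h]
    exact Q.mul_mem hn.1 ((mem_normalizer_iff.1 (L.syl.le ht).2 _).1 (Q.inv_mem hn.1))
  · exact mul_mem ((mem_normalizer_iff.1 hn.2 _).1 (mem_sup_right ht))
      (inv_mem (mem_sup_right ht))

theorem cjR (L : LP Q Q' T R E R) {n y : G} (hn : n ∈ Q ⊓ nor (R ⊔ T)) (hy : y ∈ R) :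
    n * y * n⁻¹ ∈ R :=
  QR L (Q.mul_mem (Q.mul_mem hn.1 (L.sylR.le hy)) (Q.inv_mem hn.1))
    ((mem_normalizer_iff.1 hn.2 _).1 (mem_sup_left hy))

theorem cjE (L : LP Q Q' T R E R) (sq : Sq E R) {n r : G} (hn : n ∈ Q ⊓ nor (R ⊔ T)) (hr : r ∈ E) :
    n * r * n⁻¹ ∈ E := by
  by_contra h
  refine sq _ (cjR L hn (ER L hr)) h ?_
  rw [conj_mul, L.elE r hr, mul_one, mul_inv_cancel]

theorem fx (L : LP Q Q' T R E R) {t y z : G} (ht : t ∈ T) (h1 : t ≠ 1) (hy : y ∈ R) (hz : z ∈ R)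
    (h : ⁅t, y⁆ = ⁅t, z⁆) : y⁻¹ * z ∈ E := by
  refine L.fix t ht h1 ⟨R.mul_mem (R.inv_mem hy) hz, mem_centralizer_singleton_iff.2 ?_⟩
  calc y⁻¹ * z * t = y⁻¹ * ⁅t, z⁆⁻¹ * t * z := by rw [commutatorElement_def]; group
    _ = t * (y⁻¹ * z) := by rw [← h, commutatorElement_def]; group

variable [Finite G]

theorem clA (L : LP Q Q' T R E R) {n t : G} (hn : n ∈ Q ⊓ nor (R ⊔ T)) (ht : t ∈ T) (h1 : t ≠ 1)
    (h : ⁅n, t⁆ ∈ E) : n ∈ nor (E ⊔ T) := by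
  refine mem_normalizer_fintype fun f hf => ?_
  have hf' : f ∈ E ⊔ T := hf
  have hc : f * t = t * f := by
    obtain ⟨r, hr, s, hs, rfl⟩ := (L.memF f).1 hf'
    rw [mul_assoc, comm_of_el L.el hs ht, ← mul_assoc, ← ET L hr ht, mul_assoc]
  obtain ⟨y, hy, s, hs, e⟩ := (L.memRT _).1 ((mem_normalizer_iff.1 hn.2 f).1
    (sup_le_sup_right (ER L) T hf'))
  have e1 : n * t * n⁻¹ = ⁅n, t⁆ * t := by rw [commutatorElement_def]; group
  have e2 : y * s * (⁅n, t⁆ * t) = ⁅n, t⁆ * t * (y * s) := by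
    rw [← e, ← e1, conj_mul, conj_mul, hc]
  generalize ⁅n, t⁆ = r at h e2
  have e3 : r * y = y * r := L.cenE hy r h
  have e4 : y * t = t * y := by
    refine mul_left_cancel (a := r) (mul_right_cancel (b := s) ?_)
    calc r * (y * t) * s = y * (r * (t * s)) := by rw [← mul_assoc r, e3]; group
      _ = y * s * (r * t) := by
        rw [← comm_of_el L.el hs ht, ← mul_assoc r, ← ET L h hs]; group
      _ = r * (t * y) * s := by rw [e2]; group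
  change n * f * n⁻¹ ∈ E ⊔ T
  rw [e]
  exact mul_mem (mem_sup_left (L.fix t ht h1 ⟨hy, mem_centralizer_singleton_iff.2 e4⟩))
    (mem_sup_right hs)

theorem sur (L : LP Q Q' T R E R) {n t₀ y : G} (hn : n ∈ Q ⊓ nor (R ⊔ T)) (hF : n ∉ nor (E ⊔ T))
    (ht : t₀ ∈ T) (h1 : t₀ ≠ 1) (hy : y ∈ R) : ∃ t ∈ T, y⁻¹ * ⁅n, t⁆ ∈ E := by
  have cm : ∀ z ∈ R, ⁅t₀, z⁆ ∈ E := fun z hz => ((L.mem z).1 hz).2 t₀ ht
  let φ : T → E := fun t => ⟨⁅t₀, ⁅n, (t : G)⁆⁆, cm _ (cmR L hn t.2)⟩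
  have hi : Function.Injective φ := by
    rintro ⟨t, h⟩ ⟨t', h'⟩ e
    have e1 := fx L ht h1 (cmR L hn h) (cmR L hn h') (congrArg Subtype.val e)
    by_contra hne
    refine hF (clA L hn (T.mul_mem (T.inv_mem h) h') (fun h0 => hne ?_) ?_)
    · exact Subtype.ext (inv_mul_eq_one.1 h0)
    · have e2 : ⁅n, t⁻¹ * t'⁆ = t⁻¹ * (⁅n, t⁆⁻¹ * ⁅n, t'⁆) * t := by
        simp only [commutatorElement_def]; group
      rw [e2, ET L e1 (T.inv_mem h), inv_mul_cancel_right]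
      exact e1
  obtain ⟨t, e⟩ := ((Nat.bijective_iff_injective_and_card φ).2 ⟨hi, L.card.symm⟩).2 ⟨_, cm y hy⟩
  exact ⟨t, t.2, fx L ht h1 hy (cmR L hn t.2) (congrArg Subtype.val e).symm⟩

theorem clB (L : LP Q Q' T R E R) (sq : Sq E R) {n m : G} (hn : n ∈ Q ⊓ nor (R ⊔ T))
    (hm : m ∈ Q ⊓ nor (R ⊔ T)) (hF : n ∉ nor (E ⊔ T)) (hF' : m ∉ nor (E ⊔ T)) :
    n⁻¹ * m ∈ nor (E ⊔ T) := by
  obtain ⟨t, ht, -, -, ⟨h1, -⟩, -⟩ := L.four
  have hy := cmR L hm ht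
  obtain ⟨s, hs, hr⟩ := sur L hn hF ht h1 hy
  have inv : ∀ g : G, ∀ a ∈ T, ⁅g, a⁆ * a * (⁅g, a⁆ * a) = 1 := fun g a ha => by
    have e : ⁅g, a⁆ * a = g * a * g⁻¹ := by rw [commutatorElement_def]; group
    rw [e, conj_mul, L.el a ha, mul_one, mul_inv_cancel]
  have hyE : ⁅m, t⁆ ∉ E := fun h => hF' (clA L hm ht h1 h)
  have e1 := inv m t ht
  have e2 := inv n s hs
  have e3 : ⁅n⁻¹ * m, t⁆ = n⁻¹ * (⁅m, t⁆ * t) * n * t⁻¹ := by
    simp only [commutatorElement_def]; group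
  have e4 : s = n⁻¹ * (⁅n, s⁆ * s) * n := by simp only [commutatorElement_def]; group
  obtain ⟨r, hr', e5⟩ : ∃ r ∈ E, ⁅n, s⁆ = ⁅m, t⁆ * r := ⟨_, hr, by group⟩
  rw [e5] at e2 e4
  generalize ⁅m, t⁆ = y at hy hyE e1 e2 e3 e4
  have c1 : r * y = y * r := L.cenE hy r hr'
  have c2 : s * r = r * s := ET L hr' hs
  have e6 : y * s * (y * s) = 1 := by
    calc y * s * (y * s) = y * s * (r * r) * (y * s) := by rw [L.elE r hr', mul_one]
      _ = y * (s * r) * (r * y * s) := by group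
      _ = 1 := by rw [c1, c2, ← e2]; group
  have e7 : s * t = 1 := by
    by_contra h
    refine L.nd y hy hyE _ (T.mul_mem hs ht) h ?_
    have a1 : t * y * t = y⁻¹ := eq_inv_of_mul_eq_one_right (by rw [← e1]; group)
    have a2 : s * y * s = y⁻¹ := eq_inv_of_mul_eq_one_right (by rw [← e6]; group)
    have a3 : t⁻¹ = t := inv_eq_of_mul_eq_one_right (L.el t ht)
    have a4 : s⁻¹ = s := inv_eq_of_mul_eq_one_right (L.el s hs)
    calc ⁅s * t, y⁆ = s * (t * y * t⁻¹) * s⁻¹ * y⁻¹ := by rw [commutatorElement_def]; group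
      _ = (s * y * s⁻¹)⁻¹ * y⁻¹ := by rw [a3, a1]; group
      _ = 1 := by rw [a4, a2]; group
  have e8 : s = t := by
    rw [← inv_eq_of_mul_eq_one_right (L.el t ht)]; exact eq_inv_of_mul_eq_one_left e7
  subst e8
  refine clA L (mul_mem (inv_mem hn) hm) hs h1 ?_
  have e9 := cjE L sq (inv_mem hn) (E.inv_mem hr')
  have e10 : n⁻¹ * (y * s) * n * s⁻¹ =
      n⁻¹ * r⁻¹ * n⁻¹⁻¹ * (n⁻¹ * (y * r * s) * n) * s⁻¹ := by rw [← c1]; group
  rw [e3, e10, ← e4, mul_inv_cancel_right]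
  exact e9

theorem main (L : LP Q Q' T R E R) (sq : Sq E R) {n : G} (hn : n ∈ Q ⊓ nor (R ⊔ T)) :
    n ∈ nor (E ⊔ T) := by
  by_contra hF
  have h2 : n ^ 2 ∈ nor (E ⊔ T) := by
    have := clB L sq (inv_mem hn) hn (fun h => hF (inv_mem_iff.1 h)) hF
    rwa [inv_inv, ← pow_two n] at this
  obtain ⟨k, m, ⟨j, hj⟩, hm⟩ := Nat.exists_eq_two_pow_mul_odd (orderOf_pos n).ne'
  have hp : IsPGroup 2 (zpowers (n ^ m)) := by
    rintro ⟨_, i, rfl⟩
    refine ⟨k, Subtype.ext ?_⟩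
    change ((n ^ m) ^ i) ^ 2 ^ k = 1
    rw [← zpow_natCast, ← zpow_mul, mul_comm, zpow_mul, zpow_natCast, ← pow_mul, mul_comm, ← hm,
      pow_orderOf_eq_one, one_zpow]
  have hR : n ∈ nor R := mem_normalizer_fintype fun y hy => cjR L hn hy
  have h3 : n ^ m ∈ R := L.sylR.le_of_le_normalizer' hp (zpowers_le.2 (Q.pow_mem hn.1 m))
    (zpowers_le.2 (pow_mem hR m)) (mem_zpowers _)
  have h4 := (L.eqP.le h3).2
  rw [hj, pow_succ, pow_mul] at h4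
  exact hF ((mul_mem_cancel_left (pow_mem h2 j)).1 h4)

theorem jF1 : JobF1.{u} := by
  intro a3 G _ _ Q Q' T R E L n hn
  have h1 : n ∈ ((Q : Set G) * (T : Set G)) := by
    rw [← coe_mul_of_right_le_normalizer_left Q T (L.syl.le.trans inf_le_right)]
    exact hn.1
  obtain ⟨a, ha, s, hs, rfl⟩ := h1
  have h2 : s ∈ nor (R ⊔ T) := le_normalizer (mem_sup_right hs)
  exact mul_mem (main L (a3 G Q Q' T R E R L) ⟨ha, (mul_mem_cancel_right h2).1 hn.2⟩)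
    (le_normalizer (mem_sup_right hs))

end H5.TPF1
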