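/- U5 tower, slots L0 and L1. -/
import Cfsg.Agent.H90.U5Asm
import Cfsg.Agent.H5.RFL

set_option autoImplicit false
set_option linter.unusedSectionVars false
set_option linter.unusedSimpArgs false
set_option linter.unusedVariables false
set_option linter.unnecessarySeqFocus false
set_option linter.unreachableTactic false
set_option linter.unusedTactic false

open Subgroup H90.U5
open H90.RF (cm Au Pr Cg Ok Lg le_nor mem_nor cm_eq_one)
open H5.RL (cm_symm cm_bot au_comm)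

universe v

namespace H5.UL

variable {K : Type*} [Field K] [Finite K] {T : BF K} {E M : Subgroup (Co T)} {p : ℕ}

theorem σ_ne {x : K} (h : x ≠ 0) : T.σ x ≠ 0 := (map_ne_zero _).2 h

theorem cm_mem {s m : Co T} (hs : s ∈ E) (hm : m ∈ E) : cm s m ∈ E :=
  mul_mem (inv_mem hm) (mul_mem (mul_mem hs hm) (inv_mem hs))

theorem cm_swap {s m : Co T} (h : cm s m = 1) : cm m s = 1 := cm_eq_one.2 (cm_eq_one.1 h).symm

theorem covZ {x : Co T} {U : Subgroup (Co T)} (h : x ∈ sZ T) :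
    ∃ l : T.κ, (xg T (l * T.ω))⁻¹ * x ∈ U := by
  obtain ⟨l, hl⟩ := T.exists_ε (Z_tr h)
  refine ⟨l, ?_⟩
  rw [eq_of_Z (u := xg T (l * T.ω)) ⟨rfl, rfl, rfl, rfl, rfl⟩ h
    (by rw [hl]; simp only [xg, map_mul, l.2, BF.ε]; ring), inv_mul_cancel]
  exact one_mem _

theorem covZ2 {x : Co T} (h : x ∈ sZ2 T) {t : K} (e : x.d = t) : (xd T t)⁻¹ * x ∈ sZ T := by
  obtain ⟨h1, h2, h3, h4⟩ := h
  refine ⟨?_, ?_, ?_, ?_, ?_⟩ <;> simp [xd, *]

theorem cm_RB {s m : Co T} (hs : s ∈ sB T) (hm : m.b = 0) : cm s m ∈ sZ T :=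
  ⟨cm_a _ _, cm_b _ _, by simp [cm_c, hs.1, hs.2.1], by simp [cm_e, hs.2.1, hm],
    by simp [cm_d, hs.1, hs.2.1, hs.2.2, hm]⟩

/-! ### Level 0 -/

theorem cen0 (h : Bq p (zA T) 0 E M) {s m : Co T} (hs : s ∈ E) (hm : m ∈ M) : cm s m = 1 :=
  mem_bot.1 ((h.cen s).1 hs m hm)

theorem mem0 (h : Bq p (zA T) 0 E M) {s : Co T} (k : ∀ m ∈ M, cm s m = 1) : s ∈ E :=
  (h.cen s).2 fun m hm => mem_bot.2 (k m hm)

theorem Z_le0 (h : Bq p (zA T) 0 E M) : sZ T ≤ E := h.le.trans h.ME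

theorem no_a1 (h : Bq p (zA T) 0 E M) {m : Co T} (hm : m ∈ M) (ha : m.a ≠ 0) (hb : m.b = 0) : False := by
  have hE : ∀ s ∈ E, s.b = 0 := fun s hs => by
    have := congrArg Co.c (cen0 h hs hm)
    simpa [cm_c, hb, ha] using this
  have mX : ∀ s, s ∈ sB T ⊓ centralizer {m} ↔
      s ∈ sB T ∧ s.d * T.σ m.a - m.a * T.σ s.d + m.c * T.σ s.c - s.c * T.σ m.c = 0 := fun s => by
    rw [mem_inf, mem_centralizer_singleton_iff, ← cm_eq_one]
    refine and_congr_right fun hs => ?_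
    rw [← cm_gB hs hb]
    exact ⟨fun e => congrArg Co.g e, fun e => eq_of_Z (cm_RB hs hb) (one_mem _) e⟩
  have ne : ∀ x : T.κ, (x : K) * T.ω * m.a * T.σ m.a - m.a * T.σ (x * T.ω * m.a) = 0 → (x : K) = 0 :=
    fun x e => by
      simp only [map_mul, x.2] at e
      have : (x : K) * (m.a * T.σ m.a * T.ε) = 0 := by rw [BF.ε]; linear_combination e
      simpa [ha, T.ε_ne] using this
  have hX := h.full (B := sB T) (X := sB T ⊓ centralizer {m})
    (le_nor fun s hs c hc => Z_le0 h (cm_RB hs (hE c hc)))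
    (fun x _ y hy m hm => mem_bot.2 (cm_one x (cm_RB hy (hE m (h.ME hm)))))
    (s := xd T (T.ω * m.a)) ⟨rfl, rfl, rfl⟩ (fun k => ?_)
    (fun x hx k => ⟨hx, mem_centralizer_singleton_iff.2 (cm_eq_one.1 (cen0 h k hm))⟩) inf_le_left
    (fun l : T.κ => xd T (l * T.ω * m.a)) (fun l => xg T (l * T.ω)) (fun _ => ⟨rfl, rfl, rfl⟩)
    (fun x y k => ?_) fun m hm => covZ (cm_RB ⟨rfl, rfl, rfl⟩ (hE m (h.ME hm)))
  · have hw : ∀ c, w1 T 0 c (c * T.σ m.c / T.σ m.a) ∈ E := fun c => hX ((mX _).2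
      ⟨⟨w1_a _ _ _, w1_mem _ _ _⟩, by
        have := σ_ne (T := T) ha
        simp only [w1_c, w1_d, map_div₀, map_mul, T.sq]; field_simp; ring⟩)
    refine ha (h.gen_le (X := sZ2 T) (fun β hβ u hu _ => ?_) hm).1
    obtain ⟨l, hl⟩ := T.exists_ε (Z_tr hu)
    rw [eq_of_Z hu (cm_Q1 (w1_mem 0 1 (1 * T.σ m.c / T.σ m.a))
      (w1_mem 0 (l * T.ω) (l * T.ω * T.σ m.c / T.σ m.a))) (by
        rw [hl, cm_g2 (w1_a _ _ _) (w1_a _ _ _)]; simp only [w1_c, map_mul, map_one, l.2, BF.ε]; ring),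
      hβ.1.cm (hw _) (hw _)]
    exact cm_R (hE _ (hβ.1.mem _ (hw _))) (hE _ (hβ.1.mem _ (hw _)))
  · have := congrArg Co.g (cen0 h k hm)
    rw [cm_gB ⟨rfl, rfl, rfl⟩ hb] at this
    exact one_ne_zero (ne ⟨1, map_one _⟩ (by simpa [xd] using this))
  · have := ((mX _).1 k).2
    refine Subtype.ext (sub_eq_zero.1 (ne ⟨x - y, by rw [map_sub, x.2, y.2]⟩ ?_))
    simp [xd, x.2, y.2] at this ⊢
    linear_combination -this

theorem no_a2 (h : Bq p (zA T) 0 E M) {m : Co T} (hm : m ∈ M) (ha : m.a ≠ 0) (hb : m.b ≠ 0) : False := by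
  have hE : ∀ s ∈ E, ∃ l : T.κ, s.a = l * m.a ∧ s.b = l * m.b := fun s hs => by
    have e1 := congrArg Co.c (cen0 h hs hm)
    have e2 := congrArg Co.e (cen0 h hs hm)
    rw [cm_c, Co.one_c] at e1
    rw [cm_e, Co.one_e] at e2
    obtain ⟨l, hl⟩ := T.exists_mul hb (sub_eq_zero.1 e2)
    exact ⟨l, mul_right_cancel₀ hb (by rw [hl] at e1; linear_combination e1), hl⟩
  let B : Subgroup (Co T) :=
    { carrier := {y | y ∈ sZ3 T ∧ (y.c * T.σ m.b - m.a * y.e) * T.σ m.a =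
        m.a * T.σ (y.c * T.σ m.b - m.a * y.e)}
      one_mem' := ⟨one_mem _, by simp⟩
      mul_mem' := fun {x y} hx hy => ⟨mul_mem hx.1 hy.1, by
        have e1 := hx.2
        have e2 := hy.2
        simp only [Co.mul_c, Co.mul_e, hx.1.1, hx.1.2, map_add, map_sub, map_mul, zero_mul, map_zero] at e1 e2 ⊢
        linear_combination e1 + e2⟩
      inv_mem' := fun {x} hx => ⟨inv_mem hx.1, by
        have e1 := hx.2
        have e2 : T.σ x.e = -x.e := by linear_combination R_tr hx.1.2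
        simp only [Co.inv_c, Co.inv_e, hx.1.1, hx.1.2, map_add, map_sub, map_mul, zero_mul, map_zero, e2,
          map_neg] at e1 ⊢
        linear_combination -e1⟩ }
  have ne : ∀ w ∈ E, w ∈ sZ2 T → ∀ x : T.κ, w.d = x * T.ω * m.a → (x : K) = 0 := fun w hw hw' x e => by
    have := congrArg Co.g (cm_swap (cen0 h hw hm))
    rw [cm_gZ _ hw', e] at this
    simp only [map_mul, x.2, Co.one_g] at this
    have : (x : K) * (m.a * T.σ m.a * T.ε) = 0 := by rw [BF.ε]; linear_combination -this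
    simpa [ha, T.ε_ne] using this
  have hb' := σ_ne (T := T) hb
  refine h.no2 (B := B) (le_nor fun y hy s hs => mem0 h fun m' hm' => cm_swap ?_)
    (fun x hx y hy m _ => mem_bot.2 (cm_V hx.1.1 (Z2_le_V (cm_Z2' hy.1 m))))
    (s := xd T (T.ω * m.a)) ⟨⟨rfl, rfl⟩, by simp [xd]⟩
    (fun k => one_ne_zero (ne _ k ⟨rfl, rfl, rfl, rfl⟩ ⟨1, map_one _⟩ (by simp [xd])))
    (fun x y : T.κ => xc T (x * m.a / T.σ m.b) * xd T (y * T.ω * m.a)) (fun l => xg T (l * T.ω))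
    (fun x y => ⟨⟨by simp [xc, xd], by simp [xc, xd]⟩, by simp [xc, xd, hb', x.2, T.sq]; field_simp⟩)
    (fun x y x' y' k => ?_) fun m _ => covZ (cm_symm (cm_Z m ⟨rfl, rfl, rfl, rfl⟩))
  · obtain ⟨l, h1, h2⟩ := hE s hs
    obtain ⟨l', h3, -⟩ := hE m' (h.ME hm')
    refine eq_of_Z (cm_Z _ (cm_Z2' hy.1 s)) (one_mem _) ?_
    have e := hy.2
    rw [cm_gZ _ (cm_Z2' hy.1 s), cm_d, h1, h2, h3]
    simp only [hy.1.1, hy.1.2, map_add, map_sub, map_mul, zero_mul, map_zero, mul_zero, l.2, l'.2,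
      Co.one_g] at e ⊢
    linear_combination -(l * l') * e
  · have e1 := congrArg Co.d (cen0 h k hm)
    have e2 : (x' : K) * m.a / T.σ m.b = x * m.a / T.σ m.b := by
      simp [cm_d, xc, xd, hb'] at e1
      linear_combination e1
    have e3 : x = x' := Subtype.ext (by field_simp at e2; exact e2.symm)
    subst e3
    refine ⟨rfl, Subtype.ext (sub_eq_zero.1 (ne _ (inv_mem k) ?_ ⟨y - y', by rw [map_sub, y.2, y'.2]⟩ ?_))⟩
    · refine ⟨?_, ?_, ?_, ?_⟩ <;> simp [xc, xd]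
    · simp [xc, xd]; ring

theorem V_le0 (h : Bq p (zA T) 0 E M) (hM : M ≤ sQ2 T) : sV T ≤ E := fun s hs =>
  mem0 h fun m hm => cm_swap (cm_V (hM hm) hs)

theorem no_b (h : Bq p (zA T) 0 E M) (hE : E ≤ sQ2 T) {m : Co T} (hm : m ∈ M) (hV : m ∉ sV T) :
    False := by
  have hM := h.ME.trans hE
  have ha : m.a = 0 := hM hm
  have hl : ∀ m' ∈ M, ∃ l : T.κ, m'.c = l * m.c ∧ m'.b = l * m.b := fun m' hm' => by
    have ha' : m'.a = 0 := hM hm'
    have e := cen0 h (h.ME hm') hm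
    have e1 := congrArg Co.e e
    have e2 := congrArg Co.d e
    have e3 := congrArg Co.g e
    rw [cm_e, Co.one_e] at e1
    rw [cm_g2 ha' ha, Co.one_g] at e3
    simp only [cm_d, ha, ha', zero_mul, Co.one_d, sub_zero, zero_add, sub_self] at e2
    by_cases hb : m.b = 0
    · have hc : m.c ≠ 0 := fun e => hV ⟨ha, hb, e⟩
      obtain ⟨l, hl⟩ := T.exists_mul hc (sub_eq_zero.1 e3).symm
      exact ⟨l, hl, by simpa [hb, hc] using e2⟩
    · obtain ⟨l, hl⟩ := T.exists_mul hb (sub_eq_zero.1 e1)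
      refine ⟨l, mul_right_cancel₀ (σ_ne (T := T) hb) ?_, hl⟩
      rw [hl, map_mul, l.2] at e2
      linear_combination e2
  have key : ∀ f : K → Co T, (∀ t, f t ∈ sQ2 T) → f 0 = 1 → (∀ t t', (f t)⁻¹ * f t' ∈ E → t = t') →
      False := fun f hf f0 inj => by
    refine h.no2 (B := sQ2 T) (le_nor fun s hs c hc => V_le0 h hM (cm_Q2 hs (hE hc)))
      (fun x hx y hy m hm => mem_bot.2 (cm_V hx (cm_Q2 hy (hM hm)))) (hf 1)
      (fun k => zero_ne_one (inj 0 1 (by rwa [f0, inv_one, one_mul])))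
      (fun x y : T.κ => f (x + y * T.ω)) (fun l => cm (f 1) (w2 T (l * m.c) (l * m.b))) (fun _ _ => hf _)
      (fun x y x' y' k => T.pair_inj (inj _ _ k)) fun m' hm' => ?_
    obtain ⟨l, h1, h2⟩ := hl m' hm'
    refine ⟨l, mem_bot.2 (inv_mul_eq_one.2 ?_)⟩
    have a1 : (f 1).a = 0 := hf 1
    have a2 : m'.a = 0 := hM hm'
    have a3 : (w2 T (l * m.c) (l * m.b)).a = 0 := w2_mem _ _
    ext <;> simp [cm_c, cm_e, cm_d, cm_g2 a1 a2, cm_g2 a1 a3, a1, a2, a3, h1, h2]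
  by_cases hb : m.b = 0
  · have hc : m.c ≠ 0 := fun e => hV ⟨ha, hb, e⟩
    refine key (xb T) (fun _ => rfl) (by ext <;> simp [xb]) fun t t' k => ?_
    have e := congrArg Co.d (cen0 h k hm)
    simp [cm_d, xb, ha, hb, hc] at e
    exact T.inj (by linear_combination -e)
  · refine key (xc T) (fun _ => rfl) (by ext <;> simp [xc]) fun t t' k => ?_
    have e := congrArg Co.d (cen0 h k hm)
    simp [cm_d, xc, ha, hb] at e
    linear_combination -e

theorem no_c [Fact p.Prime] [CharP K p] (h : Bq p (zA T) 0 E M) (hM : M ≤ sQ2 T) {x : Co T} (hx : x ∈ E)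
    (ha : x.a ≠ 0) {m : Co T} (hm : m ∈ M) (hV : m ∉ sV T) : False := by
  have h1 : m.a = 0 := hM hm
  have h2 : m.b = 0 := by simpa [cm_c, h1, ha] using congrArg Co.c (cen0 h hx hm)
  by_cases two : (2 : K) = 0
  · obtain rfl : p = 2 := (Nat.prime_dvd_prime_iff_eq Fact.out Nat.prime_two).1
      ((CharP.cast_eq_zero_iff K p 2).1 (by exact_mod_cast two))
    have e := congrArg Co.g (mem_bot.1 (h.pw m hm))
    simp [pow_two, h1, h2] at e
    exact hV ⟨h1, h2, T.nm_zero (by linear_combination m.g * two - e)⟩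
  · refine hV (Z2_le_V (h.gen_le (fun β hβ u hu _ => ?_) hm))
    have ha' := σ_ne (T := T) ha
    obtain ⟨t, ht⟩ := T.exists_sub (e := -u.g / (2 * (x.a * T.σ x.a))) (by
      have := Z_tr hu
      rw [map_div₀, map_mul, map_mul, T.sq, map_ofNat, map_neg]; field_simp; linear_combination -this)
    have hy : xe T t ∈ E := V_le0 h hM ⟨rfl, rfl, rfl⟩
    have h3 : cm x (xe T t) ∈ sZ2 T := cm_Z2 x ⟨rfl, rfl⟩
    rw [eq_of_Z hu (cm_Z x h3) ?_, hβ.1.cm hx (cm_mem hx hy), hβ.1.cm hx hy]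
    · exact cm_Z2 _ (cm_Z3 _ _)
    · have e : u.g = -(2 * (x.a * T.σ x.a)) * (t - T.σ t) := by rw [← ht]; field_simp
      rw [cm_gZ x h3, e]
      simp [cm_d, xe, T.sq]; ring

theorem jobL0 : JobL0.{v} := by
  intro p _ K _ _ _ T E M h
  have hM : M ≤ sQ2 T := fun m hm => by
    by_contra ha
    by_cases hb : m.b = 0
    exacts [no_a1 h hm ha hb, no_a2 h hm ha hb]
  have hV : M ≤ sV T := fun m hm => by
    by_contra hV
    by_cases hE : E ≤ sQ2 T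
    · exact no_b h hE hm hV
    · obtain ⟨x, hx, ha⟩ := SetLike.not_le_iff_exists.1 hE
      exact no_c h hM hx ha hm hV
  have hQ : sQ2 T ≤ E := fun s hs => mem0 h fun m hm => cm_V hs (hV hm)
  refine le_antisymm (fun x hx => ?_) hQ
  by_contra ha
  have ha : x.a ≠ 0 := ha
  have ha' := σ_ne (T := T) ha
  refine h.not_le (X := sZ T) (fun c hc s => mem_bot.2 (cm_one s hc)) (h.gen_le fun β hβ u hu _ => ?_)
  obtain ⟨l, hl⟩ := T.exists_ε (Z_tr hu)
  have m1 : ∀ t, xb T t ∈ E := fun t => hQ rfl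
  have h3 := cm_Z2 (xb T (-(l * T.ω) / (x.a * T.σ x.a))) (cm_Z3 x (xb T 1))
  rw [eq_of_Z hu (cm_Z x h3) ?_, hβ.1.cm hx (cm_mem (m1 _) (cm_mem hx (m1 _))),
    hβ.1.cm (m1 _) (cm_mem hx (m1 _)), hβ.1.cm hx (m1 _)]
  · exact cm_Z _ (cm_Z2 _ (cm_Z3 _ _))
  · rw [cm_gZ x h3, hl, cm_d, cm_c]
    simp [xb, T.sq, l.2, BF.ε]; field_simp; ring

/-! ### Levels 1 and 2 -/

theorem cen1 (h : Bq p (zA T) 1 E M) {s m : Co T} (hs : s ∈ E) (hm : m ∈ M) : cm s m ∈ sZ T :=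
  (h.cen s).1 hs m hm

theorem le_R (h : Bq p (zA T) 1 E M) : M ≤ sR T := fun m hm => by
  by_contra hb
  have hb : m.b ≠ 0 := hb
  have hZ : sZ2 T ≤ E := h.le.trans h.ME
  have inj : ∀ t t', (xc T t)⁻¹ * xc T t' ∈ E → t = t' := fun t t' k => by
    have e := (cen1 h k hm).2.2.2.2
    simp [cm_d, xc, hb] at e
    linear_combination -e
  refine h.no2 (B := sZ3 T) (le_nor fun s hs c _ => hZ (cm_Z2' hs c))
    (fun x _ y hy m _ => cm_Z x (cm_Z2' hy m)) (s := xc T 1) ⟨rfl, rfl⟩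
    (fun k => zero_ne_one (inj 0 1 (by
      rwa [show xc T 0 = 1 by ext <;> simp [xc], inv_one, one_mul])))
    (fun x y : T.κ => xc T (x + y * T.ω)) (fun l => xd T (l * T.σ m.b)) (fun _ _ => ⟨rfl, rfl⟩)
    (fun x y x' y' k => T.pair_inj (inj _ _ k)) fun m' hm' => ?_
  have e := (cen1 h (h.ME hm') hm).2.2.2.1
  rw [cm_e] at e
  obtain ⟨l, hl⟩ := T.exists_mul hb (sub_eq_zero.1 e)
  exact ⟨l, covZ2 (cm_Z2' ⟨rfl, rfl⟩ _) (by simp [cm_d, xc, hl, l.2])⟩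

theorem le_Q1 (h : Bq p (zA T) 1 E M) : M ≤ sQ1 T := fun m hm => by
  have hM := le_R h
  have hb : m.b = 0 := hM hm
  refine ⟨hb, by_contra fun he => ?_⟩
  have hZ : sZ2 T ≤ E := h.le.trans h.ME
  have inj : ∀ t t', (xa T t)⁻¹ * xa T t' ∈ E → t = t' := fun t t' k => by
    have e := (cen1 h k hm).2.2.2.2
    simp [cm_d, xa, hb, he] at e
    linear_combination -e
  have hN : sR T ≤ normalizer (E : Set (Co T)) := by
    by_cases hE : E ≤ sR T
    · exact le_nor fun s hs c hc => hZ (cm_R hs (hE hc))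
    · obtain ⟨x, hx, hx'⟩ := SetLike.not_le_iff_exists.1 hE
      have hx' : x.b ≠ 0 := hx'
      refine le_nor fun s _ c _ => (h.cen _).2 fun m hm => ?_
      have h1 : m.b = 0 := hM hm
      have h2 : m.a = 0 := by simpa [cm_c, h1, hx'] using (cen1 h hx hm).2.2.1
      exact ⟨cm_a _ _, cm_b _ _, by rw [cm_c]; simp, by rw [cm_e]; simp [h1], by rw [cm_d]; simp [h1, h2]⟩
  refine h.no2 hN (fun x _ y hy m hm => cm_Z x (cm_R hy (hM hm))) (s := xa T 1) rfl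
    (fun k => zero_ne_one (inj 0 1 (by
      rwa [show xa T 0 = 1 by ext <;> simp [xa], inv_one, one_mul])))
    (fun x y : T.κ => xa T (x + y * T.ω)) (fun l => xd T (l * T.ε)) (fun _ _ => rfl)
    (fun x y x' y' k => T.pair_inj (inj _ _ k)) fun m' hm' => ?_
  have h1 : m'.b = 0 := hM hm'
  obtain ⟨l, hl⟩ := T.exists_ε (R_tr h1)
  exact ⟨l, covZ2 (cm_R rfl h1) (by simp [cm_d, xa, hl, h1])⟩

theorem lev1 (h : Bq p (zA T) 1 E M) : E = sQ1 T := by
  have hM := le_Q1 h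
  by_cases ha : ∀ m ∈ M, m.a = 0
  · have hn := h.not_le (X := sZ2 T) fun c hc s => cm_Z s hc
    obtain ⟨m, hm, hm'⟩ := SetLike.not_le_iff_exists.1 hn
    have hc : m.c ≠ 0 := fun e => hm' ⟨ha m hm, (hM hm).1, e, (hM hm).2⟩
    have hR : sR T ≤ E := fun s hs => (h.cen s).2 fun m hm =>
      cm_symm (X := sZ T) (cm_RB ⟨ha m hm, hM hm⟩ hs)
    have hE : E ≤ sR T := fun s hs => by
      have e := (cen1 h hs hm).2.2.2.2
      simpa [mem_sR, cm_d, ha m hm, (hM hm).1, (hM hm).2, hc] using e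
    refine absurd (h.gen_le fun β hβ u hu _ => ?_) hn
    have m1 : xa T (u.d / T.ε) ∈ sR T := rfl
    have m2 : xe T T.ω ∈ sR T := rfl
    have m3 : (cm (xa T (u.d / T.ε)) (xe T T.ω))⁻¹ * u ∈ sZ T := by
      refine (Q1_mod (Z2_le_Q1 (cm_R m1 m2)) (Z2_le_Q1 hu)).2 ⟨by simp [hu.1], ?_, ?_⟩
      · simp [cm_c, xa, xe, hu.2.2.1]
      · have := T.ε_ne
        simp [cm_d, xa, xe]
        rw [← BF.ε]; field_simp
    rw [← mul_inv_cancel_left (cm (xa T (u.d / T.ε)) (xe T T.ω)) u,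
      hβ.1.mul _ (cm_mem (hR m1) (hR m2)) _ (hR (Q1_le (Z2_le_Q1 (Z_le m3)))), hβ.1.cm (hR m1) (hR m2)]
    exact mul_mem (cm_R (hE (hβ.1.mem _ (hR m1))) (hE (hβ.1.mem _ (hR m2)))) (Z_le (hβ.2 1 le_rfl _ m3))
  · push Not at ha
    obtain ⟨m, hm, ha⟩ := ha
    refine le_antisymm (fun s hs => ?_) fun s hs => (h.cen s).2 fun m hm => cm_Q1 hs (hM hm)
    obtain ⟨-, -, e1, -, e2⟩ := cen1 h hs hm
    have h1 : s.b = 0 := by simpa [cm_c, (hM hm).1, ha] using e1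
    exact ⟨h1, by simpa [cm_d, (hM hm).1, (hM hm).2, ha, h1] using e2⟩

theorem mem_Q2 {s : Co T} (h : ∀ z ∈ sZ2 T, cm s z = 1) : s ∈ sQ2 T :=
  (T.lin_zero (x := -T.σ s.a) (y := s.a) fun t => by
    have e := congrArg Co.g (h (xd T t) ⟨rfl, rfl, rfl, rfl⟩)
    rw [cm_gZ _ ⟨rfl, rfl, rfl, rfl⟩] at e
    simp only [xd, Co.one_g] at e
    linear_combination e).2

theorem mem_V {w : Co T} (ha : w.a = 0) (h : ∀ t, cm (xc T t) w = 1) : w ∈ sV T := by
  have e := congrArg Co.d (h 1)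
  refine ⟨ha, by simpa [cm_d, xc] using e, (T.lin_zero (x := -T.σ w.c) (y := w.c) fun t => ?_).2⟩
  have e := congrArg Co.g (h t)
  rw [cm_g2 rfl ha] at e
  simp only [xc, Co.one_g] at e
  linear_combination e

theorem lev2 (h : Bq p (zA T) 2 E M) : False := by
  have hZ : sZ3 T ≤ E := h.le.trans h.ME
  have hM : M ≤ sQ2 T := h.gen_le fun β hβ u hu _ => mem_Q2 fun z hz => mem_bot.1
    (hβ.1.cm_mem (U := ⊥) ((Z2_le_V.trans V_le).trans hZ) (hβ.2 2 le_rfl)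
      (fun c hc => by rw [mem_bot.1 hc, hβ.1.one]; exact one_mem _) (hZ hu)
      (fun y hy => mem_bot.2 (cm_V hu.1 (Z2_le_V hy))) z hz)
  obtain ⟨m, hm, hm'⟩ := SetLike.not_le_iff_exists.1 (h.not_le (X := sZ3 T) fun c hc s => cm_Z2 s hc)
  have ha : m.a = 0 := hM hm
  have hb : m.b ≠ 0 := fun e => hm' ⟨ha, e⟩
  have hE : E ≤ sQ2 T := fun s hs => by
    have e := ((h.cen s).1 hs m hm).2.2.1
    simpa [mem_sQ2, cm_c, ha, hb] using e
  have k := h.red (sV T) Z2_le_V (V_le.trans hZ) (fun β hβ u hu => mem_V (hE (hβ.1.mem u (hZ (V_le hu))))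
    fun t => cm_eq_one.2 (au_comm hβ.1 (hZ (V_le hu)) (fun c hc => cm_eq_one.1 (cm_V (hE hc) hu)) _
      (hZ ⟨rfl, rfl⟩))) (xb T (T.ω * m.b)) (mem_nor fun c _ => hZ (cm_Z3 _ _))
    (fun m hm => cm_Q2 rfl (hM hm)) fun m _ hm => by rw [cm_V rfl hm]; exact one_mem _
  have e := ((h.cen _).1 k m hm).2.2.2
  rw [cm_e] at e
  simp only [xb, map_mul] at e
  have : m.b * T.σ m.b * T.ε = 0 := by rw [BF.ε]; linear_combination e
  simp [hb, T.ε_ne] at this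

theorem jobL1 : JobL1.{v} := fun _ _ _ _ _ _ _ => ⟨fun _ _ => lev1, fun _ _ => lev2⟩

end H5.UL
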