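import Cfsg.Agent.H64.YEKit2

/-! STD-SP endgame (row S3129), slot CA: `C_K(Z)` normalises `Q`. -/

set_option autoImplicit false
set_option linter.unusedSectionVars false

namespace H5.YECA

open H64.SG (O2 Syl Cz Cs Ns cjs Is2 Inv2 UF IsO2 fx mem_Cz mem_Cs is2_of_sq isPGroup_iff_is2
  Cs_le_Ns)
open Subgroup H67.UA H67.SP H64.YE
open H67.SA (cm mem_sup_zp)
open H59.SO (Ind CE ind_conj map_mem_Cs mem_Cs_map)

universe u

variable {n : ℕ} {F : Type} [Field F] [StarRing F] [TrivialStar F] [CharP F 2] [Finite F]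
  {Y : Type} [Group Y] [Finite Y] [QS Y] {G : Type u} [Group G] [Finite G] {ι : XU n F →* Y}
  {τ : MulAut Y} {Gd Go : XU n F → Prop} {U : Subgroup Y} {e : XU n F →* G} {t : G} {Φ : Y →* G}
  {K₀ : Subgroup G} {r : Y} {Z Q P : Subgroup Y}

theorem main (gc : JobGC.{u}) (h : E1 ι τ Gd Go U e t Φ K₀) (rd : RD ι τ Go U r Z Q)
    (ra : RA τ Z Q P) (pe : PE Φ Z P) (sc : SC U Φ K₀ Z Q)
    (c1 : ∀ O : Subgroup G, Odd (Nat.card O) → t ∈ Ns O → (Cs Z).map Φ ≤ Ns O →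
      O ⊓ Ns Φ.range ≤ Ns (Q.map Φ) → O ≤ Cs (Q.map Φ)) : CN Φ K₀ Z Q := by
  have hk := h.ker
  have hQ : IsPGroup 2 Q := h.syl.2.1.to_le rd.qu
  have hQ2 := isPGroup_iff_is2.1 hQ
  have ht2 : t * t = 1 := h.uf.inv.1
  have htH : t ∈ Cs (Z.map Φ) := mem_Cs_map.2 fun z hz => (h.act.comm (ra.tz z hz)).symm
  have hCH : (Cs Z).map Φ ≤ Cs (Z.map Φ) := by
    rintro _ ⟨y, hy, rfl⟩; exact map_mem_Cs hy
  have hTH : U.map Φ ⊔ zpowers t ≤ Cs (Z.map Φ) :=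
    sup_le ((map_mono rd.uz).trans hCH) (zpowers_le.2 htH)
  have hτQ : τ ∈ H67.SA.St Q := rd.stq τ (rd.str τ rd.tr)
  have hMH : Ns Φ.range ⊓ Cs (Z.map Φ) ≤ Ns (Q.map Φ) := fun m ⟨hm, hc⟩ => by
    obtain ⟨β, hβ⟩ := exists_ind hk hm
    exact hβ.mem_Ns_map (rd.stq β (rd.str β ((ind_comm_iff hk hβ (is2_of_sq rd.inv.1)).1
      (mem_Cs_map.1 hc r rd.rz).symm)))
  have hsc0 : ∀ y ∈ Q, ∀ g ∈ K₀, g ∈ Cs (Z.map Φ) → g * Φ y * g⁻¹ ∈ U.map Φ ⊔ zpowers t →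
      g * Φ y * g⁻¹ ∈ Q.map Φ := fun y hy g hg hc hT => by
    refine sc y hy g hg hc ?_
    have h1 : g * Φ y * g⁻¹ ∈ K₀ := mul_mem (mul_mem hg (h.le ⟨y, rfl⟩)) (inv_mem hg)
    rcases (mem_sup_zp (h.act.mem_Ns_map h.stU) ht2).1 hT with h2 | h2
    · exact h2
    · exact absurd ((mul_mem_cancel_left h1).1 (h.le (map_le_range Φ U h2))) h.nt
  rcases gc G (Ns Φ.range) (Cs (Z.map Φ)) (U.map Φ ⊔ zpowers t) (Z.map Φ) (Q.map Φ)
    ⟨hTH, h.sylS.2.1, by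
      have h1 := h.sylS.2.2
      rw [relIndex_top_right, ← relIndex_mul_index hTH] at h1
      exact (Nat.odd_mul.1 h1).1⟩ (map_mono rd.zq) ((map_mono rd.qu).trans le_sup_left) le_rfl
    (by rintro _ ⟨y, hy, rfl⟩; exact ⟨_, rd.sq y hy, map_mul Φ y y⟩)
    (by
      rintro _ ⟨y, hy, rfl⟩ g hg hT
      rcases h.top g with h1 | h1
      · exact hsc0 y hy g h1 hg hT
      · have h2 : g * Φ y * g⁻¹ = g * t * Φ (τ y) * (g * t)⁻¹ := by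
          have h3 : τ (τ y) = y := by rw [← MulAut.mul_apply, h.t2, MulAut.one_apply]
          conv_lhs => rw [← h3, ← h.act]
          group
        rw [h2] at hT ⊢
        exact hsc0 _ ((hτQ y).1 hy) _ h1 (mul_mem hg htH) hT) hMH with
    ⟨O, hOH, hO, hN, hdec⟩ | ⟨N, B, gd⟩
  · have h1 := c1 O hO (hN (le_normalizer htH)) (hCH.trans (le_normalizer.trans hN))
      fun o ho => hMH ⟨ho.2, hOH ho.1⟩
    intro g hg
    obtain ⟨o, ho, m, hm, rfl⟩ := hdec g hg.2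
    exact mul_mem (Cs_le_Ns _ (h1 ho)) hm.2
  · exfalso
    have hPB : P.map Φ ≤ Ns B := pe.trans ((closure_le _).2 fun s hs =>
      (gd.inv s hs.2.1 hs.1 hs.2.2).2)
    have hB : Q ⊓ B.comap Φ ≤ Z := by
      refine (ra.irr (Q ⊓ B.comap Φ) (fun z hz => ⟨rd.zq hz, gd.vb ⟨z, hz, rfl⟩⟩) inf_le_left
        fun p hp => mem_normalizer_fintype fun y hy => ?_).resolve_right fun h1 => ?_
      · have h1 : Φ (p * y * p⁻¹) ∈ B := by
          rw [map_mul, map_mul, map_inv]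
          exact H98.conj_mem_of_mem_normalizer (hPB ⟨p, hp, rfl⟩) hy.2
        exact ⟨(mem_map2 hk hQ ((hQ2 y hy.1).conj p)).1 (gd.bq h1), h1⟩
      · obtain ⟨_, ⟨y, hy, rfl⟩, -, -, h2, -⟩ := gd.four
        exact h2 (h1 hy).2
    obtain ⟨x, hx, y, hy, hxZ, hyZ, hne⟩ := ra.sqs
    obtain ⟨d, -, -, hdB, hb⟩ := gd.tr (Φ x) ⟨x, hx, rfl⟩ (Φ y) ⟨y, hy, rfl⟩
      (fun h1 => hxZ (hB ⟨hx, h1⟩)) fun h1 => hyZ (hB ⟨hy, h1⟩)
    obtain ⟨z, hz, ez⟩ := gd.bq hb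
    have hzZ : z ∈ Z := hB ⟨hz, (ez ▸ hb : Φ z ∈ B)⟩
    have h1 : d * Φ x * d⁻¹ = Φ (z * y) := by rw [map_mul, ez, inv_mul_cancel_right]
    have h2 : z * y * (z * y) = y * y := by
      have h3 : z * y = y * z := rd.uz (rd.qu hy) z hzZ
      calc z * y * (z * y) = y * z * (z * y) := by rw [← h3]
        _ = y * (z * z) * y := by group
        _ = y * y := by rw [rd.z2 z hzZ, mul_one]
    have h3 : Φ (x * x) * d = d * Φ (x * x) := hdB _ (gd.vb ⟨_, rd.sq x hx, rfl⟩)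
    refine hne (inj2 hk (hQ2 _ (mul_mem hx hx)) (hQ2 _ (mul_mem hy hy)) ?_)
    rw [← h2, map_mul Φ (z * y), ← h1, ← mul_inv_eq_iff_eq_mul.2 h3.symm, map_mul]
    group

theorem jobCA : JobCA.{u} := by
  intro gc n F _ _ _ _ _ _ G _ _ e t Y _ _ _ ι τ Gd Go U Φ K₀ h r Z Q P rd ra pe sc
  exact main gc h rd ra pe sc fun O h1 h2 h3 h4 => h.case1 rd h1 h2 h3 h4

end H5.YECA
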